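import Cfsg.Agent.Lib.TwoGen.UnitPair
import Cfsg.Agent.Lib.ClassicalSimple.UnitaryMatrix

/-!
Two generators for `PSU_n(q)`.
-/

set_option autoImplicit false

namespace Cfsg.Agent.TwoGen

open Cfsg.Agent.CurtisTits Cfsg.Agent.CurtisTits.DType
open Cfsg.Agent.ClassicalSimple

variable {F : Type*} [Field F] [Fintype F] {q n : ℕ}

/-- The vector `k (ε_{2i} + r ε_{2i+1})`. -/
noncomputable def planeVec {m : ℕ} (hmn : 2 * m ≤ n) (i : Fin m) (k r : F) : Fin n → F :=
  k • Pi.single ⟨2 * i.val, by have := i.isLt; omega⟩ 1 + (k * r) • Pi.single ⟨2 * i.val + 1, by have := i.isLt; omega⟩ 1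

theorem hermB_single (hF : Fintype.card F = q ^ 2) (j : Fin n) (v : Fin n → F) :
    Forms.hermB hF n (Pi.single j 1) v = v j := by
  have hq : q ≠ 0 := fun e => by rw [e] at hF; simp at hF
  rw [Forms.hermB_apply, Cfsg.hermForm, Finset.sum_eq_single j]
  · simp
  · intro i _ hi; simp [hi, hq]
  · simp

theorem hermB_planeVec (hF : Fintype.card F = q ^ 2) {m : ℕ} (hmn : 2 * m ≤ n) (i : Fin m) (k r : F)
    (v : Fin n → F) : Forms.hermB hF n (planeVec hmn i k r) v =
      Forms.qEnd hF k * v ⟨2 * i.val, by have := i.isLt; omega⟩ +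
      Forms.qEnd hF (k * r) * v ⟨2 * i.val + 1, by have := i.isLt; omega⟩ := by
  simp only [planeVec, map_add, map_smulₛₗ, LinearMap.add_apply, LinearMap.smul_apply, smul_eq_mul,
    hermB_single]

/-- Two generators of `SU_n(q)`. -/
theorem exists_pair_su (hF : Fintype.card F = q ^ 2) (hn : 3 ≤ n) (h32 : n = 3 → q ≠ 2) :
    ∃ a b : Cfsg.SU n F q, Subgroup.closure ({a, b} : Set (Cfsg.SU n F q)) = ⊤ := by
  set h := Forms.hermB hF n with hhdef
  have hh : IsUnitaryForm (Forms.qEnd hF) h := hermB_isUnitary hF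
  have hσ : ∀ x, (Forms.qEnd hF) x = x ^ q := fun x => Forms.qEnd_apply hF x
  -- two distinct scalars of norm `-1`
  obtain ⟨r, hr⟩ := hh.exists_norm_eq (c := (-1 : F)) (by simp)
  have hr0 : r ≠ 0 := fun e => by rw [e, mul_zero] at hr; exact one_ne_zero (neg_eq_zero.1 hr.symm)
  obtain ⟨μ, hμ1, hμ⟩ : ∃ μ : F, μ ≠ 1 ∧ (Forms.qEnd hF) μ * μ = 1 := by
    obtain ⟨t, ht0, ht⟩ := hh.exists_skew
    obtain ⟨a, ha⟩ := hh.ne_id
    have ha0 : a ≠ 0 := fun e => ha (by rw [e, map_zero])
    refine ⟨(Forms.qEnd hF) a / a, fun e => ha ((div_eq_one_iff_eq ha0).1 e), ?_⟩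
    rw [map_div₀, hh.invol]
    have : (Forms.qEnd hF) a ≠ 0 := (map_ne_zero (Forms.qEnd hF)).2 ha0
    field_simp
  set r' := r * μ with hr'def
  have hr' : (Forms.qEnd hF) r' * r' = -1 := by rw [hr'def, map_mul]; linear_combination ((Forms.qEnd hF) μ * μ) * hr - hμ
  have hne : 1 + (Forms.qEnd hF) r * r' ≠ 0 := by
    intro e
    have : (Forms.qEnd hF) r * r * μ = -1 := by rw [hr'def] at e; linear_combination e
    rw [hr] at this
    exact hμ1 (by linear_combination -this)
  set k := (1 + (Forms.qEnd hF) r * r')⁻¹ with hk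
  set m := n / 2 with hm
  have hmn : 2 * m ≤ n := by omega
  set ev : SIdx m → (Fin n → F) := Sum.elim (fun i => planeVec hmn i 1 r) (fun i => planeVec hmn i k r') with hev
  have val : ∀ (i j : Fin m) (x s : F), planeVec hmn j x s ⟨2 * i.val, by have := i.isLt; omega⟩ =
        (if j = i then x else 0) ∧
      planeVec hmn j x s ⟨2 * i.val + 1, by have := i.isLt; omega⟩ = (if j = i then x * s else 0) := by
    intro i j x s
    constructor
    · simp only [planeVec, Pi.add_apply, Pi.smul_apply, Pi.single_apply, Fin.ext_iff, smul_eq_mul]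
      rw [if_neg (show ¬ (2 * i.val = 2 * j.val + 1) by omega)]
      by_cases e : j.val = i.val <;> simp [e]
      exact fun e' => absurd e'.symm e
    · simp only [planeVec, Pi.add_apply, Pi.smul_apply, Pi.single_apply, Fin.ext_iff, smul_eq_mul]
      rw [if_neg (show ¬ (2 * i.val + 1 = 2 * j.val) by omega)]
      by_cases e : j.val = i.val <;> simp [e]
      exact fun e' => absurd e'.symm e
  have hσk : (Forms.qEnd hF) k = (1 + r * (Forms.qEnd hF) r')⁻¹ := by rw [hk, map_inv₀, map_add, map_one, map_mul, hh.invol]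
  have hne' : 1 + r * (Forms.qEnd hF) r' ≠ 0 := fun e => hne (by
    have := congrArg (Forms.qEnd hF) e
    rw [map_add, map_one, map_mul, hh.invol, map_zero] at this
    exact this)
  let φ : UFrame (Forms.qEnd hF) h m :=
    { ev := ev
      pair := by
        intro a b
        rcases a with i | i <;> rcases b with j | j <;>
          simp only [hev, Sum.elim_inl, Sum.elim_inr, hhdef, hermB_planeVec, val] <;>
          simp only [map_mul, map_one] <;>
          by_cases e : j = i <;> simp [ng, e, Ne.symm]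
        · linear_combination hr
        · rw [hk]; field_simp
        · rw [hσk]; field_simp
        · linear_combination ((Forms.qEnd hF) k * k) * hr' }
  have hperp : ∀ w, φ.Perp w → ∀ j : Fin n, j.val < 2 * m → w j = 0 := by
    intro w hw j hj
    set i : Fin m := ⟨j.val / 2, by omega⟩ with hi
    have e1 : h (planeVec hmn i 1 r) w = 0 := hw (.inl i)
    have e2 : h (planeVec hmn i k r') w = 0 := hw (.inr i)
    rw [hhdef, hermB_planeVec] at e1 e2
    simp only [map_one, one_mul, map_mul, mul_assoc, ← mul_add] at e1 e2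
    have e2' := (mul_eq_zero.1 e2).resolve_left ((map_ne_zero (Forms.qEnd hF)).2 (inv_ne_zero hne))
    set a := w ⟨2 * i.val, by omega⟩
    set b := w ⟨2 * i.val + 1, by omega⟩
    have hsub : (Forms.qEnd hF) r - (Forms.qEnd hF) r' ≠ 0 := sub_ne_zero.2 fun e => hμ1 (by
      have e' := (Forms.qEnd hF).injective e
      rw [hr'def] at e'
      exact mul_left_cancel₀ hr0 (by rw [mul_one]; exact e'.symm))
    have hb : b = 0 := (mul_eq_zero.1 (show ((Forms.qEnd hF) r - (Forms.qEnd hF) r') * b = 0 by linear_combination e1 - e2')).resolve_left hsub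
    have ha : a = 0 := by rw [hb, mul_zero, add_zero] at e1; exact e1
    rcases Nat.mod_two_eq_zero_or_one j.val with e | e
    · rw [show j = ⟨2 * i.val, by omega⟩ from Fin.ext (show j.val = 2 * (j.val / 2) by omega)]; exact ha
    · rw [show j = ⟨2 * i.val + 1, by omega⟩ from Fin.ext (show j.val = 2 * (j.val / 2) + 1 by omega)]; exact hb
  obtain ⟨a, b, ha, hb, hgen⟩ := φ.exists_pair hh (by rw [Module.finrank_fin_fun]; exact hn)
    (by rw [Nat.card_eq_fintype_card]; exact hF) hσ (show 0 < m by omega) (by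
      rcases Nat.mod_two_eq_zero_or_one n with e | e
      · exact Or.inl ⟨by omega, fun w hw => funext fun j => hperp w hw j (by have := j.isLt; omega)⟩
      · set l : Fin n := ⟨n - 1, by omega⟩
        refine Or.inr ⟨Pi.single l 1, fun s => ?_, by rw [hhdef, hermB_single]; simp, fun w hw => ⟨w l, ?_⟩,
          fun e1 => h32 (by omega)⟩
        · have hl : ∀ i : Fin m, (⟨2 * i.val, by have := i.isLt; omega⟩ : Fin n) ≠ l ∧
              (⟨2 * i.val + 1, by have := i.isLt; omega⟩ : Fin n) ≠ l := fun i => by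
            have := i.isLt
            constructor <;> intro e' <;> have := congrArg Fin.val e' <;> simp [l] at this <;> omega
          rcases s with i | i <;>
            show h (planeVec hmn i _ _) _ = 0 <;>
            rw [hhdef, hermB_planeVec, Pi.single_eq_of_ne (hl i).1, Pi.single_eq_of_ne (hl i).2] <;> ring
        · funext j
          by_cases ej : j = l
          · simp [ej]
          · have : j.val ≠ n - 1 := fun e' => ej (Fin.ext e')
            simp [ej, hperp w hw j (by have := j.isLt; omega)])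
  let e := suEquiv hF (n := n)
  refine ⟨e.symm ⟨a, ha⟩, e.symm ⟨b, hb⟩, ?_⟩
  have htop : Subgroup.closure ({⟨a, ha⟩, ⟨b, hb⟩} : Set (SUH h)) = ⊤ := by
    refine eq_top_iff.2 fun x _ => ?_
    have e' : (Subgroup.closure ({⟨a, ha⟩, ⟨b, hb⟩} : Set (SUH h))).map (SUH h).subtype =
        Subgroup.closure {a, b} := by
      rw [MonoidHom.map_closure, Set.image_pair]; rfl
    have hx := hgen x.2
    rw [← e'] at hx
    obtain ⟨y, hy, hxy⟩ := hx
    rwa [Subtype.coe_injective hxy] at hy
  have := congrArg (Subgroup.map e.symm.toMonoidHom) htop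
  rwa [MonoidHom.map_closure, Set.image_pair, Subgroup.map_top_of_surjective _ e.symm.surjective] at this

end Cfsg.Agent.TwoGen
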