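/-
Two elements generating a Chevalley group, from small table witnesses (after Steinberg).
-/
import Cfsg.Agent.Lib.Chev.SimpleGen
import Cfsg.Agent.Lib.Chev.SL2
import Cfsg.Prelude.Def_ChevAutomorphisms

set_option autoImplicit false

namespace Cfsg.Agent.TwoGen

open Cfsg.Lie Cfsg.Agent.Chev

variable (D : ChevalleyDatum)

/-- The root image under the product of the fundamental reflections listed in `w`. -/
def wordRoot (w : List ℕ) (r : ℕ) : ℕ := w.foldr (fun i s => D.reflectRoot i s) r

/-- The first `h` members of the orbit of `r`. -/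
def orbitList (w : List ℕ) (r h : ℕ) : List ℕ := (List.range h).map fun k => (wordRoot D w)^[k] r

/-- Adjoin the sum of a pair with a single commutator term. -/
def addStep (cs : List ℕ) (L : List ℕ) (p : ℕ × ℕ) : List ℕ :=
  match D.commTerms p.1 p.2 with
  | [(m, C, a, b)] =>
    if p.1 ∈ L ∧ p.2 ∈ L ∧ p.2 ≠ p.1 ∧ p.2 ≠ D.neg p.1 ∧ a = 1 ∧ b = 1 ∧ C.natAbs ∈ cs then m :: L else L
  | _ => L

/-- Repeated adjunction. -/
def grow (cs : List ℕ) (L : List ℕ) (d : List (ℕ × ℕ)) : List ℕ := d.foldl (addStep D cs) L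

/-- The list contains the fundamental roots and their negatives. -/
def GenList (L : List ℕ) : Prop := ∀ i < D.rank, D.simple i ∈ L ∧ D.neg (D.simple i) ∈ L

/-- Commuting root elements. -/
def CommRoot (r s : ℕ) : Prop := s = r ∨ (s ≠ D.neg r ∧ D.commTerms r s = [])

/-- The sum of the pairings with the roots in a list. -/
def pairSum (L : List ℕ) (s : ℕ) : ℤ := (L.map fun γ => D.pairing γ s).sum

instance (L : List ℕ) : Decidable (GenList D L) := inferInstanceAs (Decidable (∀ i < D.rank, _ ∧ _))
instance (r s : ℕ) : Decidable (CommRoot D r s) := inferInstanceAs (Decidable (_ ∨ _))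

variable {D} {F : Type*} [Field F]

/-- The product of the monomial elements listed in `w`. -/
noncomputable def wordN (D : ChevalleyDatum) (F : Type*) [Field F] (w : List ℕ) : GL D.Idx F :=
  (w.map fun i => nG D F (D.simple i) 1).prod

/-- The torus element of a list of roots. -/
noncomputable def torG (D : ChevalleyDatum) {F : Type*} [Field F] (L : List ℕ) (g : F) : GL D.Idx F :=
  (L.map fun γ => hG D F γ g).prod

/-- `H` contains the root group of `r`. -/
def Known (H : Subgroup (GL D.Idx F)) (r : ℕ) : Prop := ∀ t : F, xg D F r t ∈ H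

/-- The `e`-th powers span the field. -/
def Scales (F : Type*) [Field F] (e : ℕ) : Prop := ∀ P : AddSubgroup F, (∀ a : F, a ^ e ∈ P) → ∀ t, t ∈ P

variable (hD : Good D)
include hD

theorem wordRoot_lt {w : List ℕ} (hw : ∀ i ∈ w, i < D.rank) {r : ℕ} (hr : r < D.nroots) :
    wordRoot D w r < D.nroots := by
  induction w with
  | nil => exact hr
  | cons i w ih =>
    exact hD.reflectRoot_lt (hw i List.mem_cons_self) (ih fun j hj => hw j (List.mem_cons_of_mem _ hj))

theorem iterate_lt {w : List ℕ} (hw : ∀ i ∈ w, i < D.rank) {r : ℕ} (hr : r < D.nroots) :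
    ∀ k, (wordRoot D w)^[k] r < D.nroots
  | 0 => hr
  | k + 1 => by rw [Function.iterate_succ_apply']; exact wordRoot_lt hD hw (iterate_lt hw hr k)

theorem wordN_mem_group (w : List ℕ) : wordN D F w ∈ D.group F := by
  refine list_prod_mem fun x hx => ?_
  obtain ⟨i, -, rfl⟩ := List.mem_map.1 hx
  exact hD.nG_mem_group _ _

theorem exists_sign_wordN {w : List ℕ} (hw : ∀ i ∈ w, i < D.rank) {s : ℕ} (hs : s < D.nroots) :
    ∃ ε : F, ε ≠ 0 ∧ ∀ t : F, wordN D F w * xg D F s t = xg D F (wordRoot D w s) (ε * t) * wordN D F w := by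
  induction w with
  | nil => exact ⟨1, one_ne_zero, fun t => by simp [wordN, wordRoot]⟩
  | cons i w ih =>
    have hw' : ∀ j ∈ w, j < D.rank := fun j hj => hw j (List.mem_cons_of_mem _ hj)
    obtain ⟨ε, hε, he⟩ := ih hw'
    obtain ⟨η, hη, hn⟩ := hD.exists_sign_xg (F := F) (hw i List.mem_cons_self)
    have hlt := wordRoot_lt hD hw' hs
    refine ⟨η (wordRoot D w s) * ε, mul_ne_zero (fun h => ?_) hε, fun t => ?_⟩
    · have := (hη _ hlt).1
      rw [h, mul_zero] at this
      exact zero_ne_one this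
    · simp only [wordN, List.map_cons, List.prod_cons] at he ⊢
      rw [mul_assoc, he, ← mul_assoc, hn _ hlt, mul_assoc, mul_assoc]
      rfl

theorem xg_pow (r : ℕ) (t : F) : ∀ k : ℕ, xg D F r t ^ k = xg D F r ((k : F) * t)
  | 0 => by rw [pow_zero, Nat.cast_zero, zero_mul, hD.xg_zero]
  | k + 1 => by rw [pow_succ, xg_pow r t k, hD.xg_add, Nat.cast_succ, add_mul, one_mul]

theorem hG_conj {r s : ℕ} (hr : r < D.nroots) (hs : s < D.nroots) {a : F} (ha : a ≠ 0) (t : F) :
    hG D F r a * xg D F s t = xg D F s (a ^ D.pairing r s * t) * hG D F r a := by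
  rw [hD.hG_eq_prod hr ha, ChevalleyDatum.pairing]
  have : ∀ L : List ℕ, (∀ i ∈ L, i < D.rank) → ∀ t : F,
      (L.map fun i => hG D F (D.simple i) (a ^ (D.coroot.getD r #[]).getD i 0)).prod * xg D F s t =
        xg D F s (a ^ (L.map fun i => (D.coroot.getD r #[]).getD i 0 * D.cartan i s).sum * t) *
          (L.map fun i => hG D F (D.simple i) (a ^ (D.coroot.getD r #[]).getD i 0)).prod := by
    intro L hL
    induction L with
    | nil => intro t; simp
    | cons i L ih =>
      intro t
      rw [List.map_cons, List.prod_cons, mul_assoc, ih (fun j hj => hL j (List.mem_cons_of_mem _ hj)), ← mul_assoc,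
        hD.hG_mul_xg (hL i List.mem_cons_self) hs (zpow_ne_zero _ ha), List.map_cons, List.sum_cons,
        zpow_add₀ ha, zpow_mul]
      simp only [mul_assoc]
  exact this _ (fun i hi => List.mem_range.1 hi) t

theorem torG_mem_group (L : List ℕ) (g : F) : torG D L g ∈ D.group F := by
  refine list_prod_mem fun x hx => ?_
  obtain ⟨i, -, rfl⟩ := List.mem_map.1 hx
  exact hD.hG_mem_group _ _

theorem torG_conj {L : List ℕ} (hL : ∀ γ ∈ L, γ < D.nroots) {s : ℕ} (hs : s < D.nroots) {g : F} (hg : g ≠ 0) :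
    ∀ t : F, torG D L g * xg D F s t * (torG D L g)⁻¹ = xg D F s (g ^ pairSum D L s * t) := by
  induction L with
  | nil => intro t; simp [torG, pairSum]
  | cons γ L ih =>
    intro t
    have hcons : torG D (γ :: L) g = hG D F γ g * torG D L g := by simp [torG]
    have ih' := ih (fun j hj => hL j (List.mem_cons_of_mem _ hj)) t
    have h1 := mul_inv_eq_of_eq_mul (hG_conj hD (hL γ List.mem_cons_self) hs hg (g ^ pairSum D L s * t))
    have hsum : pairSum D (γ :: L) s = D.pairing γ s + pairSum D L s := by simp [pairSum]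
    rw [hcons, mul_inv_rev, hsum, zpow_add₀ hg, mul_assoc (g ^ D.pairing γ s), ← h1, ← ih']
    simp only [mul_assoc]

theorem torG_pow_card [Fintype F] {L : List ℕ} (hL : ∀ γ ∈ L, γ < D.nroots) {g : F} (hg : g ≠ 0) :
    torG D L g ^ (Fintype.card F - 1) = 1 := by
  induction L with
  | nil => simp [torG]
  | cons γ L ih =>
    have hγ := hL γ List.mem_cons_self
    have hL' := fun j hj => hL j (List.mem_cons_of_mem _ hj)
    have hc : Commute (hG D F γ g) (torG D L g) := by
      unfold torG
      refine Commute.list_prod_right _ _ fun x hx => ?_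
      obtain ⟨i, hi, rfl⟩ := List.mem_map.1 hx
      exact hD.hG_comm hγ (hL' i hi) hg hg
    have hpow : ∀ k : ℕ, hG D F γ g ^ k = hG D F γ (g ^ k) := by
      intro k
      induction k with
      | zero =>
        refine Units.ext ?_
        rw [pow_zero, pow_zero, Units.val_one, hD.coe_hG_eq hγ one_ne_zero, ← hdiag_one D]
        exact hdiag_congr D fun s _ => (one_zpow _).symm
      | succ k ih => rw [pow_succ, ih, hD.hG_mul hγ (pow_ne_zero _ hg) hg, pow_succ]
    have h0 := hpow 0
    rw [pow_zero, pow_zero] at h0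
    rw [show torG D (γ :: L) g = hG D F γ g * torG D L g by simp [torG], hc.mul_pow, ih hL', mul_one, hpow,
      FiniteField.pow_card_sub_one_eq_one _ hg, h0]

theorem commute_of_commRoot {r s : ℕ} (hr : r < D.nroots) (hs : s < D.nroots) (h : CommRoot D r s) (t u : F) :
    Commute (xg D F r t) (xg D F s u) := by
  by_cases e : s = r
  · subst e
    rw [Commute, SemiconjBy, hD.xg_add, hD.xg_add, add_comm]
  · obtain ⟨h2, h3⟩ := h.resolve_left e
    have := hD.xg_comm hr hs e h2 t u
    rw [ChevalleyDatum.commWord, h3] at this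
    rw [Commute, SemiconjBy, this]
    simp [wordG]

variable {H : Subgroup (GL D.Idx F)}

theorem conj_wordN_mem {w : List ℕ} (hw : ∀ i ∈ w, i < D.rank) (hN : wordN D F w ∈ H) {s : ℕ}
    (hs : s < D.nroots) {t : F} (ht : t ≠ 0) (h : xg D F s t ∈ H) :
    ∃ u : F, u ≠ 0 ∧ xg D F (wordRoot D w s) u ∈ H := by
  obtain ⟨ε, hε, he⟩ := exists_sign_wordN hD (F := F) hw hs
  refine ⟨ε * t, mul_ne_zero hε ht, ?_⟩
  rw [eq_mul_inv_of_mul_eq (he t).symm]
  exact H.mul_mem (H.mul_mem hN h) (H.inv_mem hN)

theorem exists_mem_iterate {w : List ℕ} (hw : ∀ i ∈ w, i < D.rank) (hN : wordN D F w ∈ H) {s : ℕ}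
    (hs : s < D.nroots) {t : F} (ht : t ≠ 0) (h : xg D F s t ∈ H) :
    ∀ k, ∃ u : F, u ≠ 0 ∧ xg D F ((wordRoot D w)^[k] s) u ∈ H
  | 0 => ⟨t, ht, h⟩
  | k + 1 => by
    obtain ⟨u, hu, hm⟩ := exists_mem_iterate hw hN hs ht h k
    rw [Function.iterate_succ_apply']
    exact conj_wordN_mem hD hw hN (iterate_lt hD hw hs k) hu hm

theorem known_wordRoot {w : List ℕ} (hw : ∀ i ∈ w, i < D.rank) (hN : wordN D F w ∈ H) {s : ℕ}
    (hs : s < D.nroots) (h : Known H s) : Known H (wordRoot D w s) := by
  intro t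
  obtain ⟨ε, hε, he⟩ := exists_sign_wordN hD (F := F) hw hs
  have := eq_mul_inv_of_mul_eq (he (ε⁻¹ * t)).symm
  rw [mul_inv_cancel_left₀ hε] at this
  rw [this]
  exact H.mul_mem (H.mul_mem hN (h _)) (H.inv_mem hN)

theorem known_orbitList {w : List ℕ} (hw : ∀ i ∈ w, i < D.rank) (hN : wordN D F w ∈ H) {r : ℕ}
    (hr : r < D.nroots) (h : Known H r) (n : ℕ) : ∀ x ∈ orbitList D w r n, x < D.nroots ∧ Known H x := by
  intro x hx
  obtain ⟨k, -, rfl⟩ := List.mem_map.1 hx
  clear hx
  refine ⟨iterate_lt hD hw hr k, ?_⟩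
  induction k with
  | zero => exact h
  | succ k ih =>
    rw [Function.iterate_succ_apply']
    exact known_wordRoot hD hw hN (iterate_lt hD hw hr k) ih

theorem known_grow {cs : List ℕ} (hcs : ∀ c ∈ cs, (c : F) ≠ 0) :
    ∀ (d : List (ℕ × ℕ)) (L : List ℕ), (∀ x ∈ L, x < D.nroots ∧ Known H x) →
      ∀ x ∈ grow D cs L d, x < D.nroots ∧ Known H x := by
  intro d
  induction d with
  | nil => exact fun L hL => hL
  | cons p d ih =>
    intro L hL
    refine ih (addStep D cs L p) ?_
    unfold addStep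
    split
    case h_2 => exact hL
    case h_1 m C a b he =>
      split
      case isFalse => exact hL
      case isTrue hc =>
        obtain ⟨h1, h2, h3, h4, rfl, rfl, hC⟩ := hc
        intro x hx
        rcases List.mem_cons.1 hx with rfl | hx
        · obtain ⟨hr, hkr⟩ := hL _ h1
          obtain ⟨hs, hks⟩ := hL _ h2
          have hlt : x < D.nroots :=
            hD.commTerms_lt hr hs (x := (x, C, 1, 1)) (by rw [he]; exact List.mem_cons_self)
          refine ⟨hlt, fun v => ?_⟩
          have hC0 : (C : F) ≠ 0 := by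
            have h0 := hcs _ hC
            rcases Int.natAbs_eq C with h | h <;> rw [h] <;> simpa using h0
          set u : F := v / (-(C : F)) with hu
          have hval : -((C : F) * u) = v := by rw [hu]; field_simp
          have e := hD.xg_commutator hr hs h3 h4 (1 : F) u
          have hmem : wordG D F (D.commWord F p.1 p.2 1 u) ∈ H := by
            rw [← e]
            exact H.mul_mem (H.mul_mem (H.mul_mem (H.inv_mem (hks u)) (H.inv_mem (hkr 1))) (hks u)) (hkr 1)
          simp only [ChevalleyDatum.commWord, he, List.map_cons, List.map_nil] at hmem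
          simpa [wordG, hval] using hmem
        · exact hL x hx

theorem group_le_of_genList {L : List ℕ} (hgen : GenList D L) (hL : ∀ x ∈ L, x < D.nroots ∧ Known H x) :
    D.group F ≤ H :=
  hD.group_le_of_simple (fun i hi => (hL _ (hgen i hi).1).2) (fun i hi => (hL _ (hgen i hi).2).2)

/-- Conjugation by a scaling element spreads one root element to the whole root group. -/
theorem known_of_scale {g : Fˣ} (hg : ∀ x : Fˣ, x ∈ Subgroup.zpowers g) [Finite F] {β : ℕ} {e : ℤ}
    (hs : Scales F e.natAbs) {ε : F} (hε : ε ≠ 0) (hmem : xg D F β ε ∈ H) {c : GL D.Idx F} (hc : c ∈ H)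
    (hconj : ∀ t : F, c * xg D F β t * c⁻¹ = xg D F β ((g : F) ^ e * t)) : Known H β := by
  let A : AddSubgroup F :=
    { carrier := {t | xg D F β (ε * t) ∈ H}
      add_mem' := fun {a b} ha hb => by
        show xg D F β (ε * (a + b)) ∈ H
        rw [mul_add, ← hD.xg_add]; exact H.mul_mem ha hb
      zero_mem' := by show xg D F β (ε * 0) ∈ H; rw [mul_zero, hD.xg_zero]; exact H.one_mem
      neg_mem' := fun {a} ha => by
        show xg D F β (ε * -a) ∈ H
        rw [mul_neg, ← hD.xg_inv]; exact H.inv_mem ha }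
  have h1 : (1 : F) ∈ A := by show xg D F β (ε * 1) ∈ H; rwa [mul_one]
  have hup : ∀ t, t ∈ A → (g : F) ^ e * t ∈ A := fun t ht => by
    show xg D F β (ε * _) ∈ H
    rw [mul_left_comm, ← hconj]
    exact H.mul_mem (H.mul_mem hc ht) (H.inv_mem hc)
  have hdn : ∀ t, t ∈ A → (g : F) ^ (-e) * t ∈ A := fun t ht => by
    show xg D F β (ε * _) ∈ H
    have := hconj (ε * ((g : F) ^ (-e) * t))
    rw [mul_left_comm ε, ← mul_assoc ((g : F) ^ e), ← zpow_add₀ g.ne_zero, add_neg_cancel, zpow_zero, one_mul,
      mul_inv_eq_iff_eq_mul, ← eq_inv_mul_iff_mul_eq, mul_left_comm ((g : F) ^ (-e))] at this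
    rw [this]
    exact H.mul_mem (H.inv_mem hc) (H.mul_mem ht hc)
  have hn : ∀ t, t ∈ A → (g : F) ^ e.natAbs * t ∈ A := fun t ht => by
    rcases Int.natAbs_eq e with h | h
    · have := hup t ht; rwa [h, zpow_natCast] at this
    · have := hdn t ht; rwa [h, neg_neg, zpow_natCast] at this
  have hall : ∀ t, t ∈ A := by
    refine hs A fun a => ?_
    rcases eq_or_ne a 0 with rfl | ha
    · rcases eq_or_ne e.natAbs 0 with h | h
      · rw [h, pow_zero]; exact h1
      · rw [zero_pow h]; exact A.zero_mem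
    · obtain ⟨j, hj⟩ := (mem_powers_iff_mem_zpowers (x := g)).2 (hg (Units.mk0 a ha))
      simp only at hj
      have ha' : a = (g : F) ^ j := by rw [← Units.val_pow_eq_pow_val, hj, Units.val_mk0]
      rw [ha', ← pow_mul, mul_comm, pow_mul]
      clear ha' hj
      induction j with
      | zero => rw [pow_zero]; exact h1
      | succ j ih => rw [pow_succ']; exact hn _ ih
  intro t
  have : xg D F β (ε * (ε⁻¹ * t)) ∈ H := hall _
  rwa [mul_inv_cancel_left₀ hε] at this

end Cfsg.Agent.TwoGen
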