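/-
Two elements generating a twisted Chevalley group, from small table witnesses (after Steinberg): a torus element
times a long root element, and a short root element times a monomial element.
-/
import Cfsg.Agent.Lib.TwoGen.Chev
import Cfsg.Agent.Lib.Chev.TwistTorus

set_option autoImplicit false

namespace Cfsg.Agent.TwoGen

open Cfsg.Lie Cfsg.Agent.Chev Cfsg.Agent.Chev.BNSetup

variable {F : Type*} [Field F] {D : ChevalleyDatum}

theorem xe_eq_xg (hG : Good D) (r : ℕ) (t : F) : xe hG r t = xg D F r t :=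
  Units.ext (by rw [coe_xe, hG.coe_xg])

theorem ne'_eq_nG (hG : Good D) (r : ℕ) (t : F) : ne' hG r t = nG D F r t :=
  Units.ext (by rw [coe_ne', hG.coe_nG])

theorem he_eq_hG (hD : Good D) (r : ℕ) (t : F) : he hD r t = hG D F r t :=
  Units.ext (by rw [coe_he, hD.coe_hG])

/-- The scaling factor on the root `s` of the torus element with parameters `a` on the nodes `J`. -/
def mu (D : ChevalleyDatum) (J : List ℕ) (a : ℕ → F) (s : ℕ) : F :=
  (J.map fun m => a m ^ D.cartan m s).prod

/-- The parameters `φ^i t` along an orbit. -/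
def ext' (φ : F ≃+* F) (J : List ℕ) (t : F) : ℕ → F := fun m => φ^[J.idxOf m] t

/-- The roots reached from the simple orbits `j` and `j2` by the word `w` contain every simple orbit and opposite. -/
def CoverOK (O : OrbTab) (no nj : ℕ) [NeZero no] [NeZero nj] (n : ℕ) (w : List (Fin nj)) (j j2 : Fin nj) (h : ℕ) :
    Prop :=
  let L := (List.range h).flatMap fun k =>
    [(fun o => w.foldr (fun i x => O.reflF no nj i x) o)^[k] (O.simpF no nj j),
     (fun o => w.foldr (fun i x => O.reflF no nj i x) o)^[k] (O.simpF no nj j2)]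
  ∀ i : Fin nj, O.simpF no nj i ∈ L ∧ O.orbF no (n - 1 - O.repF no (O.simpF no nj i)) ∈ L

instance (O : OrbTab) (no nj : ℕ) [NeZero no] [NeZero nj] (n : ℕ) (w : List (Fin nj)) (j j2 : Fin nj) (h : ℕ) :
    Decidable (CoverOK O no nj n w j j2 h) := inferInstanceAs (Decidable (∀ _, _ ∧ _))

theorem mu_ne_zero {J : List ℕ} {a : ℕ → F} (ha : ∀ m ∈ J, a m ≠ 0) (s : ℕ) : mu D J a s ≠ 0 := by
  refine List.prod_ne_zero ?_
  simp only [List.mem_map, not_exists, not_and]
  exact fun m hm => zpow_ne_zero _ (ha m hm)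

variable (hG : Good D)
include hG

/-- The torus element of the nodes `J` scales the root elements by `mu`. -/
theorem prod_he_conj {J : List ℕ} (hJ : ∀ m ∈ J, m < D.rank) {a : ℕ → F} (ha : ∀ m ∈ J, a m ≠ 0) {s : ℕ}
    (hs : s < D.nroots) :
    ∀ t : F, (J.map fun m => he hG (D.simple m) (a m)).prod * xg D F s t =
      xg D F s (mu D J a s * t) * (J.map fun m => he hG (D.simple m) (a m)).prod := by
  induction J with
  | nil => intro t; simp [mu]
  | cons m J ih =>
    intro t
    have hm := List.mem_cons_self (a := m) (l := J)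
    rw [List.map_cons, List.prod_cons, mul_assoc,
      ih (fun x hx => hJ x (List.mem_cons_of_mem _ hx)) (fun x hx => ha x (List.mem_cons_of_mem _ hx)), ← mul_assoc,
      he_eq_hG, hG.hG_mul_xg (hJ m hm) hs (ha m hm), mu, mu, List.map_cons, List.prod_cons, mul_assoc, mul_assoc]

theorem diag_comm {x y : GL D.Idx F} (hx : x ∈ D.diagonalSubgroup F) (hy : y ∈ D.diagonalSubgroup F) :
    Commute x y := by
  refine (Subgroup.mem_centralizer_iff.1 ((?_ : D.diagonalSubgroup F ≤
    Subgroup.centralizer (D.diagonalSubgroup F : Set (GL D.Idx F))) hy) x hx)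
  unfold ChevalleyDatum.diagonalSubgroup
  rw [Subgroup.closure_le]
  rintro g ⟨r, t, hr, ht, hg⟩
  refine Subgroup.mem_centralizer_iff.2 fun z hz => ?_
  induction hz using Subgroup.closure_induction with
  | mem z hz =>
    obtain ⟨r', t', hr', ht', hz⟩ := hz
    refine Units.ext ?_
    rw [Units.val_mul, Units.val_mul, hg, hz, hG.hMat_eq hr ht, hG.hMat_eq hr' ht', hdiag_mul, hdiag_mul]
    exact hdiag_congr D fun s _ => mul_comm _ _
  | one => simp
  | mul a b _ _ ha hb => exact (Commute.mul_left ha hb).eq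
  | inv a _ ha => exact (Commute.inv_left ha).eq

theorem diag_pow_card [Fintype F] {x : GL D.Idx F} (hx : x ∈ D.diagonalSubgroup F) :
    x ^ (Fintype.card F - 1) = 1 := by
  have key : x ∈ D.diagonalSubgroup F ∧ x ^ (Fintype.card F - 1) = 1 := by
    unfold ChevalleyDatum.diagonalSubgroup at hx
    induction hx using Subgroup.closure_induction with
    | mem z hz =>
      refine ⟨Subgroup.subset_closure hz, ?_⟩
      obtain ⟨r, t, hr, ht, hz⟩ := hz
      have h1 : ∀ k : ℕ, ((z ^ k : GL D.Idx F) : Matrix D.Idx D.Idx F) = hdiag D (fun s => (t ^ k) ^ D.pairing r s) := by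
        intro k
        induction k with
        | zero =>
          rw [pow_zero, Units.val_one, ← hdiag_one D]
          exact hdiag_congr D fun s _ => by simp
        | succ k ih =>
          rw [pow_succ, Units.val_mul, ih, hz, hG.hMat_eq hr ht, hdiag_mul]
          exact hdiag_congr D fun s _ => by rw [pow_succ, mul_zpow]
      refine Units.ext ?_
      rw [h1, FiniteField.pow_card_sub_one_eq_one _ ht, Units.val_one, ← hdiag_one D]
      exact hdiag_congr D fun s _ => one_zpow _
    | one => exact ⟨one_mem _, one_pow _⟩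
    | mul a b _ _ ha hb =>
      exact ⟨mul_mem ha.1 hb.1, by rw [(diag_comm hG ha.1 hb.1).mul_pow, ha.2, hb.2, one_mul]⟩
    | inv a _ ha => exact ⟨inv_mem ha.1, by rw [inv_pow, ha.2, inv_one]⟩
  exact key.2

/-- Conjugates of a scaling element by monomial elements scale. -/
theorem scale_wordN {h : GL D.Idx F} {μ : ℕ → F}
    (hμ : ∀ s < D.nroots, ∀ t : F, h * xg D F s t = xg D F s (μ s * t) * h)
    {w : List ℕ} (hw : ∀ i ∈ w, i < D.rank) {s : ℕ} (hs : s < D.nroots) (t : F) :
    ((wordN D F w)⁻¹ * h * wordN D F w) * xg D F s t =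
      xg D F s (μ (wordRoot D w s) * t) * ((wordN D F w)⁻¹ * h * wordN D F w) := by
  obtain ⟨ε, -, he'⟩ := exists_sign_wordN hG (F := F) hw hs
  calc ((wordN D F w)⁻¹ * h * wordN D F w) * xg D F s t
      = (wordN D F w)⁻¹ * (h * xg D F (wordRoot D w s) (ε * t)) * wordN D F w := by
        simp only [mul_assoc, he']
    _ = (wordN D F w)⁻¹ * (xg D F (wordRoot D w s) (ε * (μ (wordRoot D w s) * t))) * h * wordN D F w := by
        rw [hμ _ (wordRoot_lt hG hw hs), mul_left_comm (μ _) ε]; simp only [mul_assoc]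
    _ = _ := by
        rw [eq_mul_inv_of_mul_eq (he' (μ (wordRoot D w s) * t)).symm]
        group

section twist

variable {G : GraphTab} {O : OrbTab} {no nj : ℕ} [NeZero no] [NeZero nj] {tabs simps : List ℕ}
  (hO : O.OK no nj D G tabs simps) (φ : F ≃+* F) (hf : Facts D tabs simps) (hn : NegTri D)
  (hcol : ∃ c, Valid D c ∧ G.colsOK D c = true)

omit hG in
include hO in
theorem compat_ext {j : Fin nj} {t : F} (ht : φ^[(O.Jl nj j).length] t = t) :
    Compat G φ (O.Jl nj j) (ext' φ (O.Jl nj j) t) := by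
  have hS := hO.2.2.1 j
  have hrot := hS.2.2.1
  intro k hk
  obtain ⟨m, hm, rfl⟩ := List.mem_iff_getElem.1 hk
  have h1 : ((O.Jl nj j).map fun k => G.pi.getD k 0)[m]'(by rw [List.length_map]; omega) =
      ((O.Jl nj j).rotate 1)[m]'(by rw [List.length_rotate]; omega) := by
    simp only [hrot]
  rw [List.getElem_map, List.getElem_rotate] at h1
  simp only [ext', h1, hS.1.2.1.idxOf_getElem]
  rw [← Function.iterate_succ_apply' φ]
  by_cases hm' : m + 1 < (O.Jl nj j).length
  · rw [Nat.mod_eq_of_lt hm']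
  · have he : m + 1 = (O.Jl nj j).length := by omega
    rw [show (m + 1) % (O.Jl nj j).length = 0 by rw [he, Nat.mod_self],
      show m.succ = (O.Jl nj j).length from he, Function.iterate_zero_apply, ht]

omit hG in
theorem ext_head {J : List ℕ} (hne : J ≠ []) (t : F) : ext' φ J t (J.head hne) = t := by
  cases J with
  | nil => exact absurd rfl hne
  | cons x J => simp [ext']

include hO hf hn hcol in
theorem param_ext {j : Fin nj} {a : ℕ → F} (ha : Compat G φ (O.Jl nj j) a) :
    φ^[(O.Jl nj j).length] (a ((O.Jl nj j).head (hO.2.2.1 j).2.1)) = a ((O.Jl nj j).head (hO.2.2.1 j).2.1) ∧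
      pv hG D.simple (O.Jl nj j) a =
        pv hG D.simple (O.Jl nj j) (ext' φ (O.Jl nj j) (a ((O.Jl nj j).head (hO.2.2.1 j).2.1))) := by
  have _ := hf
  have _ := hn
  have _ := hcol
  have hS := hO.2.2.1 j
  have hne := hS.2.1
  have hc := compat_getElem hO φ j ha
  have h0 : (O.Jl nj j).head hne = (O.Jl nj j)[0]'(List.length_pos_of_ne_nil hne) := List.head_eq_getElem hne
  rw [h0]
  refine ⟨?_, ?_⟩
  · have hl : (O.Jl nj j).length - 1 < (O.Jl nj j).length := Nat.sub_lt (List.length_pos_of_ne_nil hne) one_pos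
    have h1 : ((O.Jl nj j).map fun k => G.pi.getD k 0)[(O.Jl nj j).length - 1]'(by
        rw [List.length_map]; omega) =
        ((O.Jl nj j).rotate 1)[(O.Jl nj j).length - 1]'(by rw [List.length_rotate]; omega) := by
      simp only [hS.2.2.1]
    rw [List.getElem_map, List.getElem_rotate] at h1
    simp only [show (O.Jl nj j).length - 1 + 1 = (O.Jl nj j).length by omega, Nat.mod_self] at h1
    conv_rhs => rw [← h1, ha _ (List.getElem_mem _), hc _ hl, ← Function.iterate_succ_apply' φ]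
    rw [show ((O.Jl nj j).length - 1).succ = (O.Jl nj j).length by omega]
  · refine congrArg List.prod (List.map_congr_left fun k hk => ?_)
    obtain ⟨m, hm, rfl⟩ := List.mem_iff_getElem.1 hk
    simp only [ext', hS.1.2.1.idxOf_getElem]
    rw [hc m hm]

omit hcol hn hf in
theorem scale_pv {J : List ℕ} (hJ : ∀ m ∈ J, m < D.rank) {h : GL D.Idx F} {μ : ℕ → F}
    (hμ : ∀ s < D.nroots, ∀ t : F, h * xg D F s t = xg D F s (μ s * t) * h) (a : ℕ → F) :
    h * pv hG D.simple J a * h⁻¹ = pv hG D.simple J (fun m => μ (D.simple m) * a m) := by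
  rw [← MulAut.conj_apply, pv, map_list_prod, List.map_map]
  refine congrArg List.prod (List.map_congr_left fun m hm => ?_)
  simp only [Function.comp_apply, MulAut.conj_apply, xe_eq_xg]
  rw [hμ _ (hG.simple_lt (hJ m hm)), mul_inv_cancel_right]

theorem nw_flat_eq (w : List (Fin nj)) :
    (twist hG hO φ).data.nw w = wordN D F (O.flatN nj w) := by
  induction w with
  | nil => simp [wordN, OrbTab.flatN]
  | cons i w ih =>
    rw [RootBN.Data.nw_cons, ih]
    show (twist hG hO φ).nn' i * _ = _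
    rw [nn'_eq hG hO φ, wordN, wordN, OrbTab.flatN, OrbTab.flatN, List.flatMap_cons, List.map_append, List.prod_append]
    congr 2
    exact List.map_congr_left fun k _ => ne'_eq_nG hG _ _

theorem wl_flat_eq (w : List (Fin nj)) (o : Fin no) :
    (twist hG hO φ).data.wl w o = w.foldr (fun i x => O.reflF no nj i x) o := by
  induction w with
  | nil => rfl
  | cons i w ih => rw [RootBN.Data.wl_cons, Equiv.Perm.mul_apply, ih]; rfl

include hO hf hn hcol in
/-- A family of scalings spreads one non-trivial element to the whole root group of a simple orbit. -/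
theorem known_simp {H : Subgroup (GL D.Idx F)} {j : Fin nj} {h : GL D.Idx F} {μ : ℕ → F}
    (hh : h ∈ (twist hG hO φ).data.H) (hhH : h ∈ H)
    (hμ : ∀ s < D.nroots, ∀ t : F, h * xg D F s t = xg D F s (μ s * t) * h)
    {t0 : F} (ht0 : t0 ≠ 0) (hfix : φ^[(O.Jl nj j).length] t0 = t0)
    (hmem : pv hG D.simple (O.Jl nj j) (ext' φ (O.Jl nj j) t0) ∈ H)
    (hgen : ∀ t : F, t ≠ 0 → φ^[(O.Jl nj j).length] t = t →
      ∃ m : ℕ, t = μ (D.simple ((O.Jl nj j).head (hO.2.2.1 j).2.1)) ^ m) :
    (twist hG hO φ).X' (O.simpF no nj j) ≤ H := by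
  have hT := twist_axioms hG hO φ hf hn hcol
  have ax := RootBN.Twist.data_axioms hT
  have hS := hO.2.2.1 j
  set J := O.Jl nj j
  set μ0 := μ (D.simple (J.head hS.2.1))
  have step : ∀ t : F, φ^[J.length] t = t → pv hG D.simple J (ext' φ J t) ∈ H →
      φ^[J.length] (μ0 * t) = μ0 * t ∧ pv hG D.simple J (ext' φ J (μ0 * t)) ∈ H := by
    intro t ht hm
    have hx : pv hG D.simple J (ext' φ J t) ∈ (twist hG hO φ).X' (O.simpF no nj j) :=
      (mem_X'_simp_iff hG hO φ hf hn hcol j).2 ⟨_, compat_ext hO φ ht, rfl⟩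
    have hx' : h * pv hG D.simple J (ext' φ J t) * h⁻¹ ∈ (twist hG hO φ).X' (O.simpF no nj j) :=
      ax.H_conj _ h hh _ hx
    obtain ⟨b, hb, e⟩ := (mem_X'_simp_iff hG hO φ hf hn hcol j).1 hx'
    have e' : h * pv hG D.simple J (ext' φ J t) * h⁻¹ =
        pv hG D.simple J (fun m => μ (D.simple m) * ext' φ J t m) := scale_pv hG hS.1.1 hμ _
    have hb0 : b (J.head hS.2.1) = μ0 * t := by
      have := pv_inj hG hf hn (Or.inl rfl) hS.1 (e.symm.trans e') (List.head_mem hS.2.1)
      rw [this, ext_head]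
    obtain ⟨h1, h2⟩ := param_ext hG hO φ hf hn hcol hb
    rw [hb0] at h1 h2
    refine ⟨h1, ?_⟩
    rw [← h2, ← e]
    exact H.mul_mem (H.mul_mem hhH hm) (H.inv_mem hhH)
  have iter : ∀ m : ℕ, φ^[J.length] (μ0 ^ m * t0) = μ0 ^ m * t0 ∧ pv hG D.simple J (ext' φ J (μ0 ^ m * t0)) ∈ H := by
    intro m
    induction m with
    | zero => rw [pow_zero, one_mul]; exact ⟨hfix, hmem⟩
    | succ m ih => rw [pow_succ', mul_assoc]; exact step _ ih.1 ih.2
  intro y hy
  obtain ⟨a, ha, rfl⟩ := (mem_X'_simp_iff hG hO φ hf hn hcol j).1 hy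
  obtain ⟨h1, h2⟩ := param_ext hG hO φ hf hn hcol ha
  rw [h2]
  set t := a (J.head hS.2.1)
  rcases eq_or_ne t 0 with h0 | h0
  · have hz : pv hG D.simple J (ext' φ J t) = 1 := by
      rw [h0, ← pv_zero hG (Or.inl rfl) hS.1]
      exact congrArg List.prod (List.map_congr_left fun k _ => by
        simp only [ext']; rw [Function.iterate_fixed (map_zero φ)])
    rw [hz]; exact H.one_mem
  · have hdiv : ∀ (n : ℕ) (x z : F), φ^[n] (x / z) = φ^[n] x / φ^[n] z := by
      intro n
      induction n with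
      | zero => intro x z; rfl
      | succ n ih => intro x z; rw [Function.iterate_succ_apply', Function.iterate_succ_apply',
          Function.iterate_succ_apply', ih, map_div₀]
    obtain ⟨m, hm⟩ := hgen (t / t0) (div_ne_zero h0 ht0) (by rw [hdiv, h1, hfix])
    rw [(eq_div_iff ht0).1 (hm.symm ▸ rfl : μ0 ^ m = t / t0) |>.symm]
    exact (iter m).2

omit hG in
theorem flatN_replicate (O : OrbTab) (nj : ℕ) (w : List (Fin nj)) : ∀ k : ℕ,
    O.flatN nj (List.replicate k w).flatten = (List.replicate k (O.flatN nj w)).flatten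
  | 0 => rfl
  | k + 1 => by
    rw [List.replicate_succ, List.flatten_cons, List.replicate_succ, List.flatten_cons, ← flatN_replicate O nj w k]
    simp [OrbTab.flatN, List.flatMap_append]

omit hG in
theorem wordRoot_flatten (w : List ℕ) : ∀ (k r : ℕ),
    wordRoot D (List.replicate k w).flatten r = (wordRoot D w)^[k] r
  | 0, r => rfl
  | k + 1, r => by
    rw [List.replicate_succ, List.flatten_cons, Function.iterate_succ_apply', ← wordRoot_flatten w k r, wordRoot,
      List.foldr_append]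
    rfl

omit hG in
theorem wordN_flatten (w : List ℕ) : ∀ k : ℕ, wordN D F (List.replicate k w).flatten = wordN D F w ^ k
  | 0 => by simp [wordN]
  | k + 1 => by
    rw [List.replicate_succ, List.flatten_cons, pow_succ', ← wordN_flatten w k]
    simp [wordN]

include hO hf hn hcol in
/-- Two generators of the twisted group. -/
theorem two_gen_twist [Fintype F] {w : List (Fin nj)} {j j2 : Fin nj} {k h : ℕ} (g : F) (hg0 : g ≠ 0)
    (hgfix : φ^[(O.Jl nj j).length] g = g) {μ : ℕ → F}
    (hμdef : ∀ s, μ s = mu D (O.Jl nj j) (ext' φ (O.Jl nj j) g) s)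
    (hself : ∀ x ∈ O.Jl nj j, ∀ y ∈ O.Jl nj j, D.cartan x (D.simple y) = if x = y then 2 else 0)
    (hg2 : g ^ 2 ≠ 1)
    (hμ1 : μ (wordRoot D (O.flatN nj w) (D.simple ((O.Jl nj j).head (hO.2.2.1 j).2.1))) ≠ 1)
    (hgen : ∀ t : F, t ≠ 0 → φ^[(O.Jl nj j).length] t = t →
      ∃ m : ℕ, t = μ (wordRoot D (O.flatN nj w) (D.simple ((O.Jl nj j).head (hO.2.2.1 j).2.1))) ^ m)
    (hgen2 : ∀ t : F, t ≠ 0 → φ^[(O.Jl nj j2).length] t = t →
      ∃ m : ℕ, t = μ (wordRoot D (O.flatN nj w) (D.simple ((O.Jl nj j2).head (hO.2.2.1 j2).2.1))) ^ m)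
    (hfix : ∀ x ∈ O.Jl nj j2, ∀ m ∈ O.Jl nj j,
      D.cartan m ((wordRoot D (O.flatN nj w))^[k + 1] (D.simple x)) = 0)
    (hcover : CoverOK O no nj D.nroots w j j2 h) :
    ∃ a b : ↥(twist hG hO φ).Gt, Subgroup.closure ({a, b} : Set ↥(twist hG hO φ).Gt) = ⊤ := by
  set T := twist hG hO φ with hTdef
  have hT := twist_axioms hG hO φ hf hn hcol
  have ax := RootBN.Twist.data_axioms hT
  have hS := hO.2.2.1 j
  have hS2 := hO.2.2.1 j2
  set J := O.Jl nj j
  set J2 := O.Jl nj j2
  set W := O.flatN nj w with hWdef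
  have hW : ∀ i ∈ W, i < D.rank := by
    intro i hi
    obtain ⟨x, -, hx⟩ := List.mem_flatMap.1 hi
    exact (hO.2.2.1 x).1.1 i hx
  set a := ext' φ J g
  have ha : Compat G φ J a := compat_ext hO φ hgfix
  have hit : ∀ (n : ℕ) (x : F), x ≠ 0 → φ^[n] x ≠ 0 := by
    intro n x hx
    induction n with
    | zero => exact hx
    | succ n ih => rw [Function.iterate_succ_apply']; exact (map_ne_zero_iff φ φ.injective).2 ih
  have ha0 : ∀ m ∈ J, a m ≠ 0 := fun m _ => hit _ _ hg0
  set h1 := (J.map fun m => he hG (D.simple m) (a m)).prod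
  have hh1d : h1 ∈ D.diagonalSubgroup F := by
    refine list_prod_mem fun x hx => ?_
    obtain ⟨m, hm, rfl⟩ := List.mem_map.1 hx
    exact he_mem_H hG (hG.simple_lt (hS.1.1 m hm)) (ha0 m hm)
  have hh1 : h1 ∈ T.data.H := ⟨hh1d, prod_he_mem_Gt hG hO φ hf hcol hn j ha⟩
  set N := T.data.nw w with hNdef
  have hN : N = wordN D F W := nw_flat_eq hG hO φ w
  have hNN : N ∈ T.data.N := RootBN.Data.nw_mem_N w
  set h0 := N⁻¹ * h1 * N
  have hh0 : h0 ∈ T.data.H := by
    have := RootBN.Data.N_conj_H ax (T.data.N.inv_mem hNN) hh1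
    rwa [inv_inv] at this
  have hμh1 : ∀ s < D.nroots, ∀ t : F, h1 * xg D F s t = xg D F s (μ s * t) * h1 := fun s hs t => by
    rw [hμdef]; exact prod_he_conj hG hS.1.1 ha0 hs t
  have hμh0 : ∀ s < D.nroots, ∀ t : F, h0 * xg D F s t = xg D F s (μ (wordRoot D W s) * t) * h0 := fun s hs t => by
    simp only [h0, hN]; exact scale_wordN hG hμh1 hW hs t
  set u := pv hG D.simple J (fun _ => (1 : F))
  set v := pv hG D.simple J2 (fun _ => (1 : F))
  have hu : u ∈ T.X' (O.simpF no nj j) :=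
    (mem_X'_simp_iff hG hO φ hf hn hcol j).2 ⟨_, fun k _ => (map_one φ).symm, rfl⟩
  have hv : v ∈ T.X' (O.simpF no nj j2) :=
    (mem_X'_simp_iff hG hO φ hf hn hcol j2).2 ⟨_, fun k _ => (map_one φ).symm, rfl⟩
  set x := N ^ k * v * (N ^ k)⁻¹
  -- `x` commutes with `h0`
  have hxh : Commute x h0 := by
    set W' := (List.replicate (k + 1) W).flatten
    have hW' : ∀ i ∈ W', i < D.rank := by
      intro i hi
      obtain ⟨l, hl, hil⟩ := List.mem_flatten.1 hi
      rw [List.eq_of_mem_replicate hl] at hil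
      exact hW i hil
    have e : (N ^ k)⁻¹ * h0 * N ^ k = (wordN D F W')⁻¹ * h1 * wordN D F W' := by
      rw [wordN_flatten, ← hN]; simp only [h0]; group
    have hfixv : ((N ^ k)⁻¹ * h0 * N ^ k) * v * ((N ^ k)⁻¹ * h0 * N ^ k)⁻¹ = v := by
      rw [e, scale_pv hG hS2.1.1 (μ := fun s => μ (wordRoot D W' s)) (fun s hs t => scale_wordN hG hμh1 hW' hs t)]
      refine congrArg List.prod (List.map_congr_left fun y hy => ?_)
      have : μ (wordRoot D W' (D.simple y)) = 1 := by
        rw [hμdef, wordRoot_flatten, mu]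
        refine List.prod_eq_one fun z hz => ?_
        obtain ⟨m, hm, rfl⟩ := List.mem_map.1 hz
        rw [hfix y hy m hm, zpow_zero]
      simp only [this, one_mul]
    have h2 := mul_inv_eq_iff_eq_mul.1 hfixv
    calc x * h0 = N ^ k * (v * ((N ^ k)⁻¹ * h0 * N ^ k)) * (N ^ k)⁻¹ := by simp only [x]; group
      _ = N ^ k * (((N ^ k)⁻¹ * h0 * N ^ k) * v) * (N ^ k)⁻¹ := by rw [h2]
      _ = h0 * x := by simp only [x]; group
  have hGT : ∀ o, ∀ y ∈ T.X' o, y ∈ T.Gt := fun o y hy => RootBN.Twist.X'_le_Gt o hy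
  have hNGt : N ∈ T.Gt := by
    refine list_prod_mem fun y hy => ?_
    obtain ⟨i, -, rfl⟩ := List.mem_map.1 hy
    exact hT.nn'_mem i
  have hA : x * h0 ∈ T.Gt :=
    T.Gt.mul_mem (T.Gt.mul_mem (T.Gt.mul_mem (T.Gt.pow_mem hNGt k) (hGT _ _ hv)) (T.Gt.inv_mem (T.Gt.pow_mem hNGt k)))
      hh0.2
  have hB : u * N ∈ T.Gt := T.Gt.mul_mem (hGT _ _ hu) hNGt
  refine ⟨⟨_, hA⟩, ⟨_, hB⟩, Subgroup.map_injective T.Gt.subtype_injective ?_⟩
  rw [MonoidHom.map_closure, Set.image_pair, ← MonoidHom.range_eq_map, Subgroup.range_subtype]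
  refine le_antisymm ((Subgroup.closure_le _).2 (Set.pair_subset hA hB)) ?_
  show T.Gt ≤ Subgroup.closure {x * h0, u * N}
  set H := Subgroup.closure {x * h0, u * N}
  have hxH : x * h0 ∈ H := Subgroup.subset_closure (Or.inl rfl)
  have huN : u * N ∈ H := Subgroup.subset_closure (Or.inr rfl)
  -- separate `x` and `h0`
  have hpow : ∀ (JJ : List ℕ), CommOK D JJ → ∀ n : ℕ,
      pv hG D.simple JJ (fun _ => (1 : F)) ^ n = pv hG D.simple JJ (fun _ => (n : F)) := by
    intro JJ hJJ n
    induction n with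
    | zero => rw [pow_zero, Nat.cast_zero, pv_zero hG (Or.inl rfl) hJJ]
    | succ n ih => rw [pow_succ, ih, pv_mul hG (Or.inl rfl) hJJ]; simp
  have hvq : v ^ (Fintype.card F - 1) = v⁻¹ := by
    rw [hpow J2 hS2.1, pv_inv hG (Or.inl rfl) hS2.1]
    rw [Nat.cast_sub Fintype.card_pos, FiniteField.cast_card_eq_zero, Nat.cast_one, zero_sub]
  have hxin : x ∈ H := by
    have h := H.inv_mem (H.pow_mem hxH (Fintype.card F - 1))
    rw [hxh.mul_pow, diag_pow_card hG hh0.1, mul_one, conj_pow, hvq, mul_inv_rev, mul_inv_rev, inv_inv, inv_inv,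
      ← mul_assoc] at h
    exact h
  have hh0H : h0 ∈ H := by simpa using H.mul_mem (H.inv_mem hxin) hxH
  -- a short root element
  set μ1 := μ (D.simple (J.head hS.2.1))
  set μ0 := μ (wordRoot D W (D.simple (J.head hS.2.1)))
  have hμ1v : μ1 = g ^ 2 := by
    have key : ∀ L : List ℕ, L.Nodup → ∀ y ∈ L, (∀ z ∈ L, D.cartan z (D.simple y) = if z = y then 2 else 0) →
        (L.map fun m => a m ^ D.cartan m (D.simple y)).prod = a y ^ (2 : ℤ) := by
      intro L hnd y hy hc
      induction L with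
      | nil => simp at hy
      | cons z L ih =>
        rw [List.nodup_cons] at hnd
        rw [List.map_cons, List.prod_cons, hc z List.mem_cons_self]
        rcases List.mem_cons.1 hy with rfl | hy'
        · rw [if_pos rfl, List.prod_eq_one fun q hq => ?_, mul_one]
          obtain ⟨m, hm, rfl⟩ := List.mem_map.1 hq
          rw [hc m (List.mem_cons_of_mem _ hm), if_neg (fun e => hnd.1 (by rw [← e]; exact hm)), zpow_zero]
        · rw [if_neg (fun e => hnd.1 (by rw [e]; exact hy')), zpow_zero, one_mul,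
            ih hnd.2 hy' fun q hq => hc q (List.mem_cons_of_mem _ hq)]
    have hh := List.head_mem hS.2.1
    simp only [μ1, hμdef, mu]
    rw [key J hS.1.2.1 _ hh fun z hz => hself z hz _ hh]
    simp only [a]
    rw [show ext' φ J g ((O.Jl nj j).head hS.2.1) = g from ext_head φ hS.2.1 g]
    exact zpow_natCast g 2
  set C := (u * N) * h0 * (u * N)⁻¹
  have hC : C = (u * (h1 * u⁻¹ * h1⁻¹)) * h1 := by simp only [C, h0]; group
  set u' := u * (h1 * u⁻¹ * h1⁻¹)
  have hu' : u' ∈ T.X' (O.simpF no nj j) :=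
    (T.X' _).mul_mem hu (ax.H_conj _ h1 hh1 _ ((T.X' _).inv_mem hu))
  have hcomm : h0 * h1 * h0⁻¹ * h1⁻¹ = 1 := by
    rw [(diag_comm hG hh0.1 hh1.1).eq, mul_inv_cancel_right, mul_inv_cancel]
  set z := h0 * u' * h0⁻¹ * u'⁻¹
  have hzX : z ∈ T.X' (O.simpF no nj j) :=
    (T.X' _).mul_mem (ax.H_conj _ h0 hh0 _ hu') ((T.X' _).inv_mem hu')
  have hzH : z ∈ H := by
    have hCH : C ∈ H := H.mul_mem (H.mul_mem huN hh0H) (H.inv_mem huN)
    have e : z = h0 * C * h0⁻¹ * C⁻¹ := by
      rw [hC]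
      calc z = h0 * u' * h0⁻¹ * (h0 * h1 * h0⁻¹ * h1⁻¹) * u'⁻¹ := by rw [hcomm, mul_one]
        _ = _ := by group
    rw [e]
    exact H.mul_mem (H.mul_mem (H.mul_mem hh0H hCH) (H.inv_mem hh0H)) (H.inv_mem hCH)
  obtain ⟨b, hb, hzb⟩ := (mem_X'_simp_iff hG hO φ hf hn hcol j).1 hzX
  have hbv : b (J.head hS.2.1) = (μ0 - 1) * (1 - μ1) := by
    have e1 : u' = pv hG D.simple J (fun m => 1 - μ (D.simple m)) := by
      simp only [u']
      rw [pv_inv hG (Or.inl rfl) hS.1, scale_pv hG hS.1.1 hμh1, pv_mul hG (Or.inl rfl) hS.1]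
      exact congrArg List.prod (List.map_congr_left fun m _ => congrArg _ (by ring))
    have e2 : z = pv hG D.simple J (fun m => (μ (wordRoot D W (D.simple m)) - 1) * (1 - μ (D.simple m))) := by
      simp only [z]
      rw [e1, scale_pv hG hS.1.1 hμh0, pv_inv hG (Or.inl rfl) hS.1, pv_mul hG (Or.inl rfl) hS.1]
      exact congrArg List.prod (List.map_congr_left fun m _ => congrArg _ (by ring))
    exact pv_inj hG hf hn (Or.inl rfl) hS.1 (hzb.symm.trans e2) (List.head_mem hS.2.1)
  obtain ⟨hbfix, hbext⟩ := param_ext hG hO φ hf hn hcol hb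
  rw [hbv] at hbfix hbext
  have hne : (μ0 - 1) * (1 - μ1) ≠ 0 :=
    mul_ne_zero (sub_ne_zero.2 hμ1) (sub_ne_zero.2 (Ne.symm (by rw [hμ1v]; exact hg2)))
  have hknown := known_simp hG hO φ hf hn hcol (μ := fun s => μ (wordRoot D W s)) hh0 hh0H hμh0 hne hbfix
    (by rw [← hbext, ← hzb]; exact hzH) hgen
  have hNH : N ∈ H := by simpa using H.mul_mem (H.inv_mem (hknown hu)) huN
  have hvH : v ∈ H := by
    have := H.mul_mem (H.mul_mem (H.inv_mem (H.pow_mem hNH k)) hxin) (H.pow_mem hNH k)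
    simpa [x, mul_assoc] using this
  have hknown2 := known_simp hG hO φ hf hn hcol (μ := fun s => μ (wordRoot D W s)) hh0 hh0H hμh0 one_ne_zero
    (Function.iterate_fixed (map_one φ) _) (H := H) (j := j2) (by
      refine (?_ : pv hG D.simple J2 (ext' φ J2 (1 : F)) = v) ▸ hvH
      exact congrArg List.prod (List.map_congr_left fun m _ => by
        simp only [ext']; rw [Function.iterate_fixed (map_one φ)])) hgen2
  have horb : ∀ o, T.X' o ≤ H → T.X' (w.foldr (fun i x => O.reflF no nj i x) o) ≤ H := by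
    intro o ho y hy
    rw [← wl_flat_eq hG hO φ w] at hy
    have hy' : N⁻¹ * y * N ∈ T.X' o := by
      apply (RootBN.Data.acts_nw ax w o _).1
      show N * (N⁻¹ * y * N) * N⁻¹ ∈ T.X' _
      simp only [mul_assoc, mul_inv_cancel_left, mul_inv_cancel, mul_one]
      exact hy
    have := H.mul_mem (H.mul_mem hNH (ho hy')) (H.inv_mem hNH)
    simpa [mul_assoc] using this
  have hiter : ∀ n o, T.X' o ≤ H → T.X' ((fun o => w.foldr (fun i x => O.reflF no nj i x) o)^[n] o) ≤ H := by
    intro n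
    induction n with
    | zero => exact fun o ho => ho
    | succ n ih => intro o ho; rw [Function.iterate_succ_apply']; exact horb _ (ih o ho)
  have hall : ∀ o, o ∈ (List.range h).flatMap (fun n =>
      [(fun o => w.foldr (fun i x => O.reflF no nj i x) o)^[n] (O.simpF no nj j),
       (fun o => w.foldr (fun i x => O.reflF no nj i x) o)^[n] (O.simpF no nj j2)]) → T.X' o ≤ H := by
    intro o ho
    obtain ⟨n, -, hn'⟩ := List.mem_flatMap.1 ho
    simp only [List.mem_cons, List.not_mem_nil, or_false] at hn'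
    rcases hn' with rfl | rfl
    exacts [hiter n _ hknown, hiter n _ hknown2]
  refine Gt_le hG hO φ hf hn hcol fun i c hc => ⟨?_, ?_⟩
  · exact hall _ (hcover i).1 ((mem_X'_simp_iff hG hO φ hf hn hcol i).2 ⟨c, hc, rfl⟩)
  · refine hall _ (hcover i).2 ?_
    have hopp : O.orbF no (D.nroots - 1 - O.repF no (O.simpF no nj i)) = T.opp' (O.simpF no nj i) := by
      show _ = O.orbF no (D.neg (O.repF no (O.simpF no nj i)))
      rw [neg_eq hf (hO.2.1.1 _).1]
    rw [hopp]
    exact (mem_X'_opp_iff hG hO φ hf hn hcol i).2 ⟨c, hc, rfl⟩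

end twist

end Cfsg.Agent.TwoGen
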