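/-
The kinds of witnesses for two generators of a Chevalley group.
-/
import Cfsg.Agent.Lib.TwoGen.Chev

set_option autoImplicit false

namespace Cfsg.Agent.TwoGen

open Cfsg.Lie Cfsg.Agent.Chev

variable (D : ChevalleyDatum)

/-- Witness with one root: `x_α(1)` times a torus element fixing it. -/
def CertOne (w : List ℕ) (α : ℕ) (L : List ℕ) (k h e : ℕ) (cs : List ℕ) (d : List (ℕ × ℕ)) : Prop :=
  (∀ i ∈ w, i < D.rank) ∧ α < D.nroots ∧ (∀ γ ∈ L, γ < D.nroots) ∧ pairSum D L α = 0 ∧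
    (pairSum D L ((wordRoot D w)^[k] α)).natAbs = e ∧
    GenList D (grow D cs (orbitList D w ((wordRoot D w)^[k] α) h) d)

/-- Witness with two roots: `x_α(1)` times a conjugate of a torus element by `x_r(1)`. -/
def CertTwo (w : List ℕ) (α r : ℕ) (L : List ℕ) (k h h2 e : ℕ) (cs : List ℕ) (d1 d2 : List (ℕ × ℕ)) : Prop :=
  (∀ i ∈ w, i < D.rank) ∧ α < D.nroots ∧ r < D.nroots ∧ (∀ γ ∈ L, γ < D.nroots) ∧ pairSum D L α = 0 ∧
    CommRoot D r α ∧ CommRoot D r ((wordRoot D w)^[k] α) ∧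
    (pairSum D L ((wordRoot D w)^[k] α)).natAbs = e ∧ (pairSum D L r).natAbs = 1 ∧
    (∀ γ ∈ L, γ ∈ grow D cs (orbitList D w ((wordRoot D w)^[k] α) h) d1 ∧
      D.neg γ ∈ grow D cs (orbitList D w ((wordRoot D w)^[k] α) h) d1) ∧
    GenList D (grow D cs (grow D cs (orbitList D w ((wordRoot D w)^[k] α) h) d1 ++ orbitList D w r h2) d2)

/-- Witness over two elements: `x_α(1) x_r(1)` separated by a commutator. -/
def CertThree (w : List ℕ) (α r m h h2 : ℕ) (d1 d2 : List (ℕ × ℕ)) : Prop :=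
  (∀ i ∈ w, i < D.rank) ∧ α < D.nroots ∧ r < D.nroots ∧ CommRoot D α r ∧
    CommRoot D α (wordRoot D w α) ∧ CommRoot D α (wordRoot D w r) ∧ CommRoot D r (wordRoot D w α) ∧
    CommRoot D (wordRoot D w α) (wordRoot D w r) ∧
    wordRoot D w r ≠ r ∧ wordRoot D w r ≠ D.neg r ∧
    (match D.commTerms r (wordRoot D w r) with
     | [(m', C, a, b)] => m' = m ∧ a = 1 ∧ b = 1 ∧ C.natAbs = 1
     | _ => False) ∧
    r ∈ grow D [1] (orbitList D w m h) d1 ∧
    GenList D (grow D [1] (grow D [1] (orbitList D w m h) d1 ++ orbitList D w α h2) d2)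

/-- Witness over two elements: `x_α(1)` times an element of order three. -/
def CertFour (w : List ℕ) (α r β m h h2 : ℕ) (d1 d2 : List (ℕ × ℕ)) : Prop :=
  (∀ i ∈ w, i < D.rank) ∧ α < D.nroots ∧ r < D.nroots ∧ CommRoot D α r ∧ CommRoot D α (D.neg r) ∧
    β ∈ grow D [1] (orbitList D w α h) d1 ∧ CommRoot D (D.neg r) β ∧ β ≠ r ∧ β ≠ D.neg r ∧
    (match D.commTerms r β with
     | [(m', C, a, b)] => m' = m ∧ a = 1 ∧ b = 1 ∧ C.natAbs = 1
     | _ => False) ∧
    GenList D (grow D [1] (grow D [1] (orbitList D w α h) d1 ++ orbitList D w m h2) d2)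

variable {D} {F : Type*} [Field F] (hD : Good D)
include hD

/-- Two elements of the group generate it. -/
theorem two_gen_of_le {a b : GL D.Idx F} (ha : a ∈ D.group F) (hb : b ∈ D.group F)
    (h : D.group F ≤ Subgroup.closure {a, b}) :
    ∃ x y : ↥(D.group F), Subgroup.closure ({x, y} : Set ↥(D.group F)) = ⊤ := by
  refine ⟨⟨a, ha⟩, ⟨b, hb⟩, Subgroup.map_injective (D.group F).subtype_injective ?_⟩
  rw [MonoidHom.map_closure, Set.image_pair, ← MonoidHom.range_eq_map, Subgroup.range_subtype]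
  exact le_antisymm ((Subgroup.closure_le _).2 (Set.pair_subset ha hb)) h

omit hD in
theorem known_append {H : Subgroup (GL D.Idx F)} {L L' : List ℕ} (h : ∀ x ∈ L, x < D.nroots ∧ Known H x)
    (h' : ∀ x ∈ L', x < D.nroots ∧ Known H x) : ∀ x ∈ L ++ L', x < D.nroots ∧ Known H x := by
  intro x hx
  rcases List.mem_append.1 hx with h1 | h1
  exacts [h x h1, h' x h1]

variable [Fintype F]

omit hD in
theorem exists_unit_gen : ∃ g : Fˣ, ∀ x : Fˣ, x ∈ Subgroup.zpowers g := IsCyclic.exists_generator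

theorem two_gen_one {w : List ℕ} {α : ℕ} {L : List ℕ} {k h e : ℕ} {cs : List ℕ} {d : List (ℕ × ℕ)}
    (hc : CertOne D w α L k h e cs d) (hcs : ∀ c ∈ cs, (c : F) ≠ 0) (hs : Scales F e) :
    ∃ x y : ↥(D.group F), Subgroup.closure ({x, y} : Set ↥(D.group F)) = ⊤ := by
  obtain ⟨hw, hα, hL, h0, he, hgen⟩ := hc
  obtain ⟨g, hg⟩ := exists_unit_gen (F := F)
  set v := torG D L (g : F)
  set τ := xg D F α (1 : F)
  refine two_gen_of_le hD (wordN_mem_group hD w) (D.group F |>.mul_mem (hD.xg_mem_group α 1)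
    (torG_mem_group hD L (g : F))) ?_
  set H := Subgroup.closure {wordN D F w, τ * v}
  have hN : wordN D F w ∈ H := Subgroup.subset_closure (Or.inl rfl)
  have hb : τ * v ∈ H := Subgroup.subset_closure (Or.inr rfl)
  have hfix : v * τ * v⁻¹ = τ := by rw [torG_conj hD hL hα g.ne_zero, h0, zpow_zero, one_mul]
  have hcomm : Commute τ v := (mul_inv_eq_iff_eq_mul.1 hfix).symm
  have hτ : τ ∈ H := by
    have := H.inv_mem (H.pow_mem hb (Fintype.card F - 1))
    rwa [hcomm.mul_pow, torG_pow_card hD hL g.ne_zero, mul_one, xg_pow hD, hD.xg_inv, Nat.cast_sub Fintype.card_pos,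
      FiniteField.cast_card_eq_zero, Nat.cast_one, zero_sub, neg_one_mul, neg_neg] at this
  have hv : v ∈ H := by simpa using H.mul_mem (H.inv_mem hτ) hb
  obtain ⟨u, hu, hm⟩ := exists_mem_iterate hD hw hN hα one_ne_zero hτ k
  have hlt := iterate_lt hD hw hα k
  have hk := known_of_scale hD hg (by rwa [he]) hu hm hv (torG_conj hD hL hlt g.ne_zero)
  exact group_le_of_genList hD hgen (known_grow hD hcs d _ (known_orbitList hD hw hN hlt hk h))

theorem two_gen_two {w : List ℕ} {α r : ℕ} {L : List ℕ} {k h h2 e : ℕ} {cs : List ℕ} {d1 d2 : List (ℕ × ℕ)}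
    (hc : CertTwo D w α r L k h h2 e cs d1 d2) (hcs : ∀ c ∈ cs, (c : F) ≠ 0) (hs : Scales F e)
    (hs1 : Scales F 1) (hq : 2 < Fintype.card F) :
    ∃ x y : ↥(D.group F), Subgroup.closure ({x, y} : Set ↥(D.group F)) = ⊤ := by
  obtain ⟨hw, hα, hr, hL, h0, hrα, hrβ, he, her, hLK, hgen⟩ := hc
  classical
  obtain ⟨g, hg⟩ := exists_unit_gen (F := F)
  have hg1 : (g : F) ≠ 1 := fun h => by
    have : Fintype.card Fˣ ≤ 1 := Fintype.card_le_one_iff.2 fun a b => by
      have e : g = 1 := Units.ext h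
      obtain ⟨i, rfl⟩ := hg a
      obtain ⟨l, rfl⟩ := hg b
      simp [e]
    rw [Fintype.card_units] at this
    omega
  set t := torG D L (g : F)
  set c := xg D F r (1 : F)
  set v := c * t * c⁻¹
  set τ := xg D F α (1 : F)
  refine two_gen_of_le hD (wordN_mem_group hD w) (D.group F |>.mul_mem (hD.xg_mem_group α 1)
    (D.group F |>.mul_mem (D.group F |>.mul_mem (hD.xg_mem_group r 1) (torG_mem_group hD L (g : F)))
      (D.group F |>.inv_mem (hD.xg_mem_group r 1)))) ?_
  set H := Subgroup.closure {wordN D F w, τ * v}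
  have hN : wordN D F w ∈ H := Subgroup.subset_closure (Or.inl rfl)
  have hb : τ * v ∈ H := Subgroup.subset_closure (Or.inr rfl)
  have hvconj : ∀ s < D.nroots, CommRoot D r s → ∀ a : F,
      v * xg D F s a * v⁻¹ = xg D F s ((g : F) ^ pairSum D L s * a) := by
    intro s hs' hrs a
    have c1 := commute_of_commRoot hD hr hs' hrs (1 : F) a
    have c2 := commute_of_commRoot hD hr hs' hrs (1 : F) ((g : F) ^ pairSum D L s * a)
    have e1 : c⁻¹ * xg D F s a * c = xg D F s a := by rw [mul_assoc, ← c1.eq, inv_mul_cancel_left]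
    calc v * xg D F s a * v⁻¹ = c * (t * (c⁻¹ * xg D F s a * c) * t⁻¹) * c⁻¹ := by simp only [v]; group
      _ = c * (t * xg D F s a * t⁻¹) * c⁻¹ := by rw [e1]
      _ = c * xg D F s ((g : F) ^ pairSum D L s * a) * c⁻¹ := by rw [torG_conj hD hL hs' g.ne_zero]
      _ = xg D F s ((g : F) ^ pairSum D L s * a) := by rw [c2.eq, mul_inv_cancel_right]
  have hfix : v * τ * v⁻¹ = τ := by rw [hvconj α hα hrα, h0, zpow_zero, one_mul]
  have hcomm : Commute τ v := (mul_inv_eq_iff_eq_mul.1 hfix).symm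
  have hvq : v ^ (Fintype.card F - 1) = 1 := by
    rw [conj_pow, torG_pow_card hD hL g.ne_zero, mul_one, mul_inv_cancel]
  have hτ : τ ∈ H := by
    have := H.inv_mem (H.pow_mem hb (Fintype.card F - 1))
    rwa [hcomm.mul_pow, hvq, mul_one, xg_pow hD, hD.xg_inv, Nat.cast_sub Fintype.card_pos,
      FiniteField.cast_card_eq_zero, Nat.cast_one, zero_sub, neg_one_mul, neg_neg] at this
  have hv : v ∈ H := by simpa using H.mul_mem (H.inv_mem hτ) hb
  obtain ⟨u, hu, hm⟩ := exists_mem_iterate hD hw hN hα one_ne_zero hτ k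
  have hlt := iterate_lt hD hw hα k
  have hk := known_of_scale hD hg (by rwa [he]) hu hm hv (hvconj _ hlt hrβ)
  have hK1 := known_grow hD hcs d1 _ (known_orbitList hD hw hN hlt hk h)
  have ht : t ∈ H := by
    refine list_prod_mem fun x hx => ?_
    obtain ⟨γ, hγ, rfl⟩ := List.mem_map.1 hx
    have hp := (hK1 _ (hLK γ hγ).1).2
    have hn := (hK1 _ (hLK γ hγ).2).2
    rw [hG_eq, nG_eq, nG_eq]
    exact H.mul_mem (H.mul_mem (H.mul_mem (hp _) (hn _)) (hp _)) (H.mul_mem (H.mul_mem (hp _) (hn _)) (hp _))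
  have hne : (g : F) ^ pairSum D L r ≠ 1 := by
    rcases Int.natAbs_eq (pairSum D L r) with h' | h' <;> rw [h', her] <;> simp [hg1]
  have hmem : xg D F r (1 - (g : F) ^ pairSum D L r) ∈ H := by
    have := H.mul_mem hv (H.inv_mem ht)
    rw [show v * t⁻¹ = c * (t * c⁻¹ * t⁻¹) by simp only [v]; group, hD.xg_inv, torG_conj hD hL hr g.ne_zero, hD.xg_add,
      mul_neg_one, ← sub_eq_add_neg] at this
    exact this
  have hkr := known_of_scale hD hg (by rwa [her]) (sub_ne_zero.2 (Ne.symm hne)) hmem ht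
    (torG_conj hD hL hr g.ne_zero)
  exact group_le_of_genList hD hgen
    (known_grow hD hcs d2 _ (known_append hK1 (known_orbitList hD hw hN hr hkr h2)))

omit hD in
theorem eq_one_of_card_two (hq : Fintype.card F = 2) {x : F} (hx : x ≠ 0) : x = 1 := by
  classical
  by_contra h
  have : ({0, 1, x} : Finset F).card = 3 := by
    rw [Finset.card_insert_of_notMem (by simp [Ne.symm hx]), Finset.card_pair (Ne.symm h)]
  have := this ▸ Finset.card_le_univ ({0, 1, x} : Finset F)
  omega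

theorem known_of_card_two (hq : Fintype.card F = 2) {H : Subgroup (GL D.Idx F)} {r : ℕ} {x : F} (hx : x ≠ 0)
    (h : xg D F r x ∈ H) : Known H r := by
  intro t
  rcases eq_or_ne t 0 with rfl | ht
  · rw [hD.xg_zero]; exact H.one_mem
  · rwa [eq_one_of_card_two hq ht, ← eq_one_of_card_two hq hx]

theorem two_gen_three {w : List ℕ} {α r m h h2 : ℕ} {d1 d2 : List (ℕ × ℕ)}
    (hc : CertThree D w α r m h h2 d1 d2) (hq : Fintype.card F = 2) :
    ∃ x y : ↥(D.group F), Subgroup.closure ({x, y} : Set ↥(D.group F)) = ⊤ := by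
  obtain ⟨hw, hα, hr, hαr, h1, h2', h3, h4, hne, hnn, hterm, hrK, hgen⟩ := hc
  set A := xg D F α (1 : F)
  set B := xg D F r (1 : F)
  refine two_gen_of_le hD (wordN_mem_group hD w) (D.group F |>.mul_mem (hD.xg_mem_group α 1)
    (hD.xg_mem_group r 1)) ?_
  set H := Subgroup.closure {wordN D F w, A * B}
  have hN : wordN D F w ∈ H := Subgroup.subset_closure (Or.inl rfl)
  have hu : A * B ∈ H := Subgroup.subset_closure (Or.inr rfl)
  have hα' := wordRoot_lt hD hw hα
  have hr' := wordRoot_lt hD hw hr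
  obtain ⟨ε, hε, he⟩ := exists_sign_wordN hD (F := F) hw hα
  obtain ⟨δ, hδ, hd⟩ := exists_sign_wordN hD (F := F) hw hr
  set A' := xg D F (wordRoot D w α) (ε * 1)
  set B' := xg D F (wordRoot D w r) (δ * 1)
  have hv : A' * B' ∈ H := by
    have e1 := eq_mul_inv_of_mul_eq (he (1 : F)).symm
    have e2 := eq_mul_inv_of_mul_eq (hd (1 : F)).symm
    have : A' * B' = wordN D F w * (A * B) * (wordN D F w)⁻¹ := by
      simp only [A', B', e1, e2]; group; rfl
    rw [this]
    exact H.mul_mem (H.mul_mem hN hu) (H.inv_mem hN)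
  have cAB := commute_of_commRoot hD hα hr hαr (1 : F) 1
  have cAA := commute_of_commRoot hD hα hα' h1 (1 : F) (ε * 1)
  have cAB' := commute_of_commRoot hD hα hr' h2' (1 : F) (δ * 1)
  have cBA' := commute_of_commRoot hD hr hα' h3 (1 : F) (ε * 1)
  have cA'B' := commute_of_commRoot hD hα' hr' h4 (ε * 1) (δ * 1)
  have key : B'⁻¹ * B⁻¹ * B' * B ∈ H := by
    have : B'⁻¹ * B⁻¹ * B' * B = (A' * B')⁻¹ * (A * B)⁻¹ * (A' * B') * (A * B) := by
      have cA : Commute A (A' * B') := cAA.mul_right cAB'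
      have cA' : Commute A' (B'⁻¹ * B⁻¹ * B' * B) :=
        ((cA'B'.inv_right.mul_right cBA'.symm.inv_right).mul_right cA'B').mul_right cBA'.symm
      calc B'⁻¹ * B⁻¹ * B' * B = A'⁻¹ * (B'⁻¹ * B⁻¹ * B' * B) * A' := by
            rw [mul_assoc _ _ A', ← cA'.eq, inv_mul_cancel_left]
        _ = (A' * B')⁻¹ * B⁻¹ * (A' * B') * B := by
            rw [show A'⁻¹ * (B'⁻¹ * B⁻¹ * B' * B) * A' = A'⁻¹ * B'⁻¹ * B⁻¹ * B' * (B * A') by group,
              cBA'.eq, show A'⁻¹ * B'⁻¹ * B⁻¹ * B' * (A' * B) = A'⁻¹ * B'⁻¹ * B⁻¹ * (B' * A') * B by group,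
              ← cA'B'.eq, show A'⁻¹ * B'⁻¹ = (A' * B')⁻¹ by rw [cA'B'.eq, mul_inv_rev]]
        _ = (A' * B')⁻¹ * (A * B)⁻¹ * (A' * B') * (A * B) := by
            rw [show (A' * B')⁻¹ * (A * B)⁻¹ * (A' * B') * (A * B) =
              (A' * B')⁻¹ * B⁻¹ * (A⁻¹ * ((A' * B') * A)) * B by group, ← cA.eq, inv_mul_cancel_left]
    rw [this]
    exact H.mul_mem (H.mul_mem (H.mul_mem (H.inv_mem hv) (H.inv_mem hu)) hv) hu
  rw [hD.xg_commutator hr hr' hne hnn (1 : F) (δ * 1)] at key
  split at hterm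
  case h_2 => exact hterm.elim
  case h_1 m' C a b hterms =>
    obtain ⟨rfl, rfl, rfl, hC⟩ := hterm
    simp only [ChevalleyDatum.commWord, hterms, List.map_cons, List.map_nil] at key
    have hC0 : (C : F) ≠ 0 := by
      rcases Int.natAbs_eq C with h' | h' <;> rw [h', hC] <;> simp
    have hmlt : m' < D.nroots :=
      hD.commTerms_lt hr hr' (x := (m', C, 1, 1)) (by rw [hterms]; exact List.mem_cons_self)
    have hkm : Known H m' := known_of_card_two hD hq (x := -((C : F) * δ)) (neg_ne_zero.2 (mul_ne_zero hC0 hδ))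
      (by simpa [wordG] using key)
    have hK1 := known_grow hD (cs := [1]) (by simp) d1 _ (known_orbitList hD hw hN hmlt hkm h)
    have hA : A ∈ H := by
      have := H.mul_mem hu (H.inv_mem ((hK1 r hrK).2 1))
      rwa [mul_inv_cancel_right] at this
    have hkα := known_of_card_two hD hq one_ne_zero hA
    exact group_le_of_genList hD hgen
      (known_grow hD (cs := [1]) (by simp) d2 _ (known_append hK1 (known_orbitList hD hw hN hα hkα h2)))

theorem two_gen_four {w : List ℕ} {α r β m h h2 : ℕ} {d1 d2 : List (ℕ × ℕ)}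
    (hc : CertFour D w α r β m h h2 d1 d2) (hq : Fintype.card F = 2) :
    ∃ x y : ↥(D.group F), Subgroup.closure ({x, y} : Set ↥(D.group F)) = ⊤ := by
  obtain ⟨hw, hα, hr, hαr, hαn, hβK, hnβ, hβr, hβn, hterm, hgen⟩ := hc
  have h20 : (2 : F) = 0 := by
    have := FiniteField.cast_card_eq_zero F
    rwa [hq] at this
  have hn := hD.neg_lt hr
  set τ := xg D F α (1 : F)
  set R := xg D F r (1 : F)
  set S := xg D F (D.neg r) (1 : F)
  set v := R * S
  refine two_gen_of_le hD (wordN_mem_group hD w) (D.group F |>.mul_mem (hD.xg_mem_group α 1)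
    (D.group F |>.mul_mem (hD.xg_mem_group r 1) (hD.xg_mem_group (D.neg r) 1))) ?_
  set H := Subgroup.closure {wordN D F w, τ * v}
  have hN : wordN D F w ∈ H := Subgroup.subset_closure (Or.inl rfl)
  have hb : τ * v ∈ H := Subgroup.subset_closure (Or.inr rfl)
  have hcomm : Commute τ v :=
    (commute_of_commRoot hD hα hr hαr (1 : F) 1).mul_right (commute_of_commRoot hD hα hn hαn (1 : F) 1)
  have hv3 : v ^ 3 = 1 := by
    obtain ⟨φ, hφ⟩ := hD.exists_sl2_hom (F := F) hr
    have e : v = φ (upperSL 1 * lowerSL 1) := by rw [map_mul, hφ.1, hφ.2]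
    have hm : (upperSL (1 : F) * lowerSL 1) ^ 3 = 1 := by
      refine Subtype.ext ?_
      rw [Matrix.SpecialLinearGroup.coe_pow, Matrix.SpecialLinearGroup.coe_mul, coe_upperSL, coe_lowerSL,
        Matrix.SpecialLinearGroup.coe_one]
      ext i j
      fin_cases i <;> fin_cases j <;> simp [pow_succ, Matrix.mul_apply, Fin.sum_univ_two] <;>
        first | linear_combination (4 : F) * h20 | linear_combination (6 : F) * h20 |
          linear_combination (2 : F) * h20 | linear_combination h20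
    rw [e, ← map_pow, hm, map_one]
  have hτ : τ ∈ H := by
    have := H.pow_mem hb 3
    rwa [hcomm.mul_pow, hv3, mul_one, xg_pow hD, show ((3 : ℕ) : F) = 1 by push_cast; linear_combination h20,
      mul_one] at this
  have hv : v ∈ H := by simpa using H.mul_mem (H.inv_mem hτ) hb
  have hK1 := known_grow hD (cs := [1]) (by simp) d1 _
    (known_orbitList hD hw hN hα (known_of_card_two hD hq one_ne_zero hτ) h)
  obtain ⟨hβ, hkβ⟩ := hK1 β hβK
  set X := xg D F β (1 : F)
  have cS := commute_of_commRoot hD hn hβ hnβ (1 : F) 1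
  have key : v * X * v⁻¹ * X⁻¹ ∈ H := H.mul_mem (H.mul_mem (H.mul_mem hv (hkβ 1)) (H.inv_mem hv)) (H.inv_mem (hkβ 1))
  have e : v * X * v⁻¹ * X⁻¹ = R * X * R⁻¹ * X⁻¹ := by
    rw [show v * X * v⁻¹ * X⁻¹ = R * (S * X * S⁻¹) * R⁻¹ * X⁻¹ by simp only [v]; group, cS.eq, mul_inv_cancel_right]
  have e' : R * X * R⁻¹ * X⁻¹ = (wordG D F (D.commWord F r β 1 1))⁻¹ := by
    have hone : (-1 : F) = 1 := by linear_combination -h20
    rw [← hD.xg_commutator hr hβ hβr hβn (1 : F) 1]
    simp only [R, X, hD.xg_inv, mul_inv_rev, inv_inv, hone]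
    group
  rw [e, e', H.inv_mem_iff] at key
  split at hterm
  case h_2 => exact hterm.elim
  case h_1 m' C a b hterms =>
    obtain ⟨rfl, rfl, rfl, hC⟩ := hterm
    simp only [ChevalleyDatum.commWord, hterms, List.map_cons, List.map_nil] at key
    have hC0 : (C : F) ≠ 0 := by
      rcases Int.natAbs_eq C with h' | h' <;> rw [h', hC] <;> simp
    have hmlt : m' < D.nroots :=
      hD.commTerms_lt hr hβ (x := (m', C, 1, 1)) (by rw [hterms]; exact List.mem_cons_self)
    have hkm : Known H m' := known_of_card_two hD hq (x := -(C : F)) (neg_ne_zero.2 hC0)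
      (by simpa [wordG] using key)
    exact group_le_of_genList hD hgen
      (known_grow hD (cs := [1]) (by simp) d2 _ (known_append hK1 (known_orbitList hD hw hN hmlt hkm h2)))

end Cfsg.Agent.TwoGen
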