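import Cfsg.Agent.Lib.MaxCl.OrthBase
import Cfsg.Agent.Lib.CurtisTits.Signed

/-!
Root elements, signed permutation elements and torus elements for a family of orthogonal hyperbolic pairs inside
a quadratic space.
-/

set_option autoImplicit false

namespace Cfsg.Agent.TwoGen

open Cfsg.Agent.CurtisTits Cfsg.Agent.CurtisTits.DType
open Cfsg.Agent.MaxCl Cfsg.Agent.MaxCl.Orth
open scoped MatrixGroups

variable {ι : Type} [Fintype ι] [DecidableEq ι] {F : Type*} [Field F]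

/-- A family of mutually orthogonal hyperbolic pairs. -/
structure OFrame (Q : QuadraticForm F (ι → F)) (m : ℕ) where
  /-- The vectors. -/
  ev : SIdx m → ι → F
  sing : ∀ a, Q (ev a) = 0
  pair : ∀ a b, QuadraticMap.polar (⇑Q) (ev a) (ev b) = if b = ng a then 1 else 0

namespace OFrame

variable {Q : QuadraticForm F (ι → F)} {m : ℕ} (φ : OFrame Q m)

set_option quotPrecheck false in
local notation "B" => QuadraticMap.polar (⇑Q)

/-- The vector orthogonal to all pairs. -/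
def Perp (w : ι → F) : Prop := ∀ a, B (φ.ev a) w = 0

/-- The projection to the orthogonal of all pairs. -/
noncomputable def proj (x : ι → F) : ι → F := x - ∑ a, B (φ.ev (ng a)) x • φ.ev a

theorem perp_proj (x : ι → F) : φ.Perp (φ.proj x) := fun b => by
  rw [proj, B_sub_right Q]
  conv_lhs => arg 2; rw [← QuadraticMap.polarBilin_apply_apply, map_sum, Finset.sum_eq_single (ng b)
    (fun a _ ha => by simp [φ.pair, show a ≠ ng b from ha]) (by simp)]
  simp [φ.pair, ng_ng]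

theorem decomp (x : ι → F) : ∑ a, B (φ.ev (ng a)) x • φ.ev a + φ.proj x = x := by rw [proj]; abel

theorem pair_ng (a : SIdx m) : B (φ.ev a) (φ.ev (ng a)) = 1 := by rw [φ.pair, if_pos rfl]

theorem pair_ng' (a : SIdx m) : B (φ.ev (ng a)) (φ.ev a) = 1 := by rw [φ.pair, if_pos (ng_ng a).symm]

theorem pair_zero {a b : SIdx m} (h : b ≠ ng a) : B (φ.ev a) (φ.ev b) = 0 := by rw [φ.pair, if_neg h]

theorem pair_self (a : SIdx m) : B (φ.ev a) (φ.ev a) = 0 := φ.pair_zero (ng_ne a).symm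

theorem pair_lv {a b : SIdx m} (h : lv a ≠ lv b) : B (φ.ev a) (φ.ev b) = 0 :=
  φ.pair_zero fun e => h (by rw [e, lv_ng])

/-- Maps agreeing on the pairs and their orthogonal agree. -/
theorem frame_ext {g h : GL ι F} (he : ∀ a, act g (φ.ev a) = act h (φ.ev a))
    (hw : ∀ w, φ.Perp w → act g w = act h w) : g = h := gl_ext fun x => by
  rw [← φ.decomp x, map_add, map_add, hw _ (φ.perp_proj x), map_sum, map_sum]
  congr 1
  exact Finset.sum_congr rfl fun a _ => by rw [map_smul, map_smul, he]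

/-- The root element. -/
noncomputable def E (a b : SIdx m) (t : F) : GL ι F := sg Q (φ.ev a) ((-t) • φ.ev (ng b))

theorem E_mem_iso (a b : SIdx m) (t : F) : φ.E a b t ∈ isometryGroup F Q := sg_mem_iso _ _ _

theorem B_E {a b : SIdx m} (h : lv a ≠ lv b) (c : F) : B (φ.ev a) (c • φ.ev (ng b)) = 0 := by
  rw [B_smul_right Q, φ.pair_lv (by rwa [lv_ng]), mul_zero]

theorem E_add {a b : SIdx m} (h : lv a ≠ lv b) (t u : F) : φ.E a b t * φ.E a b u = φ.E a b (t + u) := by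
  rw [E, E, E, sg_add Q (φ.sing a) (φ.B_E h _) (φ.B_E h _), ← add_smul, neg_add]

theorem E_zero (a b : SIdx m) : φ.E a b 0 = 1 := by rw [E, neg_zero, zero_smul, sg_zero]

theorem E_inv {a b : SIdx m} (h : lv a ≠ lv b) (t : F) : (φ.E a b t)⁻¹ = φ.E a b (-t) :=
  inv_eq_of_mul_eq_one_right (by rw [φ.E_add h, add_neg_cancel, φ.E_zero])

theorem act_E {a b : SIdx m} (h : lv a ≠ lv b) (t : F) (x : ι → F) :
    act (φ.E a b t) x = x + (-t * B (φ.ev a) x) • φ.ev (ng b) + (t * B (φ.ev (ng b)) x) • φ.ev a := by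
  rw [E, act_sg Q (φ.sing a) (φ.B_E h _), B_smul_left Q, Q_smul Q, φ.sing]
  match_scalars <;> ring

theorem act_E_perp {a b : SIdx m} (h : lv a ≠ lv b) (t : F) {w : ι → F} (hw : φ.Perp w) :
    act (φ.E a b t) w = w := by
  rw [φ.act_E h, hw a, hw (ng b)]; simp

theorem act_E_ev {a b c : SIdx m} (h : lv a ≠ lv b) (t : F) (h1 : c ≠ b) (h2 : c ≠ ng a) :
    act (φ.E a b t) (φ.ev c) = φ.ev c := by
  rw [φ.act_E h, φ.pair_zero h2, φ.pair_zero (show c ≠ ng (ng b) by rwa [ng_ng])]; simp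

theorem act_E_right {a b : SIdx m} (h : lv a ≠ lv b) (t : F) :
    act (φ.E a b t) (φ.ev b) = φ.ev b + t • φ.ev a := by
  rw [φ.act_E h, φ.pair_zero (fun e => h (by rw [e, lv_ng])), φ.pair_ng']; simp

theorem act_E_ng {a b : SIdx m} (h : lv a ≠ lv b) (t : F) :
    act (φ.E a b t) (φ.ev (ng a)) = φ.ev (ng a) - t • φ.ev (ng b) := by
  rw [φ.act_E h, φ.pair_ng, φ.pair_zero (show ng a ≠ ng (ng b) from fun e => h (by
    rw [ng_ng] at e; rw [← e, lv_ng]))]
  simp [sub_eq_add_neg]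

/-- Conjugates by elements permuting two vectors up to scalars. -/
theorem conj_E {g : GL ι F} (hg : g ∈ isometryGroup F Q) {a b a' b' : SIdx m} (h' : lv a' ≠ lv b') {α β : F}
    (ha : act g (φ.ev a) = α • φ.ev a') (hb : act g (φ.ev (ng b)) = β • φ.ev (ng b')) (t : F) :
    g * φ.E a b t * g⁻¹ = φ.E a' b' (α * β * t) := by
  rw [E, E, conj_sg Q hg, map_smul, ha, hb, smul_smul, sg_smul_left Q (φ.sing a') (φ.B_E h' _), smul_smul]
  congr 2
  ring

theorem sg_swap {u w : ι → F} (hu : Q u = 0) (hw : Q w = 0) (h : B u w = 0) : sg Q u w = sg Q w (-u) := by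
  refine gl_ext fun x => ?_
  rw [act_sg Q hu h, act_sg Q hw (by rw [B_neg_right Q, B_comm Q w u, h, neg_zero]), hw, Q_neg Q, hu,
    B_neg_left Q]
  module

theorem E_symm {a b : SIdx m} (h : lv a ≠ lv b) (t : F) : φ.E (ng b) (ng a) t = φ.E a b (-t) := by
  have h' : B (φ.ev (ng b)) (φ.ev a) = 0 := φ.pair_lv (by rw [lv_ng]; exact h.symm)
  rw [E, E, ng_ng, neg_neg, sg_swap (φ.sing _) (by rw [Q_smul Q, φ.sing, mul_zero])
    (by rw [B_smul_right Q, h', mul_zero]), sg_smul_left Q (φ.sing a) (by rw [B_neg_right Q, B_comm Q, h', neg_zero]),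
    smul_neg, neg_smul, neg_neg]

theorem E_chain {a b c : SIdx m} (h1 : lv a ≠ lv b) (h2 : lv b ≠ lv c) (h3 : lv a ≠ lv c) (t u : F) :
    φ.E a b t * φ.E b c u * (φ.E a b t)⁻¹ = φ.E b c u * φ.E a c (t * u) := by
  have hc : act (φ.E a b t) (φ.ev (ng c)) = φ.ev (ng c) :=
    φ.act_E_ev h1 t (fun e => h2 (by rw [← e, lv_ng])) (fun e => h3 (by rw [← lv_ng a, ← e, lv_ng]))
  have hbc : B (φ.ev (ng c)) (φ.ev b) = 0 := φ.pair_lv (by rw [lv_ng]; exact h2.symm)
  have hac : B (φ.ev (ng c)) (φ.ev a) = 0 := φ.pair_lv (by rw [lv_ng]; exact h3.symm)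
  have key : ∀ v : ι → F, Q v = 0 → B (φ.ev (ng c)) v = 0 → ∀ r : F,
      sg Q v ((-r) • φ.ev (ng c)) = sg Q (φ.ev (ng c)) (r • v) := by
    intro v hv hcv r
    rw [sg_swap hv (by rw [Q_smul Q, φ.sing, mul_zero]) (by rw [B_smul_right Q, B_comm Q, hcv, mul_zero]),
      sg_smul_left Q (φ.sing _) (by rw [B_neg_right Q, hcv, neg_zero]), neg_smul, smul_neg, neg_neg]
  have hsum : B (φ.ev (ng c)) (φ.ev b + t • φ.ev a) = 0 := by
    rw [B_add_right Q, B_smul_right Q, hbc, hac, mul_zero, add_zero]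
  have hQ : Q (φ.ev b + t • φ.ev a) = 0 := by
    rw [Q_add Q, φ.sing, Q_smul Q, φ.sing, B_smul_right Q, φ.pair_lv h1.symm]; ring
  rw [E, E, E, conj_sg Q (sg_mem_iso _ _ _), map_smul, ← E, hc, φ.act_E_right h1, key _ hQ hsum,
    key _ (φ.sing b) hbc, key _ (φ.sing a) hac, sg_add Q (φ.sing _) (by rw [B_smul_right Q, hbc, mul_zero])
      (by rw [B_smul_right Q, hac, mul_zero]), smul_add, smul_smul, mul_comm u t]

/-- The monomial element of a root. -/
noncomputable def nW (a b : SIdx m) (t : F) : GL ι F := φ.E a b t * φ.E b a (-t⁻¹) * φ.E a b t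

theorem nW_mem_iso (a b : SIdx m) (t : F) : φ.nW a b t ∈ isometryGroup F Q :=
  mul_mem (mul_mem (φ.E_mem_iso _ _ _) (φ.E_mem_iso _ _ _)) (φ.E_mem_iso _ _ _)

theorem act_nW_right {a b : SIdx m} (h : lv a ≠ lv b) {t : F} (ht : t ≠ 0) :
    act (φ.nW a b t) (φ.ev b) = t • φ.ev a := by
  have hab : a ≠ b := fun e => h (by rw [e])
  have hb : b ≠ ng b := (ng_ne b).symm
  have ha : a ≠ ng a := (ng_ne a).symm
  rw [nW, act_mul, act_mul, φ.act_E_right h, map_add, map_smul, φ.act_E_right h.symm,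
    φ.act_E_ev h.symm _ hab.symm hb, map_add, map_smul, map_add, map_smul,
    φ.act_E_right h, φ.act_E_ev h _ hab ha]
  match_scalars <;> field_simp <;> ring

theorem act_nW_left {a b : SIdx m} (h : lv a ≠ lv b) {t : F} (ht : t ≠ 0) :
    act (φ.nW a b t) (φ.ev a) = (-t⁻¹) • φ.ev b := by
  have hab : a ≠ b := fun e => h (by rw [e])
  have hb : b ≠ ng b := (ng_ne b).symm
  have ha : a ≠ ng a := (ng_ne a).symm
  rw [nW, act_mul, act_mul, φ.act_E_ev h _ hab ha, φ.act_E_right h.symm, map_add, map_smul,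
    φ.act_E_right h, φ.act_E_ev h _ hab ha]
  match_scalars <;> field_simp <;> ring

theorem nW_symm {a b : SIdx m} (h : lv a ≠ lv b) (t : F) : φ.nW (ng b) (ng a) (-t) = φ.nW a b t := by
  rw [nW, nW, φ.E_symm h, φ.E_symm h.symm, neg_neg, inv_neg, neg_neg]

theorem act_nW_ng_left {a b : SIdx m} (h : lv a ≠ lv b) {t : F} (ht : t ≠ 0) :
    act (φ.nW a b t) (φ.ev (ng a)) = (-t) • φ.ev (ng b) := by
  rw [← φ.nW_symm h, φ.act_nW_right (by rw [lv_ng, lv_ng]; exact h.symm) (neg_ne_zero.2 ht)]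

theorem act_nW_ng_right {a b : SIdx m} (h : lv a ≠ lv b) {t : F} (ht : t ≠ 0) :
    act (φ.nW a b t) (φ.ev (ng b)) = t⁻¹ • φ.ev (ng a) := by
  rw [← φ.nW_symm h, φ.act_nW_left (by rw [lv_ng, lv_ng]; exact h.symm) (neg_ne_zero.2 ht), inv_neg, neg_neg]

theorem act_nW_ev {a b c : SIdx m} (h : lv a ≠ lv b) (t : F) (h1 : lv c ≠ lv a) (h2 : lv c ≠ lv b) :
    act (φ.nW a b t) (φ.ev c) = φ.ev c := by
  have ha := lv_ne.1 h1
  have hb := lv_ne.1 h2
  rw [nW, act_mul, act_mul, φ.act_E_ev h _ hb.1 ha.2, φ.act_E_ev h.symm _ ha.1 hb.2,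
    φ.act_E_ev h _ hb.1 ha.2]

theorem act_nW_perp {a b : SIdx m} (h : lv a ≠ lv b) (t : F) {w : ι → F} (hw : φ.Perp w) :
    act (φ.nW a b t) w = w := by
  rw [nW, act_mul, act_mul, φ.act_E_perp h _ hw, φ.act_E_perp h.symm _ hw, φ.act_E_perp h _ hw]

/-- The torus element of a root. -/
noncomputable def hW (a b : SIdx m) (c : F) : GL ι F := φ.nW a b c * φ.nW a b (-1)

theorem act_hW {a b : SIdx m} (h : lv a ≠ lv b) {c : F} (hc : c ≠ 0) :
    act (φ.hW a b c) (φ.ev a) = c • φ.ev a ∧ act (φ.hW a b c) (φ.ev (ng a)) = c⁻¹ • φ.ev (ng a) ∧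
      act (φ.hW a b c) (φ.ev b) = c⁻¹ • φ.ev b ∧ act (φ.hW a b c) (φ.ev (ng b)) = c • φ.ev (ng b) := by
  have h1 : (-1 : F) ≠ 0 := by simp
  refine ⟨?_, ?_, ?_, ?_⟩
  · rw [hW, act_mul, φ.act_nW_left h h1, map_smul, φ.act_nW_right h hc, smul_smul]; simp
  · rw [hW, act_mul, φ.act_nW_ng_left h h1, map_smul, φ.act_nW_ng_right h hc, smul_smul]; simp
  · rw [hW, act_mul, φ.act_nW_right h h1, map_smul, φ.act_nW_left h hc, smul_smul]; simp
  · rw [hW, act_mul, φ.act_nW_ng_right h h1, map_smul, φ.act_nW_ng_left h hc, smul_smul]; simp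

theorem act_hW_ev {a b d : SIdx m} (h : lv a ≠ lv b) (c : F) (h1 : lv d ≠ lv a) (h2 : lv d ≠ lv b) :
    act (φ.hW a b c) (φ.ev d) = φ.ev d := by
  rw [hW, act_mul, φ.act_nW_ev h _ h1 h2, φ.act_nW_ev h _ h1 h2]

theorem act_hW_perp {a b : SIdx m} (h : lv a ≠ lv b) (c : F) {w : ι → F} (hw : φ.Perp w) :
    act (φ.hW a b c) w = w := by
  rw [hW, act_mul, φ.act_nW_perp h _ hw, φ.act_nW_perp h _ hw]

theorem hW_mem_iso (a b : SIdx m) (c : F) : φ.hW a b c ∈ isometryGroup F Q :=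
  mul_mem (φ.nW_mem_iso _ _ _) (φ.nW_mem_iso _ _ _)

variable (hQ : (QuadraticMap.polarBilin Q).Nondegenerate) (hn : 5 ≤ Fintype.card ι) [Finite F]
include hQ hn

theorem E_mem_omega (a b : SIdx m) (t : F) : φ.E a b t ∈ Cfsg.Geo.omegaGL ⇑Q := sg_mem_omega hQ hn _ _

theorem nW_mem_omega (a b : SIdx m) (t : F) : φ.nW a b t ∈ Cfsg.Geo.omegaGL ⇑Q :=
  mul_mem (mul_mem (φ.E_mem_omega hQ hn _ _ _) (φ.E_mem_omega hQ hn _ _ _)) (φ.E_mem_omega hQ hn _ _ _)

theorem hW_mem_omega (a b : SIdx m) (c : F) : φ.hW a b c ∈ Cfsg.Geo.omegaGL ⇑Q :=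
  mul_mem (φ.nW_mem_omega hQ hn _ _ _) (φ.nW_mem_omega hQ hn _ _ _)

end OFrame

end Cfsg.Agent.TwoGen
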