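import Cfsg.Agent.Lib.TwoGen.OrthFrame

/-!
Generation criterion: a signed cycle and the product of a root element with a commuting element of order prime to
the characteristic generate the derived group of an orthogonal group.
-/

set_option autoImplicit false

namespace Cfsg.Agent.TwoGen

open Cfsg.Agent.CurtisTits Cfsg.Agent.CurtisTits.DType
open Cfsg.Agent.MaxCl Cfsg.Agent.MaxCl.Orth
open scoped MatrixGroups

/-- The signed cycle on the indices. -/
def sigC {m : ℕ} : SIdx m → SIdx m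
  | .inl i => if h : i.val + 1 < m then .inl ⟨i.val + 1, h⟩ else .inr ⟨0, by have := i.isLt; omega⟩
  | .inr i => if h : i.val + 1 < m then .inr ⟨i.val + 1, h⟩ else .inl ⟨0, by have := i.isLt; omega⟩

theorem sigC_ng {m : ℕ} (a : SIdx m) : sigC (ng a) = ng (sigC a) := by
  rcases a with i | i <;> simp only [sigC, ng, Sum.swap_inl, Sum.swap_inr] <;> split_ifs <;> rfl

theorem sigC_lv {m : ℕ} (a : SIdx m) :
    (lv (sigC a)).val = if (lv a).val + 1 < m then (lv a).val + 1 else 0 := by
  rcases a with i | i <;> by_cases h : i.val + 1 < m <;> simp [sigC, lv, h]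

theorem sigC_lv_ne {m : ℕ} {a b : SIdx m} (h : lv a ≠ lv b) : lv (sigC a) ≠ lv (sigC b) := fun e => by
  have e' := congrArg Fin.val e
  rw [sigC_lv, sigC_lv] at e'
  have := (lv a).isLt
  have := (lv b).isLt
  refine h (Fin.ext ?_)
  split_ifs at e' <;> omega

theorem sigC_iterate_inl {m : ℕ} (i : Fin m) : ∀ k : ℕ, ∀ h : i.val + k < m,
    sigC^[k] (Sum.inl i) = Sum.inl ⟨i.val + k, h⟩
  | 0, _ => rfl
  | k + 1, h => by
    rw [Function.iterate_succ', Function.comp_apply, sigC_iterate_inl i k (by omega)]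
    exact dif_pos (show i.val + k + 1 < m by omega)

theorem sigC_pow_m {m : ℕ} (a : SIdx m) : sigC^[m] a = ng a := by
  have key : ∀ i : Fin m, sigC^[m] (Sum.inl i) = Sum.inr i := by
    intro i
    have hi := i.isLt
    have h1 : sigC^[m - 1 - i.val] (Sum.inl i) = Sum.inl ⟨m - 1, by omega⟩ := by
      rw [sigC_iterate_inl i _ (by omega)]
      exact congrArg Sum.inl (Fin.ext (show i.val + (m - 1 - i.val) = m - 1 by omega))
    have h2 : ∀ k : ℕ, ∀ h : k < m, sigC^[k + (1 + (m - 1 - i.val))] (Sum.inl i) = Sum.inr ⟨k, h⟩ := by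
      intro k
      induction k with
      | zero =>
        intro h
        rw [Function.iterate_add_apply, Function.iterate_add_apply, h1, Function.iterate_zero, id_eq,
          Function.iterate_one]
        exact dif_neg (show ¬ m - 1 + 1 < m by omega)
      | succ k ih =>
        intro h
        rw [show k + 1 + (1 + (m - 1 - i.val)) = (k + (1 + (m - 1 - i.val))) + 1 by omega, Function.iterate_succ',
          Function.comp_apply, ih (by omega)]
        exact dif_pos h
    have := h2 i.val hi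
    rwa [show i.val + (1 + (m - 1 - i.val)) = m by omega] at this
  rcases a with i | i
  · exact key i
  · have h : Function.Commute (sigC (m := m)) ng := sigC_ng
    have := (h.iterate_left m).eq (Sum.inl i)
    rw [key] at this
    simpa [ng] using this

namespace OFrame

variable {ι : Type} [Fintype ι] [DecidableEq ι] {F : Type*} [Field F] {Q : QuadraticForm F (ι → F)} {m : ℕ}
  (φ : OFrame Q m)

set_option quotPrecheck false in
local notation "B" => QuadraticMap.polar (⇑Q)

/-- `H` contains a nontrivial element of the root group. -/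
def Has (H : Subgroup (GL ι F)) (a b : SIdx m) : Prop := ∃ t : F, t ≠ 0 ∧ φ.E a b t ∈ H

/-- `H` contains the root group. -/
def Whole (H : Subgroup (GL ι F)) (a b : SIdx m) : Prop := ∀ t : F, φ.E a b t ∈ H

/-- The vectors whose Siegel elements at a basis vector lie in `H`. -/
noncomputable def ySub (H : Subgroup (GL ι F)) (a : SIdx m) : Submodule F (ι → F) where
  carrier := {y | B (φ.ev a) y = 0 ∧ ∀ c : F, sg Q (φ.ev a) (c • y) ∈ H}
  zero_mem' := ⟨B_zero_right Q _, fun c => by rw [smul_zero, sg_zero]; exact one_mem _⟩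
  add_mem' {y y'} h h' := ⟨by rw [B_add_right Q, h.1, h'.1, add_zero], fun c => by
    rw [smul_add, ← sg_add Q (φ.sing a) (by rw [B_smul_right Q, h.1, mul_zero])
      (by rw [B_smul_right Q, h'.1, mul_zero])]
    exact mul_mem (h.2 c) (h'.2 c)⟩
  smul_mem' r y h := ⟨by rw [B_smul_right Q, h.1, mul_zero], fun c => by rw [smul_smul]; exact h.2 _⟩

variable {φ} {H : Subgroup (GL ι F)}

theorem E_pow {a b : SIdx m} (h : lv a ≠ lv b) (t : F) : ∀ k : ℕ, φ.E a b t ^ k = φ.E a b ((k : F) * t)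
  | 0 => by rw [pow_zero, Nat.cast_zero, zero_mul, φ.E_zero]
  | k + 1 => by rw [pow_succ, E_pow h t k, φ.E_add h, Nat.cast_succ, add_mul, one_mul]

theorem Has.symm_ng {a b : SIdx m} (h : lv a ≠ lv b) (hh : φ.Has H a b) : φ.Has H (ng b) (ng a) := by
  obtain ⟨t, ht, hm⟩ := hh
  exact ⟨-t, neg_ne_zero.2 ht, by rw [φ.E_symm h, neg_neg]; exact hm⟩

theorem Whole.symm_ng {a b : SIdx m} (h : lv a ≠ lv b) (hh : φ.Whole H a b) : φ.Whole H (ng b) (ng a) :=
  fun t => by rw [φ.E_symm h]; exact hh _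

theorem Has.chain {a b c : SIdx m} (h1 : lv a ≠ lv b) (h2 : lv b ≠ lv c) (h3 : lv a ≠ lv c)
    (ha : φ.Has H a b) (hb : φ.Has H b c) : φ.Has H a c := by
  obtain ⟨t, ht, hmt⟩ := ha
  obtain ⟨u, hu, hmu⟩ := hb
  refine ⟨t * u, mul_ne_zero ht hu, ?_⟩
  have := H.mul_mem (H.inv_mem hmu) (H.mul_mem (H.mul_mem hmt hmu) (H.inv_mem hmt))
  rwa [φ.E_chain h1 h2 h3, inv_mul_cancel_left] at this

theorem Whole.chain {a b c : SIdx m} (h1 : lv a ≠ lv b) (h2 : lv b ≠ lv c) (h3 : lv a ≠ lv c)
    (ha : φ.Whole H a b) (hb : φ.Has H b c) : φ.Whole H a c := by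
  obtain ⟨u, hu, hmu⟩ := hb
  intro t
  have := H.mul_mem (H.inv_mem hmu) (H.mul_mem (H.mul_mem (ha (t / u)) hmu) (H.inv_mem (ha (t / u))))
  rwa [φ.E_chain h1 h2 h3, inv_mul_cancel_left, div_mul_cancel₀ _ hu] at this

theorem Whole.has {a b : SIdx m} (h : φ.Whole H a b) : φ.Has H a b := ⟨1, one_ne_zero, h 1⟩

section Monomial

variable {g : GL ι F} {σ : SIdx m → SIdx m}

theorem conj_has (hg : g ∈ isometryGroup F Q) (hgH : g ∈ H) (hσ : ∀ a, σ (ng a) = ng (σ a))
    (hlv : ∀ a b, lv a ≠ lv b → lv (σ a) ≠ lv (σ b))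
    (hgm : ∀ a, ∃ α : F, α ≠ 0 ∧ act g (φ.ev a) = α • φ.ev (σ a)) {a b : SIdx m} (h : lv a ≠ lv b)
    (hh : φ.Has H a b) : φ.Has H (σ a) (σ b) := by
  obtain ⟨t, ht, hm⟩ := hh
  obtain ⟨α, hα, ea⟩ := hgm a
  obtain ⟨β, hβ, eb⟩ := hgm (ng b)
  rw [hσ] at eb
  refine ⟨α * β * t, mul_ne_zero (mul_ne_zero hα hβ) ht, ?_⟩
  rw [← φ.conj_E hg (hlv a b h) ea eb]
  exact mul_mem (mul_mem hgH hm) (inv_mem hgH)

theorem conj_whole (hg : g ∈ isometryGroup F Q) (hgH : g ∈ H) (hσ : ∀ a, σ (ng a) = ng (σ a))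
    (hlv : ∀ a b, lv a ≠ lv b → lv (σ a) ≠ lv (σ b))
    (hgm : ∀ a, ∃ α : F, α ≠ 0 ∧ act g (φ.ev a) = α • φ.ev (σ a)) {a b : SIdx m} (h : lv a ≠ lv b)
    (hh : φ.Whole H a b) : φ.Whole H (σ a) (σ b) := by
  intro t
  obtain ⟨α, hα, ea⟩ := hgm a
  obtain ⟨β, hβ, eb⟩ := hgm (ng b)
  rw [hσ] at eb
  rw [show t = α * β * (t / (α * β)) by field_simp, ← φ.conj_E hg (hlv a b h) ea eb]
  exact mul_mem (mul_mem hgH (hh _)) (inv_mem hgH)

end Monomial

variable [Finite F]

/-- The generation criterion. -/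
theorem omega_le_of_cycle (hQ : (QuadraticMap.polarBilin Q).Nondegenerate) (hn : 5 ≤ Fintype.card ι) (hm : 3 ≤ m)
    {N v : GL ι F} (hN : N ∈ isometryGroup F Q) (hv : v ∈ isometryGroup F Q)
    (hNm : ∀ a, ∃ α : F, α ≠ 0 ∧ act N (φ.ev a) = α • φ.ev (sigC a))
    (hx : Commute (φ.E (.inl ⟨0, by omega⟩) (.inl ⟨1, by omega⟩) 1) v)
    {k : ℕ} (hk : (k : F) ≠ 0) (hvk : v ^ k = 1)
    {s : Fin m} (hs : s.val = 1 ∨ s.val = 2) {α β : F} (hvs0 : act v (φ.ev (.inl ⟨0, by omega⟩)) =
      α • φ.ev (.inl ⟨0, by omega⟩))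
    (hvs : act v (φ.ev (.inr s)) = β • φ.ev (.inr s))
    (hgen : ∀ T : AddSubgroup F, (∀ t ∈ T, α * β * t ∈ T) → (1 : F) ∈ T → T = ⊤)
    {i j : Fin m} (hij : i ≠ j) {γ : F} (hγ : γ ≠ 0) (hvj : act v (φ.ev (.inl j)) = γ • φ.ev (.inl j))
    (hW : ∀ w, φ.Perp w → w ∈ Submodule.span F
      ({φ.proj (act v (φ.ev (.inr i))), act N (φ.proj (act v (φ.ev (.inr i))))} : Set (ι → F))) :
    Cfsg.Geo.omegaGL ⇑Q ≤
      Subgroup.closure {φ.E (.inl ⟨0, by omega⟩) (.inl ⟨1, by omega⟩) 1 * v, N} := by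
  set H := Subgroup.closure {φ.E (.inl ⟨0, by omega⟩) (.inl ⟨1, by omega⟩) 1 * v, N} with hH
  set i0 : Fin m := ⟨0, by omega⟩
  set i1 : Fin m := ⟨1, by omega⟩
  set i2 : Fin m := ⟨2, by omega⟩
  set il : Fin m := ⟨m - 1, by omega⟩
  have lvne : ∀ {x y : Fin m}, x.val ≠ y.val → lv (Sum.inl x : SIdx m) ≠ lv (Sum.inl y) :=
    fun h e => h (congrArg Fin.val e)
  have h01 : lv (Sum.inl i0 : SIdx m) ≠ lv (Sum.inl i1) := lvne (by simp [i0, i1])
  have h02 : lv (Sum.inl i0 : SIdx m) ≠ lv (Sum.inl i2) := lvne (by simp [i0, i2])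
  have h12 : lv (Sum.inl i1 : SIdx m) ≠ lv (Sum.inl i2) := lvne (by simp [i1, i2])
  have hNH : N ∈ H := Subgroup.subset_closure (by simp)
  have haH : φ.E (.inl i0) (.inl i1) 1 * v ∈ H := Subgroup.subset_closure (by simp [i0, i1])
  -- separate the two factors
  have hxH : φ.E (.inl i0) (.inl i1) 1 ∈ H := by
    have h1 := H.pow_mem haH k
    rw [hx.mul_pow, hvk, mul_one, E_pow h01, mul_one] at h1
    have := Fintype.ofFinite F
    have hc : (k : F) ^ (Fintype.card F - 1) = 1 := FiniteField.pow_card_sub_one_eq_one _ hk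
    have h2 := H.pow_mem h1 (k ^ (Fintype.card F - 2))
    rwa [E_pow h01, Nat.cast_pow, ← pow_succ,
      show Fintype.card F - 2 + 1 = Fintype.card F - 1 by have := Fintype.one_lt_card (α := F); omega, hc] at h2
  have hvH : v ∈ H := by simpa using H.mul_mem (H.inv_mem hxH) haH
  have cN : ∀ {a b : SIdx m}, lv a ≠ lv b → φ.Has H a b → φ.Has H (sigC a) (sigC b) :=
    conj_has hN hNH sigC_ng (fun _ _ => sigC_lv_ne) hNm
  have cW : ∀ {a b : SIdx m}, lv a ≠ lv b → φ.Whole H a b → φ.Whole H (sigC a) (sigC b) :=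
    conj_whole hN hNH sigC_ng (fun _ _ => sigC_lv_ne) hNm
  have itlv : ∀ (n : ℕ) {a b : SIdx m}, lv a ≠ lv b → lv (sigC^[n] a) ≠ lv (sigC^[n] b) := by
    intro n
    induction n with
    | zero => intro a b h; exact h
    | succ n ih => intro a b h; rw [Function.iterate_succ', Function.comp_apply, Function.comp_apply]
                   exact sigC_lv_ne (ih h)
  have cNn : ∀ (n : ℕ) {a b : SIdx m}, lv a ≠ lv b → φ.Has H a b → φ.Has H (sigC^[n] a) (sigC^[n] b) := by
    intro n
    induction n with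
    | zero => intro a b _ h; exact h
    | succ n ih => intro a b h hh; rw [Function.iterate_succ', Function.comp_apply, Function.comp_apply]
                   exact cN (itlv n h) (ih h hh)
  have cWn : ∀ (n : ℕ) {a b : SIdx m}, lv a ≠ lv b → φ.Whole H a b → φ.Whole H (sigC^[n] a) (sigC^[n] b) := by
    intro n
    induction n with
    | zero => intro a b _ h; exact h
    | succ n ih => intro a b h hh; rw [Function.iterate_succ', Function.comp_apply, Function.comp_apply]
                   exact cW (itlv n h) (ih h hh)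
  have negH : ∀ {a b : SIdx m}, lv a ≠ lv b → φ.Has H a b → φ.Has H (ng a) (ng b) := fun {a b} h hh => by
    have := cNn m h hh; rwa [sigC_pow_m, sigC_pow_m] at this
  have negW : ∀ {a b : SIdx m}, lv a ≠ lv b → φ.Whole H a b → φ.Whole H (ng a) (ng b) := fun {a b} h hh => by
    have := cWn m h hh; rwa [sigC_pow_m, sigC_pow_m] at this
  -- one whole root group
  have g01 : φ.Has H (.inl i0) (.inl i1) := ⟨1, one_ne_zero, hxH⟩
  have g12 : φ.Has H (.inl i1) (.inl i2) := by
    have := cN h01 g01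
    rwa [show sigC (Sum.inl i0 : SIdx m) = Sum.inl i1 from dif_pos (show 0 + 1 < m by omega),
      show sigC (Sum.inl i1 : SIdx m) = Sum.inl i2 from dif_pos (show 1 + 1 < m by omega)] at this
  have h0s : lv (Sum.inl i0 : SIdx m) ≠ lv (Sum.inl s) := lvne (by simp [i0]; omega)
  have g0s : φ.Has H (.inl i0) (.inl s) := by
    rcases hs with h | h
    · rwa [show s = i1 from Fin.ext h]
    · rw [show s = i2 from Fin.ext h]; exact g01.chain h01 h12 h02 g12
  have w0s : φ.Whole H (.inl i0) (.inl s) := by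
    obtain ⟨t0, ht0, hm0⟩ := g0s
    let T : AddSubgroup F :=
      { carrier := {t | φ.E (.inl i0) (.inl s) (t0 * t) ∈ H}
        zero_mem' := by simp [φ.E_zero]
        add_mem' := fun {a b} ha hb => by
          simp only [Set.mem_ofPred_eq, mul_add, ← φ.E_add h0s]; exact H.mul_mem ha hb
        neg_mem' := fun {a} ha => by
          simp only [Set.mem_ofPred_eq, mul_neg, ← φ.E_inv h0s]; exact H.inv_mem ha }
    have hT := hgen T (fun t ht => by
      show φ.E (.inl i0) (.inl s) (t0 * (α * β * t)) ∈ H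
      rw [show t0 * (α * β * t) = α * β * (t0 * t) by ring,
        ← φ.conj_E hv (a := .inl i0) (b := .inl s) h0s hvs0 (show act v (φ.ev (ng (.inl s))) = _ from hvs)]
      exact H.mul_mem (H.mul_mem hvH ht) (H.inv_mem hvH))
      (show φ.E (.inl i0) (.inl s) (t0 * 1) ∈ H by rwa [mul_one])
    intro t
    have : t / t0 ∈ T := hT ▸ AddSubgroup.mem_top _
    have h' : φ.E (.inl i0) (.inl s) (t0 * (t / t0)) ∈ H := this
    rwa [mul_div_cancel₀ _ ht0] at h'
  have w01 : φ.Whole H (.inl i0) (.inl i1) := by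
    rcases hs with h | h
    · rwa [show s = i1 from Fin.ext h] at w0s
    · rw [show s = i2 from Fin.ext h] at w0s
      refine w0s.chain h02 h12.symm h01 ?_
      have := (negH h12 g12).symm_ng (by rwa [lv_ng, lv_ng])
      rwa [ng_ng, ng_ng] at this
  -- all root groups
  have flip : ∀ {a b : SIdx m}, lv a ≠ lv b → φ.Whole H a b → φ.Whole H b a := fun {a b} h hh => by
    have := (negW h hh).symm_ng (by rwa [lv_ng, lv_ng])
    rwa [ng_ng, ng_ng] at this
  have adj : ∀ n : ℕ, ∀ h : n + 1 < m, φ.Whole H (.inl ⟨n, by omega⟩) (.inl ⟨n + 1, h⟩) := by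
    intro n h
    have := cWn n h01 w01
    rwa [sigC_iterate_inl i0 n (show 0 + n < m by omega), sigC_iterate_inl i1 n (show 1 + n < m by omega),
      show (⟨i0.val + n, _⟩ : Fin m) = ⟨n, by omega⟩ from Fin.ext (show 0 + n = n by omega),
      show (⟨i1.val + n, _⟩ : Fin m) = ⟨n + 1, h⟩ from Fin.ext (show 1 + n = n + 1 by omega)] at this
  have up : ∀ d n : ℕ, ∀ h : n + d + 1 < m, φ.Whole H (.inl ⟨n, by omega⟩) (.inl ⟨n + d + 1, h⟩) := by
    intro d
    induction d with
    | zero => intro n h; exact adj n h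
    | succ d ih =>
      intro n h
      exact (ih n (by omega)).chain (lvne (by simp; omega)) (lvne (by simp)) (lvne (by simp; omega))
        (adj (n + d + 1) (by omega)).has
  have pp : ∀ {x y : Fin m}, x.val ≠ y.val → φ.Whole H (.inl x) (.inl y) := by
    intro x y hxy
    rcases lt_or_gt_of_ne hxy with h | h
    · obtain ⟨d, hd⟩ := Nat.exists_eq_add_of_lt h
      rw [show y = ⟨x.val + d + 1, by omega⟩ from Fin.ext hd]
      exact up d x.val _
    · obtain ⟨d, hd⟩ := Nat.exists_eq_add_of_lt h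
      refine flip (lvne (Ne.symm hxy)) ?_
      rw [show x = ⟨y.val + d + 1, by omega⟩ from Fin.ext hd]
      exact up d y.val _
  have hl0 : lv (Sum.inl il : SIdx m) ≠ lv (Sum.inr i0) := fun e => by
    have := congrArg Fin.val e; simp [il, i0, lv] at this; omega
  have wl0 : φ.Whole H (.inl il) (.inr i0) := by
    have := cW (lvne (show m - 2 ≠ m - 1 by omega)) (pp (x := ⟨m - 2, by omega⟩) (y := il) (by simp [il]; omega))
    rwa [show sigC (Sum.inl ⟨m - 2, by omega⟩ : SIdx m) = Sum.inl il from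
        (dif_pos (show m - 2 + 1 < m by omega)).trans (congrArg Sum.inl (Fin.ext (show m - 2 + 1 = m - 1 by omega))),
      show sigC (Sum.inl il : SIdx m) = Sum.inr i0 from dif_neg (show ¬ m - 1 + 1 < m by omega)] at this
  have pn0 : ∀ {x : Fin m}, x.val ≠ 0 → φ.Whole H (.inl x) (.inr i0) := by
    intro x hx0
    by_cases hxl : x = il
    · rw [hxl]; exact wl0
    · exact (pp fun e => hxl (Fin.ext e)).chain (lvne fun e => hxl (Fin.ext e)) hl0
        (fun e => hx0 (congrArg Fin.val e)) wl0.has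
  have pn : ∀ {x y : Fin m}, x.val ≠ y.val → φ.Whole H (.inl x) (.inr y) := by
    intro x y hxy
    by_cases hx0 : x.val = 0
    · rw [show x = i0 from Fin.ext hx0]
      have := (pn0 (x := y) (by omega)).symm_ng (fun e => by have e' : y.val = i0.val := congrArg Fin.val e; simp [i0] at e'; omega)
      simpa [ng] using this
    by_cases hy0 : y.val = 0
    · rw [show y = i0 from Fin.ext hy0]; exact pn0 hx0
    · have hx' : lv (Sum.inl x : SIdx m) ≠ lv (Sum.inr i0) := fun e => hx0 (congrArg Fin.val e :)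
      have hy' : lv (Sum.inr i0 : SIdx m) ≠ lv (Sum.inr y) := fun e => hy0 (congrArg Fin.val e :).symm
      exact (pn0 hx0).chain hx' hy' (fun e => hxy (congrArg Fin.val e :))
        (negW (lvne (x := i0) (y := y) (by simp [i0]; omega)) (pp (by simp [i0]; omega))).has
  have allW : ∀ {a b : SIdx m}, lv a ≠ lv b → φ.Whole H a b := by
    intro a b h
    have hv' : (lv a).val ≠ (lv b).val := fun e => h (Fin.ext e)
    rcases a with x | x <;> rcases b with y | y
    · exact pp hv'
    · exact pn hv'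
    · have := negW (a := .inl x) (b := .inr y) h (pn hv'); simpa [ng] using this
    · have := negW (a := .inl x) (b := .inl y) h (pp hv'); simpa [ng] using this
  -- the vectors orthogonal to all pairs
  have evY : ∀ {a c : SIdx m}, c ≠ ng a → φ.ev c ∈ φ.ySub H a := by
    intro a c hc
    refine ⟨φ.pair_zero hc, fun r => ?_⟩
    by_cases hl : lv a = lv c
    · rcases lv_eq.1 hl.symm with rfl | rfl
      · rw [← zero_add (r • φ.ev c), sg_add_smul Q (φ.sing c) (B_zero_right Q _), sg_zero]; exact one_mem _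
      · exact absurd rfl hc
    · have := allW (a := a) (b := ng c) (by rwa [lv_ng]) (-r)
      rwa [E, neg_neg, ng_ng] at this
  have decompY : ∀ {a : SIdx m} {y : ι → F}, B (φ.ev a) y = 0 → y - φ.proj y ∈ φ.ySub H a := by
    intro a y hy
    rw [proj, sub_sub_cancel]
    refine Submodule.sum_mem _ fun c _ => ?_
    by_cases hc : c = ng a
    · subst hc; rw [ng_ng, hy, zero_smul]; exact zero_mem _
    · exact Submodule.smul_mem _ _ (evY hc)
  have move : ∀ {a : SIdx m} {w : ι → F}, φ.Perp w → w ∈ φ.ySub H a → ∀ b, w ∈ φ.ySub H b := by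
    intro a w hw hwa
    have step : ∀ {c d : SIdx m}, lv d ≠ lv c → w ∈ φ.ySub H c → w ∈ φ.ySub H d := by
      intro c d h hc
      refine ⟨hw d, fun r => ?_⟩
      have hg : φ.nW d c 1 ∈ H := H.mul_mem (H.mul_mem (allW h _) (allW h.symm _)) (allW h _)
      have := H.mul_mem (H.mul_mem hg (hc.2 r)) (H.inv_mem hg)
      rwa [conj_sg Q (φ.nW_mem_iso _ _ _), φ.act_nW_right h one_ne_zero, one_smul, map_smul,
        φ.act_nW_perp h _ hw] at this
    intro b
    by_cases hb : lv b = lv a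
    · obtain ⟨c, hc⟩ : ∃ c : Fin m, c ≠ lv a := by
        by_cases h0 : lv a = i0
        · exact ⟨i1, fun e => by simp [h0, i0, i1] at e⟩
        · exact ⟨i0, fun e => h0 e.symm⟩
      exact step (c := .inl c) (d := b) (by rw [hb]; exact hc.symm) (step (d := .inl c) hc hwa)
    · exact step hb hwa
  set y := act v (φ.ev (.inr i))
  have hji : lv (Sum.inl j : SIdx m) ≠ lv (Sum.inl i) := fun e => hij e.symm
  have hyj : y ∈ φ.ySub H (.inl j) := by
    have hBy : B (φ.ev (.inl j)) y = 0 := by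
      have := B_act (Q := Q) hv (φ.ev (.inl j)) (φ.ev (.inr i))
      rw [hvj, B_smul_left Q, φ.pair_lv (show lv (Sum.inl j : SIdx m) ≠ lv (Sum.inr i) from hji)] at this
      exact (mul_eq_zero.1 this).resolve_left hγ
    refine ⟨hBy, fun r => ?_⟩
    have := H.mul_mem (H.mul_mem hvH (allW hji (-(r / γ)))) (H.inv_mem hvH)
    rw [E, neg_neg, conj_sg Q hv, map_smul, hvj] at this
    rw [sg_smul_left Q (φ.sing _) (by rw [B_smul_right Q]; exact mul_eq_zero_of_right _ hBy), smul_smul,
      mul_div_cancel₀ _ hγ] at this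
    exact this
  have hzj : φ.proj y ∈ φ.ySub H (.inl j) := by
    have := Submodule.sub_mem _ hyj (decompY hyj.1)
    rwa [sub_sub_cancel] at this
  have hz : ∀ a, φ.proj y ∈ φ.ySub H a := move (φ.perp_proj y) hzj
  have hNz : ∀ a, act N (φ.proj y) ∈ φ.ySub H a := by
    obtain ⟨α', hα', e0⟩ := hNm (.inl i0)
    have hp : φ.Perp (act N (φ.proj y)) := by
      intro b
      have hb : b = sigC (sigC^[2 * m - 1] b) := by
        rw [← Function.comp_apply (f := sigC), ← Function.iterate_succ' sigC (2 * m - 1),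
          show (2 * m - 1).succ = m + m by omega, Function.iterate_add_apply, sigC_pow_m, sigC_pow_m, ng_ng]
      obtain ⟨γ', hγ', eb⟩ := hNm (sigC^[2 * m - 1] b)
      rw [← hb] at eb
      have := B_act (Q := Q) hN (φ.ev (sigC^[2 * m - 1] b)) (φ.proj y)
      rw [eb, B_smul_left Q, φ.perp_proj y] at this
      exact (mul_eq_zero.1 this).resolve_left hγ'
    refine move hp (a := sigC (.inl i0)) ⟨hp _, fun r => ?_⟩
    have := H.mul_mem (H.mul_mem hNH ((hz (.inl i0)).2 (r / α'))) (H.inv_mem hNH)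
    rw [conj_sg Q hN, e0, map_smul, sg_smul_left Q (φ.sing _) (by rw [B_smul_right Q, hp, mul_zero]), smul_smul,
      mul_div_cancel₀ _ hα'] at this
    exact this
  have full : ∀ a, Full Q H (φ.ev a) := by
    intro a w hw
    have hpw : φ.proj w ∈ φ.ySub H a :=
      Submodule.span_le.2 (Set.insert_subset (hz a) (Set.singleton_subset_iff.2 (hNz a))) (hW _ (φ.perp_proj w))
    have := Submodule.add_mem _ (decompY hw) hpw
    rw [sub_add_cancel] at this
    simpa using this.2 1
  exact omega_le_of_full hQ hn (φ.sing (.inl i0)) (φ.sing (.inr i0)) (by simp [φ.pair]) (full _) (full _)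

end OFrame

end Cfsg.Agent.TwoGen
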