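import Cfsg.Agent.Lib.TwoGen.OrthPair
import Cfsg.Agent.Lib.Forms.Quad

/-!
Two generators for the projective orthogonal groups in the three standard models.
-/

set_option autoImplicit false

namespace Cfsg.Agent.TwoGen

open Cfsg.Agent.CurtisTits Cfsg.Agent.CurtisTits.DType
open Cfsg.Agent.MaxCl Cfsg.Agent.MaxCl.Orth
open scoped MatrixGroups

variable {F : Type*} [Field F]

theorem polar_quadOdd (m : ℕ) (x y : Unit ⊕ (Fin m ⊕ Fin m) → F) :
    QuadraticMap.polar (⇑(Forms.quadOdd m F)) x y = 2 * (x (.inl ()) * y (.inl ())) +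
      ∑ i, (x (.inr (.inl i)) * y (.inr (.inr i)) + y (.inr (.inl i)) * x (.inr (.inr i))) := by
  simp only [QuadraticMap.polar, Forms.quadOdd_apply, Cfsg.quadFormOdd, Pi.add_apply, add_mul, mul_add,
    Finset.sum_add_distrib]
  ring

theorem polar_quadPlus (m : ℕ) (x y : Fin m ⊕ Fin m → F) :
    QuadraticMap.polar (⇑(Forms.quadPlus m F)) x y =
      ∑ i, (x (.inl i) * y (.inr i) + y (.inl i) * x (.inr i)) := by
  simp only [QuadraticMap.polar, Forms.quadPlus_apply, Cfsg.quadFormPlus, Pi.add_apply, add_mul, mul_add,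
    Finset.sum_add_distrib]
  ring

theorem polar_quadMinus (m : ℕ) (a b : F) (x y : (Fin m ⊕ Fin m) ⊕ Fin 2 → F) :
    QuadraticMap.polar (⇑(Forms.quadMinus m F a b)) x y =
      (∑ i, (x (.inl (.inl i)) * y (.inl (.inr i)) + y (.inl (.inl i)) * x (.inl (.inr i)))) +
      (2 * (x (.inr 0) * y (.inr 0)) + a * (x (.inr 0) * y (.inr 1) + y (.inr 0) * x (.inr 1)) +
        2 * b * (x (.inr 1) * y (.inr 1))) := by
  simp only [QuadraticMap.polar, Forms.quadMinus_apply, Cfsg.quadFormMinus, Pi.add_apply, add_mul, mul_add,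
    Finset.sum_add_distrib]
  ring

theorem polar_single_odd (m : ℕ) (a : SIdx m) (y : Unit ⊕ (Fin m ⊕ Fin m) → F) :
    QuadraticMap.polar (⇑(Forms.quadOdd m F)) (Pi.single (Sum.inr a) 1) y = y (Sum.inr (ng a)) := by
  rw [polar_quadOdd]
  rcases a with i | i <;> simp [Pi.single_apply, ng]

theorem polar_single_plus (m : ℕ) (a : SIdx m) (y : Fin m ⊕ Fin m → F) :
    QuadraticMap.polar (⇑(Forms.quadPlus m F)) (Pi.single a 1) y = y (ng a) := by
  rw [polar_quadPlus]
  rcases a with i | i <;> simp [Pi.single_apply, ng]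

theorem polar_single_minus (m : ℕ) (a b : F) (s : SIdx m) (y : (Fin m ⊕ Fin m) ⊕ Fin 2 → F) :
    QuadraticMap.polar (⇑(Forms.quadMinus m F a b)) (Pi.single (Sum.inl s) 1) y = y (Sum.inl (ng s)) := by
  rw [polar_quadMinus]
  rcases s with i | i <;> simp [Pi.single_apply, ng]

/-- The pairs of the odd form. -/
noncomputable def oddFrame (F : Type*) [Field F] (m : ℕ) : OFrame (Forms.quadOdd m F) m where
  ev a := Pi.single (Sum.inr a) 1
  sing a := by
    rw [Forms.quadOdd_apply]
    rcases a with i | i <;> simp [Cfsg.quadFormOdd, Pi.single_apply]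
  pair a b := by
    rw [polar_single_odd, Pi.single_apply]
    simp only [Sum.inr.injEq]
    exact if_congr eq_comm rfl rfl

/-- The first pairs of the plus form. -/
noncomputable def plusFrame (F : Type*) [Field F] (m : ℕ) : OFrame (Forms.quadPlus (m + 1) F) m where
  ev a := Pi.single (Sum.map Fin.castSucc Fin.castSucc a) 1
  sing a := by
    rw [Forms.quadPlus_apply]
    rcases a with i | i <;> simp [Cfsg.quadFormPlus, Pi.single_apply]
  pair a b := by
    rw [polar_single_plus, Pi.single_apply]
    rcases a with i | i <;> rcases b with j | j <;> simp [ng] <;> exact if_congr eq_comm rfl rfl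

/-- The pairs of the minus form. -/
noncomputable def minusFrame (F : Type*) [Field F] (m : ℕ) (a b : F) : OFrame (Forms.quadMinus m F a b) m where
  ev s := Pi.single (Sum.inl s) 1
  sing s := by
    rw [Forms.quadMinus_apply]
    rcases s with i | i <;> simp [Cfsg.quadFormMinus, Pi.single_apply]
  pair s t := by
    rw [polar_single_minus, Pi.single_apply]
    simp only [Sum.inl.injEq]
    exact if_congr eq_comm rfl rfl

theorem plusFrame_ev (m : ℕ) (a : SIdx m) :
    (plusFrame F m).ev a = Pi.single (Sum.map Fin.castSucc Fin.castSucc a) 1 := rfl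

theorem minusFrame_ev (m : ℕ) (a b : F) (s : SIdx m) :
    (minusFrame F m a b).ev s = Pi.single (Sum.inl s) 1 := rfl

theorem three_le_card_of_odd [Fintype F] (h : Odd (Fintype.card F)) : 3 ≤ Nat.card F := by
  rw [Nat.card_eq_fintype_card]
  obtain ⟨k, hk⟩ := h
  have := Fintype.one_lt_card (α := F)
  omega

theorem card_two_or [Fintype F] : Nat.card F = 2 ∨ 3 ≤ Nat.card F := by
  rw [Nat.card_eq_fintype_card]
  have := Fintype.one_lt_card (α := F)
  omega

theorem elem_of_card_two [Fintype F] (hF : Nat.card F = 2) (x : F) : x = 0 ∨ x = 1 := by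
  classical
  rw [Nat.card_eq_fintype_card] at hF
  have hu : (Finset.univ : Finset F) = {0, 1} := by
    refine (Finset.eq_of_subset_of_card_le (Finset.subset_univ _) ?_).symm
    rw [Finset.card_univ, hF, Finset.card_pair zero_ne_one]
  have hx := Finset.mem_univ x
  rw [hu] at hx
  simpa using hx

/-- Two generators in odd dimension at least seven. -/
theorem odd_two_gen [Fintype F] (hodd : Odd (Fintype.card F)) (m : ℕ) (hm : 3 ≤ m) :
    ∃ x y : Cfsg.POmega F (Cfsg.quadFormOdd m F),
      Subgroup.closure ({x, y} : Set (Cfsg.POmega F (Cfsg.quadFormOdd m F))) = ⊤ := by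
  have h2 : (2 : F) ≠ 0 := by
    intro h
    have hchar : ringChar F = 2 := by
      by_contra hne
      exact Ring.two_ne_zero hne h
    have := FiniteField.even_card_of_char_two hchar
    rw [Nat.odd_iff] at hodd
    omega
  rw [show Cfsg.quadFormOdd m F = ⇑(Forms.quadOdd m F) from (funext Forms.quadOdd_apply).symm]
  set z : Unit ⊕ (Fin m ⊕ Fin m) → F := Pi.single (Sum.inl ()) 1 with hz
  have hp : (oddFrame F m).Perp z := fun a => by
    show QuadraticMap.polar _ (Pi.single (Sum.inr a) 1) z = 0
    rw [polar_single_odd]; simp [z]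
  obtain ⟨a, b, ha, hb, h⟩ := (oddFrame F m).exists_pair_big (Forms.quadOdd_nondegenerate h2 m)
    (by simp; omega) hm (three_le_card_of_odd hodd) (b := z) (z := z) hp
    (by rw [Forms.quadOdd_apply]; simp [z, Cfsg.quadFormOdd]) hp (fun w hw => by
    rw [show w = w (Sum.inl ()) • z from funext fun s => by
      rcases s with ⟨⟩ | s
      · simp [z]
      · have e : QuadraticMap.polar (⇑(Forms.quadOdd m F)) (Pi.single (Sum.inr (ng s)) 1) w = 0 := hw (ng s)
        rw [polar_single_odd, ng_ng] at e
        simp [z, e]]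
    exact Submodule.smul_mem _ _ (Submodule.subset_span (Set.mem_insert _ _)))
  exact pOmega_two_gen ha hb h

/-- Two generators for plus type. -/
theorem plus_two_gen [Fintype F] (m : ℕ) (hm : 3 ≤ m) :
    ∃ x y : Cfsg.POmega F (Cfsg.quadFormPlus (m + 1) F),
      Subgroup.closure ({x, y} : Set (Cfsg.POmega F (Cfsg.quadFormPlus (m + 1) F))) = ⊤ := by
  rw [show Cfsg.quadFormPlus (m + 1) F = ⇑(Forms.quadPlus (m + 1) F) from (funext Forms.quadPlus_apply).symm]
  set Q := Forms.quadPlus (m + 1) F with hQdef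
  let φ : OFrame Q m := plusFrame F m
  set el : SIdx (m + 1) → F := Pi.single (Sum.inl (Fin.last m)) 1 with hel
  set fl : SIdx (m + 1) → F := Pi.single (Sum.inr (Fin.last m)) 1 with hfl
  have Bel : ∀ y, QuadraticMap.polar (⇑Q) el y = y (Sum.inr (Fin.last m)) := fun y => polar_single_plus _ _ y
  have Bfl : ∀ y, QuadraticMap.polar (⇑Q) fl y = y (Sum.inl (Fin.last m)) := fun y => polar_single_plus _ _ y
  have Qel : Q el = 0 := by rw [hQdef, Forms.quadPlus_apply]; simp [el, Cfsg.quadFormPlus, Pi.single_apply]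
  have Qfl : Q fl = 0 := by rw [hQdef, Forms.quadPlus_apply]; simp [fl, Cfsg.quadFormPlus, Pi.single_apply]
  have hlast : ∀ s : SIdx m, Sum.map Fin.castSucc Fin.castSucc s ≠ (Sum.inl (Fin.last m) : SIdx (m + 1)) ∧
      Sum.map Fin.castSucc Fin.castSucc s ≠ (Sum.inr (Fin.last m) : SIdx (m + 1)) := by
    rintro (i | i) <;> simp [(Fin.castSucc_lt_last i).ne]
  have pel : φ.Perp el := fun s => by
    rw [QuadraticMap.polar_comm, Bel, show φ.ev s = Pi.single (Sum.map Fin.castSucc Fin.castSucc s) (1 : F) from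
      plusFrame_ev m s]
    exact Pi.single_eq_of_ne (M := fun _ => F) (hlast s).2.symm (1 : F)
  have pfl : φ.Perp fl := fun s => by
    rw [QuadraticMap.polar_comm, Bfl, show φ.ev s = Pi.single (Sum.map Fin.castSucc Fin.castSucc s) (1 : F) from
      plusFrame_ev m s]
    exact Pi.single_eq_of_ne (M := fun _ => F) (hlast s).1.symm (1 : F)
  have Belfl : QuadraticMap.polar (⇑Q) el fl = 1 := by rw [Bel]; simp [fl]
  set b := el + fl with hbdef
  have pb : φ.Perp b := fun s => by rw [hbdef, B_add_right Q, pel s, pfl s, add_zero]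
  have Qb : Q b = 1 := by rw [hbdef, Q_add Q, Qel, Qfl, Belfl]; ring
  have rel : act (refl Q b) el = -fl := by
    rw [act_refl Q (by rw [Qb]; exact one_ne_zero), Qb, hbdef, B_add_left Q, B_self_of_singular Q Qel,
      QuadraticMap.polar_comm _ fl el, Belfl]
    module
  have rfl' : act (refl Q b) fl = -el := by
    rw [act_refl Q (by rw [Qb]; exact one_ne_zero), Qb, hbdef, B_add_left Q, B_self_of_singular Q Qfl, Belfl]
    module
  have hW : ∀ w, φ.Perp w → w = w (Sum.inl (Fin.last m)) • el + w (Sum.inr (Fin.last m)) • fl := by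
    intro w hw
    funext s
    have e : ∀ t : SIdx m, w (Sum.map Fin.castSucc Fin.castSucc t) = 0 := fun t => by
      have e : QuadraticMap.polar (⇑Q) (Pi.single (Sum.map Fin.castSucc Fin.castSucc (ng t)) 1) w = 0 := hw (ng t)
      rw [polar_single_plus] at e
      rcases t with i | i <;> simpa [ng] using e
    rcases s with i | i <;> refine Fin.lastCases ?_ (fun j => ?_) i
    · simp [el, fl]
    · simp [el, fl, (Fin.castSucc_lt_last j).ne, show w (Sum.inl j.castSucc) = 0 from e (Sum.inl j)]
    · simp [el, fl]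
    · simp [el, fl, (Fin.castSucc_lt_last j).ne, show w (Sum.inr j.castSucc) = 0 from e (Sum.inr j)]
  have hcard : 5 ≤ Fintype.card (SIdx (m + 1)) := by simp; omega
  obtain ⟨x, y, hx, hy, h⟩ : ∃ x y : GL (SIdx (m + 1)) F, x ∈ Cfsg.Geo.omegaGL ⇑Q ∧ y ∈ Cfsg.Geo.omegaGL ⇑Q ∧
      Cfsg.Geo.omegaGL ⇑Q ≤ Subgroup.closure {x, y} := by
    rcases card_two_or (F := F) with hF | hF
    · set e2 := φ.ev (.inl ⟨2, by omega⟩) with he2
      set f2 := φ.ev (.inr ⟨2, by omega⟩) with hf2
      have Bef : QuadraticMap.polar (⇑Q) e2 f2 = 1 := φ.pair_ng (.inl ⟨2, by omega⟩)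
      set q := e2 + f2 + el with hqdef
      have Qq : Q q = 1 := by
        rw [hqdef, Q_add Q, Q_add Q, φ.sing, φ.sing, Qel, Bef, B_add_left Q, pel, pel]; ring
      have Bbq : QuadraticMap.polar (⇑Q) b q = 1 := by
        rw [hqdef, B_add_right Q, B_add_right Q, QuadraticMap.polar_comm _ b e2, QuadraticMap.polar_comm _ b f2,
          pb, pb, hbdef, B_add_left Q, B_self_of_singular Q Qel, QuadraticMap.polar_comm _ fl el, Belfl]
        ring
      refine φ.exists_pair_two (Forms.quadPlus_nondegenerate _) hcard hm hF (b := b) (p := b) (q := q) pb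
        (by rw [Qb]; exact one_ne_zero) Qb Qq Bbq (fun s hs => ?_) (z := fl) ?_ (fun w hw => ?_)
      · have hs2 : lv s ≠ (⟨2, by omega⟩ : Fin m) := fun e => by rw [e] at hs; exact absurd hs (by simp)
        refine ⟨pb s, ?_⟩
        rw [hqdef, B_add_right Q, B_add_right Q, pel s, φ.pair_lv (show lv s ≠ lv (.inl ⟨2, _⟩) from hs2),
          φ.pair_lv (show lv s ≠ lv (.inr ⟨2, _⟩) from hs2)]
        ring
      · have htwo : (2 : F) = 0 := by
          rcases elem_of_card_two hF (2 : F) with h | h
          · exact h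
          · exact absurd (show (1 : F) = 0 by linear_combination h) one_ne_zero
        have Qb0 : Q b ≠ 0 := by rw [Qb]; exact one_ne_zero
        have Qq0 : Q q ≠ 0 := by rw [Qq]; exact one_ne_zero
        have s1 : act (refl Q b) f2 = f2 :=
          act_refl_fix Q Qb0 (by rw [QuadraticMap.polar_comm]; exact pb _)
        have s2 : act (refl Q q) f2 = -e2 - el := by
          rw [act_refl Q Qq0, Qq, hqdef, B_add_left Q, B_add_left Q, Bef, B_self_of_singular Q (φ.sing _),
            QuadraticMap.polar_comm _ el f2, pel]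
          module
        have s3 : act (refl Q b) (-e2 - el) = -e2 + fl := by
          rw [act_refl Q Qb0, Qb, B_sub_right Q, B_neg_right Q, QuadraticMap.polar_comm _ b e2, pb, hbdef,
            B_add_left Q, B_self_of_singular Q Qel, QuadraticMap.polar_comm _ fl el, Belfl]
          module
        have s4 : act (refl Q q) (-e2 + fl) = -e2 + fl := by
          refine act_refl_fix Q Qq0 ?_
          rw [hqdef, B_add_right Q, B_neg_right Q]
          simp only [B_add_left Q]
          rw [B_self_of_singular Q (φ.sing _), QuadraticMap.polar_comm _ f2 e2, Bef,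
            QuadraticMap.polar_comm _ el e2, pel, pfl, pfl, Belfl]
          linear_combination (0 : F) * htwo
        rw [pow_two, act_mul, act_mul, act_mul, s1, s2, s3, s4, OFrame.proj_add, OFrame.proj_neg, he2,
          OFrame.proj_ev, φ.proj_perp pfl]
        simp
      · rw [hW w hw, show el = -act (refl Q b) fl by rw [rfl', neg_neg]]
        exact Submodule.add_mem _ (Submodule.smul_mem _ _ (Submodule.neg_mem _ (Submodule.subset_span
          (Set.mem_insert_of_mem _ rfl)))) (Submodule.smul_mem _ _ (Submodule.subset_span (Set.mem_insert _ _)))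
    · refine φ.exists_pair_big (Forms.quadPlus_nondegenerate _) hcard hm hF (b := b) (z := el) pb
        (by rw [Qb]; exact one_ne_zero) pel (fun w hw => ?_)
      rw [hW w hw, show fl = -act (refl Q b) el by rw [rel, neg_neg]]
      exact Submodule.add_mem _ (Submodule.smul_mem _ _ (Submodule.subset_span (Set.mem_insert _ _)))
        (Submodule.smul_mem _ _ (Submodule.neg_mem _ (Submodule.subset_span (Set.mem_insert_of_mem _ rfl))))
  exact pOmega_two_gen hx hy h

/-- Two generators for minus type. -/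
theorem minus_two_gen [Fintype F] (m : ℕ) (hm : 3 ≤ m) (a b : F)
    (hab : ∀ z₁ z₂ : F, z₁ ^ 2 + a * z₁ * z₂ + b * z₂ ^ 2 = 0 → z₁ = 0 ∧ z₂ = 0) :
    ∃ x y : Cfsg.POmega F (Cfsg.quadFormMinus m F a b),
      Subgroup.closure ({x, y} : Set (Cfsg.POmega F (Cfsg.quadFormMinus m F a b))) = ⊤ := by
  rw [show Cfsg.quadFormMinus m F a b = ⇑(Forms.quadMinus m F a b) from (funext Forms.quadMinus_apply).symm]
  set Q := Forms.quadMinus m F a b with hQdef
  let φ : OFrame Q m := minusFrame F m a b
  set g1 : (Fin m ⊕ Fin m) ⊕ Fin 2 → F := Pi.single (Sum.inr 0) 1 with hg1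
  set g2 : (Fin m ⊕ Fin m) ⊕ Fin 2 → F := Pi.single (Sum.inr 1) 1 with hg2
  have Qg : ∀ r s : F, Q (r • g1 + s • g2) = r ^ 2 + a * r * s + b * s ^ 2 := fun r s => by
    rw [hQdef, Forms.quadMinus_apply]; simp [g1, g2, Cfsg.quadFormMinus]
  have Bg : ∀ r s : F, QuadraticMap.polar (⇑Q) (r • g1 + s • g2) g2 = a * r + 2 * b * s := fun r s => by
    rw [hQdef, polar_quadMinus]; simp [g1, g2]
  have pg : ∀ r s : F, φ.Perp (r • g1 + s • g2) := fun r s t => by
    show QuadraticMap.polar (⇑(Forms.quadMinus m F a b)) (Pi.single (Sum.inl t) 1) _ = 0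
    rw [polar_single_minus]; simp [g1, g2]
  have pg2 : φ.Perp g2 := by simpa using pg 0 1
  have hW : ∀ w, φ.Perp w → w = w (Sum.inr 0) • g1 + w (Sum.inr 1) • g2 := by
    intro w hw
    funext s
    rcases s with t | j
    · have e : QuadraticMap.polar (⇑(Forms.quadMinus m F a b)) (Pi.single (Sum.inl (ng t)) 1) w = 0 := hw (ng t)
      rw [polar_single_minus, ng_ng] at e
      simp [g1, g2, e]
    · fin_cases j <;> simp [g1, g2]
  obtain ⟨s, hs⟩ : ∃ s : F, a * 1 + 2 * b * s ≠ 0 := by
    by_cases ha : a = 0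
    · refine ⟨1, fun h => ?_⟩
      subst ha
      have h2b : (2 : F) * b = 0 := by linear_combination h
      exact Forms.disc_ne_zero hab (by linear_combination 2 * h2b)
    · exact ⟨0, by simpa using ha⟩
  set d := (1 : F) • g1 + s • g2 with hd
  have Qd : Q d ≠ 0 := by
    rw [hd, Qg]; exact fun h => one_ne_zero (hab _ _ h).1
  have span : ∀ w, φ.Perp w → w ∈ Submodule.span F ({g2, act (refl Q d) g2} : Set ((Fin m ⊕ Fin m) ⊕ Fin 2 → F)) := by
    intro w hw
    set S := Submodule.span F ({g2, act (refl Q d) g2} : Set ((Fin m ⊕ Fin m) ⊕ Fin 2 → F)) with hS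
    have h2 : g2 ∈ S := Submodule.subset_span (Set.mem_insert _ _)
    have hr : act (refl Q d) g2 ∈ S := Submodule.subset_span (Set.mem_insert_of_mem _ rfl)
    rw [act_refl Q Qd, show QuadraticMap.polar (⇑Q) d g2 = a * 1 + 2 * b * s from Bg 1 s] at hr
    have hd' : d ∈ S := by
      have hne : (Q d)⁻¹ * (a * 1 + 2 * b * s) ≠ 0 := mul_ne_zero (inv_ne_zero Qd) hs
      have := Submodule.smul_mem S ((Q d)⁻¹ * (a * 1 + 2 * b * s))⁻¹ (Submodule.sub_mem S h2 hr)
      rwa [sub_sub_cancel, inv_smul_smul₀ hne] at this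
    have hg1' : g1 ∈ S := by
      have := Submodule.sub_mem S hd' (Submodule.smul_mem S s h2)
      rwa [hd, add_sub_cancel_right, one_smul] at this
    rw [hW w hw]
    exact Submodule.add_mem _ (Submodule.smul_mem _ _ hg1') (Submodule.smul_mem _ _ h2)
  have hcard : 5 ≤ Fintype.card ((Fin m ⊕ Fin m) ⊕ Fin 2) := by simp; omega
  obtain ⟨x, y, hx, hy, h⟩ : ∃ x y : GL ((Fin m ⊕ Fin m) ⊕ Fin 2) F, x ∈ Cfsg.Geo.omegaGL ⇑Q ∧
      y ∈ Cfsg.Geo.omegaGL ⇑Q ∧ Cfsg.Geo.omegaGL ⇑Q ≤ Subgroup.closure {x, y} := by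
    rcases card_two_or (F := F) with hF | hF
    · have htwo : (2 : F) = 0 := by
        rcases elem_of_card_two hF (2 : F) with h | h
        · exact h
        · exact absurd (show (1 : F) = 0 by linear_combination h) one_ne_zero
      have hb1 : b = 1 := by
        rcases elem_of_card_two hF b with h | h
        · exact absurd (hab 0 1 (by rw [h]; ring)).2 one_ne_zero
        · exact h
      set e2 := φ.ev (.inl ⟨2, by omega⟩) with he2
      set f2 := φ.ev (.inr ⟨2, by omega⟩) with hf2
      have Bef : QuadraticMap.polar (⇑Q) e2 f2 = 1 := φ.pair_ng (.inl ⟨2, by omega⟩)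
      set p := e2 + f2 with hpdef
      set q := e2 + g2 with hqdef
      have Qp : Q p = 1 := by rw [hpdef, Q_add Q, φ.sing, φ.sing, Bef]; ring
      have Qq : Q q = 1 := by
        have := Qg 0 1
        simp only [zero_smul, one_smul, zero_add] at this
        rw [hqdef, Q_add Q, φ.sing, pg2, this, hb1]; ring
      have Bpq : QuadraticMap.polar (⇑Q) p q = 1 := by
        rw [hqdef, hpdef, B_add_left Q, B_add_right Q, B_add_right Q, B_self_of_singular Q (φ.sing _), pg2, pg2,
          QuadraticMap.polar_comm _ f2 e2, Bef]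
        ring
      have Qp0 : Q p ≠ 0 := by rw [Qp]; exact one_ne_zero
      have Qq0 : Q q ≠ 0 := by rw [Qq]; exact one_ne_zero
      refine φ.exists_pair_two (Forms.quadMinus_nondegenerate m hab) hcard hm hF (b := d) (p := p) (q := q) (pg 1 s)
        Qd Qp Qq Bpq (fun t ht => ?_) (z := -g2) ?_ (fun w hw => ?_)
      · have hs2 : lv t ≠ (⟨2, by omega⟩ : Fin m) := fun e => by rw [e] at ht; exact absurd ht (by simp)
        have h1 := φ.pair_lv (show lv t ≠ lv (.inl ⟨2, _⟩) from hs2)
        have h2 := φ.pair_lv (show lv t ≠ lv (.inr ⟨2, _⟩) from hs2)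
        exact ⟨by rw [hpdef, B_add_right Q, h1, h2, add_zero], by rw [hqdef, B_add_right Q, h1, pg2, add_zero]⟩
      · have s1 : act (refl Q p) f2 = -e2 := by
          rw [act_refl Q Qp0, Qp, hpdef, B_add_left Q, Bef, B_self_of_singular Q (φ.sing _)]
          module
        have s2 : act (refl Q q) e2 = e2 := by
          refine act_refl_fix Q Qq0 ?_
          rw [hqdef, B_add_left Q, B_self_of_singular Q (φ.sing _), QuadraticMap.polar_comm _ g2 e2, pg2, add_zero]
        have s3 : act (refl Q p) e2 = -f2 := by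
          rw [act_refl Q Qp0, Qp, hpdef, B_add_left Q, B_self_of_singular Q (φ.sing _),
            QuadraticMap.polar_comm _ f2 e2, Bef]
          module
        have s4 : act (refl Q q) f2 = f2 - e2 - g2 := by
          rw [act_refl Q Qq0, Qq, hqdef, B_add_left Q, Bef, QuadraticMap.polar_comm _ g2 f2, pg2]
          module
        rw [pow_two, act_mul, act_mul, act_mul, s1, map_neg, s2, map_neg, s3, neg_neg, s4, OFrame.proj_sub,
          OFrame.proj_sub, he2, hf2, OFrame.proj_ev, OFrame.proj_ev, φ.proj_perp pg2]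
        simp
      · rw [map_neg]
        refine Submodule.span_le.2 (Set.insert_subset ?_ (Set.singleton_subset_iff.2 ?_)) (span w hw)
        · have := Submodule.neg_mem (Submodule.span F ({-g2, -act (refl Q d) g2} : Set _))
            (Submodule.subset_span (Set.mem_insert _ _))
          rwa [neg_neg] at this
        · have := Submodule.neg_mem (Submodule.span F ({-g2, -act (refl Q d) g2} : Set _))
            (Submodule.subset_span (Set.mem_insert_of_mem _ rfl))
          rwa [neg_neg] at this
    · exact φ.exists_pair_big (Forms.quadMinus_nondegenerate m hab) hcard hm hF (b := d) (z := g2) (pg 1 s) Qd pg2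
        span
  exact pOmega_two_gen hx hy h

end Cfsg.Agent.TwoGen
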