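import Cfsg.Agent.Lib.TwoGen.OrthGen

/-!
The two generators of orthogonal groups with at least three orthogonal hyperbolic pairs.
-/

set_option autoImplicit false

namespace Cfsg.Agent.TwoGen

open Cfsg.Agent.CurtisTits Cfsg.Agent.CurtisTits.DType
open Cfsg.Agent.MaxCl Cfsg.Agent.MaxCl.Orth
open scoped MatrixGroups commutatorElement

namespace OFrame

variable {ι : Type} [Fintype ι] [DecidableEq ι] {F : Type*} [Field F] {Q : QuadraticForm F (ι → F)} {m : ℕ}
  (φ : OFrame Q m)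

set_option quotPrecheck false in
local notation "B" => QuadraticMap.polar (⇑Q)

theorem proj_ev (c : SIdx m) : φ.proj (φ.ev c) = 0 := by
  rw [proj, Finset.sum_eq_single c, φ.pair_ng', one_smul, sub_self]
  · intro a _ ha
    rw [φ.pair_zero (show c ≠ ng (ng a) from fun e => ha (by rw [e, ng_ng])), zero_smul]
  · simp

theorem proj_perp {w : ι → F} (hw : φ.Perp w) : φ.proj w = w := by
  simp [proj, hw _]

theorem proj_add (x y : ι → F) : φ.proj (x + y) = φ.proj x + φ.proj y := by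
  simp only [proj, B_add_right Q, add_smul, Finset.sum_add_distrib]
  abel

theorem proj_smul (r : F) (x : ι → F) : φ.proj (r • x) = r • φ.proj x := by
  simp only [proj, B_smul_right Q, smul_sub, Finset.smul_sum, smul_smul]

theorem proj_neg (x : ι → F) : φ.proj (-x) = -φ.proj x := by rw [← neg_one_smul F, proj_smul, neg_one_smul]

theorem proj_sub (x y : ι → F) : φ.proj (x - y) = φ.proj x - φ.proj y := by
  rw [sub_eq_add_neg, proj_add, proj_neg, ← sub_eq_add_neg]

/-- Product of the first monomial elements. -/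
noncomputable def cyP : ℕ → GL ι F
  | 0 => 1
  | k + 1 => if h : k + 1 < m then cyP k * φ.nW (.inl ⟨k, by omega⟩) (.inl ⟨k + 1, h⟩) 1 else cyP k

theorem cyP_mem_iso : ∀ k, φ.cyP k ∈ isometryGroup F Q
  | 0 => one_mem _
  | k + 1 => by
    rw [cyP]
    split_ifs
    · exact mul_mem (cyP_mem_iso k) (φ.nW_mem_iso _ _ _)
    · exact cyP_mem_iso k

/-- The index map of the first monomial elements. -/
def tau (m k : ℕ) (i : Fin m) : Fin m :=
  if h : i.val < k ∧ i.val + 1 < m then ⟨i.val + 1, h.2⟩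
  else if i.val = k then ⟨0, by have := i.isLt; omega⟩ else i

theorem act_cyP : ∀ k, k + 1 ≤ m → ∀ c : SIdx m, ∃ α : F, α ≠ 0 ∧
    act (φ.cyP k) (φ.ev c) = α • φ.ev (Sum.map (tau m k) (tau m k) c)
  | 0, _, c => by
    refine ⟨1, one_ne_zero, ?_⟩
    have : ∀ i, tau m 0 i = i := fun i => by
      rw [tau, dif_neg (fun h => Nat.not_lt_zero _ h.1)]
      split_ifs with h
      · exact Fin.ext h.symm
      · rfl
    rw [cyP, act_one, one_smul]
    rcases c with i | i <;> simp [this]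
  | k + 1, hk, c => by
    rw [cyP, dif_pos (by omega)]
    set p : Fin m := ⟨k, by omega⟩
    set q : Fin m := ⟨k + 1, by omega⟩
    have hpq : lv (Sum.inl p : SIdx m) ≠ lv (Sum.inl q) := fun e => by
      have := congrArg Fin.val e; simp [p, q, lv] at this
    have ih := act_cyP k (by omega)
    have tp : tau m k p = ⟨0, by omega⟩ := by
      rw [tau, dif_neg (fun h => lt_irrefl k h.1), if_pos rfl]
    have tq : tau m k q = q := by
      rw [tau, dif_neg (fun h => by have := h.1; simp [q] at this), if_neg (by simp [q])]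
    have tp' : tau m (k + 1) p = q := by rw [tau, dif_pos ⟨show k < k + 1 by omega, show k + 1 < m by omega⟩]
    have tq' : tau m (k + 1) q = ⟨0, by omega⟩ := by
      rw [tau, dif_neg (fun h => lt_irrefl (k + 1) h.1), if_pos rfl]
    have other : ∀ i : Fin m, i ≠ p → i ≠ q → tau m (k + 1) i = tau m k i := by
      intro i h1 h2
      have h1' : i.val ≠ k := fun e => h1 (Fin.ext e)
      have h2' : i.val ≠ k + 1 := fun e => h2 (Fin.ext e)
      unfold tau
      split_ifs <;> first | rfl | omega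
    rcases c with i | i
    · by_cases h1 : i = p
      · subst h1
        obtain ⟨α, hα, e⟩ := ih (.inl q)
        refine ⟨-α, neg_ne_zero.2 hα, ?_⟩
        rw [act_mul, φ.act_nW_left hpq one_ne_zero, map_smul, e, Sum.map_inl, Sum.map_inl, tp', tq, smul_smul]
        simp
      by_cases h2 : i = q
      · subst h2
        obtain ⟨α, hα, e⟩ := ih (.inl p)
        refine ⟨α, hα, ?_⟩
        rw [act_mul, φ.act_nW_right hpq one_ne_zero, one_smul, e, Sum.map_inl, Sum.map_inl, tq', tp]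
      · obtain ⟨α, hα, e⟩ := ih (.inl i)
        refine ⟨α, hα, ?_⟩
        rw [act_mul, φ.act_nW_ev hpq _ (by exact h1) (by exact h2), e, Sum.map_inl, Sum.map_inl, other i h1 h2]
    · by_cases h1 : i = p
      · subst h1
        obtain ⟨α, hα, e⟩ := ih (.inr q)
        refine ⟨-α, neg_ne_zero.2 hα, ?_⟩
        rw [act_mul, show φ.ev (.inr p) = φ.ev (ng (Sum.inl p)) from rfl, φ.act_nW_ng_left hpq one_ne_zero, map_smul,
          show φ.ev (ng (Sum.inl q)) = φ.ev (.inr q) from rfl, e, Sum.map_inr, Sum.map_inr, tp', tq, smul_smul]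
        simp
      by_cases h2 : i = q
      · subst h2
        obtain ⟨α, hα, e⟩ := ih (.inr p)
        refine ⟨α, hα, ?_⟩
        rw [act_mul, show φ.ev (.inr q) = φ.ev (ng (Sum.inl q)) from rfl, φ.act_nW_ng_right hpq one_ne_zero, inv_one,
          one_smul, show φ.ev (ng (Sum.inl p)) = φ.ev (.inr p) from rfl, e, Sum.map_inr, Sum.map_inr, tq', tp]
      · obtain ⟨α, hα, e⟩ := ih (.inr i)
        refine ⟨α, hα, ?_⟩
        rw [act_mul, φ.act_nW_ev hpq _ (by exact h1) (by exact h2), e, Sum.map_inr, Sum.map_inr, other i h1 h2]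

theorem act_cyP_perp {w : ι → F} (hw : φ.Perp w) : ∀ k, act (φ.cyP k) w = w
  | 0 => act_one w
  | k + 1 => by
    rw [cyP]
    split_ifs with h
    · rw [act_mul, φ.act_nW_perp (fun e => by have := congrArg Fin.val e; simp [lv] at this) _ hw,
        act_cyP_perp hw k]
    · exact act_cyP_perp hw k

/-- The signed cycle. -/
noncomputable def cyN (hm : 0 < m) (b : ι → F) : GL ι F :=
  refl Q (φ.ev (.inl ⟨0, hm⟩) + Q b • φ.ev (.inr ⟨0, hm⟩)) * refl Q b * φ.cyP (m - 1)

theorem cyN_mem_iso (hm : 0 < m) (b : ι → F) : φ.cyN hm b ∈ isometryGroup F Q :=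
  mul_mem (mul_mem (refl_mem_iso Q _) (refl_mem_iso Q _)) (φ.cyP_mem_iso _)

theorem cyN_spec (hm : 0 < m) {b : ι → F} (hb : φ.Perp b) (hb0 : Q b ≠ 0) :
    (∀ a, ∃ α : F, α ≠ 0 ∧ act (φ.cyN hm b) (φ.ev a) = α • φ.ev (sigC a)) ∧
      ∀ w, φ.Perp w → act (φ.cyN hm b) w = act (refl Q b) w := by
  set o : Fin m := ⟨0, hm⟩ with ho
  set a0 : ι → F := φ.ev (.inl o) + Q b • φ.ev (.inr o) with ha0
  have hQa : Q a0 = Q b := by
    rw [ha0, Q_add Q, φ.sing, Q_smul Q, φ.sing, B_smul_right Q,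
      show φ.ev (.inr o) = φ.ev (ng (Sum.inl o)) from rfl, φ.pair_ng]
    ring
  have hBa : ∀ c : SIdx m, B a0 (φ.ev c) =
      (if c = .inr o then 1 else 0) + Q b * (if c = .inl o then 1 else 0) := by
    intro c; rw [ha0, B_add_left Q, B_smul_left Q, φ.pair, φ.pair]; simp only [ng, Sum.swap_inl, Sum.swap_inr]
    congr!
  have fixb : ∀ c, act (refl Q b) (φ.ev c) = φ.ev c := fun c =>
    act_refl_fix Q hb0 (by rw [QuadraticMap.polar_comm]; exact hb c)
  refine ⟨fun c => ?_, fun w hw => ?_⟩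
  · obtain ⟨α, hα, e⟩ := φ.act_cyP (m - 1) (by omega) c
    rw [cyN, act_mul, act_mul, e, map_smul, fixb, map_smul, act_refl Q (by rw [hQa]; exact hb0), hQa, hBa]
    rcases c with i | i
    · by_cases hi : i.val + 1 < m
      · refine ⟨α, hα, ?_⟩
        rw [Sum.map_inl, tau, dif_pos ⟨by omega, hi⟩, show sigC (Sum.inl i : SIdx m) = _ from dif_pos hi,
          if_neg (by simp), if_neg (fun e => by simp [o] at e)]
        simp
      · refine ⟨-(Q b * α), neg_ne_zero.2 (mul_ne_zero hb0 hα), ?_⟩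
        rw [Sum.map_inl, tau, dif_neg (fun h => hi h.2), if_pos (by have := i.isLt; omega),
          show sigC (Sum.inl i : SIdx m) = _ from dif_neg hi, ← ho, if_pos rfl, if_neg (by simp)]
        match_scalars <;> field_simp <;> ring
    · by_cases hi : i.val + 1 < m
      · refine ⟨α, hα, ?_⟩
        rw [Sum.map_inr, tau, dif_pos ⟨by omega, hi⟩, show sigC (Sum.inr i : SIdx m) = _ from dif_pos hi,
          if_neg (fun e => by simp [o] at e), if_neg (by simp)]
        simp
      · refine ⟨-(α / Q b), neg_ne_zero.2 (div_ne_zero hα hb0), ?_⟩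
        rw [Sum.map_inr, tau, dif_neg (fun h => hi h.2), if_pos (by have := i.isLt; omega),
          show sigC (Sum.inr i : SIdx m) = _ from dif_neg hi, ← ho, if_pos rfl, if_neg (by simp)]
        match_scalars <;> field_simp <;> ring
  · have hw' : B a0 (act (refl Q b) w) = 0 := by
      rw [ha0, B_add_left Q, B_smul_left Q, act_refl Q hb0, B_sub_right Q, B_sub_right Q, B_smul_right Q,
        B_smul_right Q, hw, hw, hb, hb]
      ring
    rw [cyN, act_mul, act_mul, φ.act_cyP_perp hw, act_refl_fix Q (by rw [hQa]; exact hb0) hw']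

theorem pow_act {g : GL ι F} {x : ι → F} {r : F} (h : act g x = r • x) : ∀ k, act (g ^ k) x = r ^ k • x
  | 0 => by rw [pow_zero, pow_zero, one_smul, act_one]
  | k + 1 => by rw [pow_succ, act_mul, h, map_smul, pow_act h k, smul_smul, pow_succ']

theorem hW_pow {a b : SIdx m} (h : lv a ≠ lv b) {c : F} (hc : c ≠ 0) {k : ℕ} (hck : c ^ k = 1) :
    φ.hW a b c ^ k = 1 := by
  refine φ.frame_ext (fun d => ?_) fun w hw => ?_
  · obtain ⟨r, hr, e⟩ : ∃ r : F, r ^ k = 1 ∧ act (φ.hW a b c) (φ.ev d) = r • φ.ev d := by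
      obtain ⟨h1, h2, h3, h4⟩ := φ.act_hW h hc
      by_cases ha : lv d = lv a
      · rcases lv_eq.1 ha with rfl | rfl
        · exact ⟨c, hck, h1⟩
        · exact ⟨c⁻¹, by rw [inv_pow, hck, inv_one], h2⟩
      by_cases hb : lv d = lv b
      · rcases lv_eq.1 hb with rfl | rfl
        · exact ⟨c⁻¹, by rw [inv_pow, hck, inv_one], h3⟩
        · exact ⟨c, hck, h4⟩
      exact ⟨1, one_pow k, by rw [one_smul, φ.act_hW_ev h c ha hb]⟩
    rw [pow_act e, hr, one_smul, act_one]
  · rw [pow_act (r := 1) (by rw [one_smul, φ.act_hW_perp h c hw]), one_pow, one_smul, act_one]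

variable [Finite F] (hQ : (QuadraticMap.polarBilin Q).Nondegenerate) (hn : 5 ≤ Fintype.card ι)
include hQ hn

theorem cyN_mem_omega (hm : 0 < m) {b : ι → F} : φ.cyN hm b ∈ Cfsg.Geo.omegaGL ⇑Q := by
  have hP : ∀ k, φ.cyP k ∈ Cfsg.Geo.omegaGL ⇑Q := by
    intro k
    induction k with
    | zero => exact one_mem _
    | succ k ih =>
      rw [cyP]
      split_ifs
      · exact mul_mem ih (φ.nW_mem_omega hQ hn _ _ _)
      · exact ih
  refine mul_mem ?_ (hP _)
  rw [omega_eq_sgGroup hQ hn]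
  refine refl_mul_refl_mem hQ hn ?_
  rw [Q_add Q, φ.sing, Q_smul Q, φ.sing, B_smul_right Q,
    show φ.ev (.inr ⟨0, hm⟩) = φ.ev (ng (Sum.inl ⟨0, hm⟩)) from rfl, φ.pair_ng]
  ring

/-- More than two field elements. -/
theorem exists_pair_big (hm : 3 ≤ m) (hF : 3 ≤ Nat.card F) {b z : ι → F} (hb : φ.Perp b) (hb0 : Q b ≠ 0)
    (hz : φ.Perp z) (hW : ∀ w, φ.Perp w → w ∈ Submodule.span F ({z, act (refl Q b) z} : Set (ι → F))) :
    ∃ a a' : GL ι F, a ∈ Cfsg.Geo.omegaGL ⇑Q ∧ a' ∈ Cfsg.Geo.omegaGL ⇑Q ∧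
      Cfsg.Geo.omegaGL ⇑Q ≤ Subgroup.closure {a, a'} := by
  have := Fintype.ofFinite F
  rw [Nat.card_eq_fintype_card] at hF
  obtain ⟨u, hu⟩ := IsCyclic.exists_generator (α := Fˣ)
  set c : F := (u : F) with hc'
  have hc : c ≠ 0 := u.ne_zero
  have hgen : ∀ T : AddSubgroup F, (∀ t ∈ T, c * t ∈ T) → (1 : F) ∈ T → T = ⊤ := by
    intro T hT h1
    refine eq_top_iff.2 fun x _ => ?_
    by_cases hx : x = 0
    · rw [hx]; exact T.zero_mem
    obtain ⟨n, hn'⟩ := (mem_powers_iff_mem_zpowers.2 (hu (Units.mk0 x hx)) : Units.mk0 x hx ∈ Submonoid.powers u)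
    have : x = c ^ n := by rw [hc', ← Units.val_pow_eq_pow_val]; exact (congrArg Units.val hn').symm
    rw [this]
    clear this hn' hx
    induction n with
    | zero => rwa [pow_zero]
    | succ n ih => rw [pow_succ']; exact hT _ ih
  have hck : c ^ (Fintype.card F - 1) = 1 := FiniteField.pow_card_sub_one_eq_one c hc
  have hc1 : c ≠ 1 := by
    intro h
    have hu1 : u = 1 := Units.ext h
    have : ∀ x : Fˣ, x = 1 := fun x => by
      have := hu x; rwa [hu1, Subgroup.zpowers_one_eq_bot, Subgroup.mem_bot] at this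
    have h2 : Nat.card Fˣ ≤ 1 := Finite.card_le_one_iff_subsingleton.2 ⟨fun x y => (this x).trans (this y).symm⟩
    rw [Nat.card_units, Nat.card_eq_fintype_card] at h2
    omega
  set e0 : SIdx m := .inl ⟨0, by omega⟩
  set e1 : SIdx m := .inl ⟨1, by omega⟩
  set i2 : Fin m := ⟨2, by omega⟩
  have h01 : lv e0 ≠ lv (ng e1) := fun e => by have := congrArg Fin.val e; simp [e0, e1, lv] at this
  have h01' : lv e0 ≠ lv e1 := by rwa [lv_ng] at h01
  set y := sg Q (φ.ev e0) z with hy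
  set h := φ.hW e0 (ng e1) c with hh
  obtain ⟨he0, hf0, hf1, he1⟩ := φ.act_hW h01 hc
  rw [ng_ng] at he1
  have yfix : ∀ d : SIdx m, d ≠ ng e0 → act y (φ.ev d) = φ.ev d ∧ act y⁻¹ (φ.ev d) = φ.ev d := fun d hd => by
    have h' : act y (φ.ev d) = φ.ev d :=
      act_sg_fix Q (φ.sing _) (hz _) (φ.pair_zero hd) (by rw [QuadraticMap.polar_comm]; exact hz d)
    refine ⟨h', ?_⟩
    conv_lhs => rw [← h']
    rw [act_inv_act]
  set v := y * h * y⁻¹ with hv
  have hvev : ∀ d : SIdx m, d ≠ ng e0 → ∀ r : F, act h (φ.ev d) = r • φ.ev d → act v (φ.ev d) = r • φ.ev d :=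
    fun d hd r hr => by rw [hv, act_mul, act_mul, (yfix d hd).2, hr, map_smul, (yfix d hd).1]
  have hve0 := hvev e0 (ng_ne e0).symm c he0
  have hve1 := hvev e1 (fun e => h01 (by rw [e, ng_ng])) c he1
  have hvf1 := hvev (ng e1) (fun e => h01' (by rw [ng_inj.1 e])) c⁻¹ hf1
  have hvf2 := hvev (.inr i2) (fun e => by simp [i2, e0, ng] at e) 1 (by
    rw [one_smul]
    exact φ.act_hW_ev h01 c (fun e => by have := congrArg Fin.val e; simp [i2, e0, lv] at this)
      (fun e => by have := congrArg Fin.val e; simp [i2, e1, lv, ng] at this))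
  have hiso : v ∈ isometryGroup F Q :=
    mul_mem (mul_mem (sg_mem_iso _ _ _) (φ.hW_mem_iso _ _ _)) (inv_mem (sg_mem_iso _ _ _))
  have hcomm : Commute (φ.E e0 e1 1) v := by
    have e := φ.conj_E hiso h01' hve0 hvf1 1
    rw [mul_inv_cancel₀ hc, one_mul] at e
    exact (mul_inv_eq_iff_eq_mul.1 e).symm
  have hproj : φ.proj (act v (φ.ev (.inr ⟨0, by omega⟩))) = (c⁻¹ - 1) • z := by
    have hBz : B z (φ.ev (ng e0)) = 0 := by rw [QuadraticMap.polar_comm]; exact hz _
    have hBz0 : B z (φ.ev e0) = 0 := by rw [QuadraticMap.polar_comm]; exact hz _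
    have hnz : B (φ.ev e0) (-z) = 0 := by rw [B_neg_right Q, hz, neg_zero]
    have ya : act y⁻¹ (φ.ev (ng e0)) = φ.ev (ng e0) - z - Q z • φ.ev e0 := by
      rw [hy, ← sg_neg Q (φ.sing _) (hz _), act_sg Q (φ.sing _) hnz, φ.pair_ng, B_neg_left Q, hBz, Q_neg Q]
      match_scalars <;> ring
    have yf : act y (φ.ev (ng e0)) = φ.ev (ng e0) + z - Q z • φ.ev e0 := by
      rw [hy, act_sg Q (φ.sing _) (hz _), φ.pair_ng, hBz]
      match_scalars <;> ring
    have yz : act y z = z - B z z • φ.ev e0 := by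
      rw [hy, act_sg Q (φ.sing _) (hz _), hz e0]
      match_scalars <;> ring
    have ye : act y (φ.ev e0) = φ.ev e0 := (yfix e0 (ng_ne e0).symm).1
    show φ.proj (act v (φ.ev (ng e0))) = _
    rw [hv, act_mul, act_mul, ya]
    simp only [map_sub, map_smul]
    rw [hf0, φ.act_hW_perp h01 c hz, he0]
    simp only [map_sub, map_smul, yf, yz, ye]
    simp only [proj_sub, proj_add, proj_smul, φ.proj_perp hz, φ.proj_ev]
    module
  obtain ⟨hNm, hNp⟩ := φ.cyN_spec (show 0 < m by omega) hb hb0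
  refine ⟨φ.E e0 e1 1 * v, φ.cyN (show 0 < m by omega) b, mul_mem (φ.E_mem_omega hQ hn _ _ _)
    (mul_mem (mul_mem (sg_mem_omega hQ hn _ _) (φ.hW_mem_omega hQ hn _ _ _)) (inv_mem (sg_mem_omega hQ hn _ _))),
    φ.cyN_mem_omega hQ hn _, ?_⟩
  refine omega_le_of_cycle hQ hn hm (φ.cyN_mem_iso _ _) hiso hNm hcomm (k := Fintype.card F - 1) ?_ ?_
    (s := i2) (Or.inr rfl) hve0 hvf2 (fun T hT h1 => hgen T (fun t ht => by simpa using hT t ht) h1)
    (i := ⟨0, by omega⟩) (j := ⟨1, by omega⟩) (by simp) hc hve1 ?_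
  · rw [Nat.cast_sub (by omega), FiniteField.cast_card_eq_zero, Nat.cast_one, zero_sub]
    exact neg_ne_zero.2 one_ne_zero
  · rw [hv, conj_pow, φ.hW_pow h01 hc hck, mul_one, mul_inv_cancel]
  · intro w hw
    have hne : c⁻¹ - 1 ≠ 0 := sub_ne_zero.2 fun e => hc1 (inv_eq_one.1 e)
    rw [hproj]
    refine (Submodule.span_le.2 (Set.insert_subset ?_ (Set.singleton_subset_iff.2 ?_))) (hW w hw)
    · have := Submodule.smul_mem (Submodule.span F ({(c⁻¹ - 1) • z, act (φ.cyN (show 0 < m by omega) b)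
        ((c⁻¹ - 1) • z)} : Set (ι → F))) (c⁻¹ - 1)⁻¹ (Submodule.subset_span (Set.mem_insert _ _))
      rwa [inv_smul_smul₀ hne] at this
    · have := Submodule.smul_mem (Submodule.span F ({(c⁻¹ - 1) • z, act (φ.cyN (show 0 < m by omega) b)
        ((c⁻¹ - 1) • z)} : Set (ι → F))) (c⁻¹ - 1)⁻¹ (Submodule.subset_span (Set.mem_insert_of_mem _ rfl))
      rw [map_smul, inv_smul_smul₀ hne, hNp z hz] at this
      rw [map_smul, hNp z hz]
      exact this

/-- Two field elements. -/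
theorem exists_pair_two (hm : 3 ≤ m) (hF : Nat.card F = 2) {b p q : ι → F} (hb : φ.Perp b) (hb0 : Q b ≠ 0)
    (hp : Q p = 1) (hq : Q q = 1) (hpq : B p q = 1)
    (hpo : ∀ a : SIdx m, (lv a).val ≤ 1 → B (φ.ev a) p = 0 ∧ B (φ.ev a) q = 0)
    {z : ι → F} (hz : φ.proj (act ((refl Q q * refl Q p) ^ 2) (φ.ev (.inr ⟨2, by omega⟩))) = z)
    (hW : ∀ w, φ.Perp w → w ∈ Submodule.span F ({z, act (refl Q b) z} : Set (ι → F))) :
    ∃ a a' : GL ι F, a ∈ Cfsg.Geo.omegaGL ⇑Q ∧ a' ∈ Cfsg.Geo.omegaGL ⇑Q ∧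
      Cfsg.Geo.omegaGL ⇑Q ≤ Subgroup.closure {a, a'} := by
  have := Fintype.ofFinite F
  rw [Nat.card_eq_fintype_card] at hF
  have htwo : ∀ x : F, x = 0 ∨ x = 1 := fun x => by
    classical
    have hu : (Finset.univ : Finset F) = {0, 1} := by
      refine (Finset.eq_of_subset_of_card_le (Finset.subset_univ _) ?_).symm
      rw [Finset.card_univ, hF, Finset.card_pair zero_ne_one]
    have hx := Finset.mem_univ x
    rw [hu] at hx
    simpa using hx
  have h2 : (2 : F) = 0 := by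
    have := FiniteField.cast_card_eq_zero F; rw [hF] at this; exact_mod_cast this
  set v := (refl Q q * refl Q p) ^ 2 with hv
  have hrq := refl_mem_iso Q q
  have hrp := refl_mem_iso Q p
  have fix : ∀ a : SIdx m, (lv a).val ≤ 1 → act v (φ.ev a) = φ.ev a := fun a ha => by
    have h1 : act (refl Q p) (φ.ev a) = φ.ev a :=
      act_refl_fix Q (by rw [hp]; exact one_ne_zero) (by rw [QuadraticMap.polar_comm]; exact (hpo a ha).1)
    have h2 : act (refl Q q) (φ.ev a) = φ.ev a :=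
      act_refl_fix Q (by rw [hq]; exact one_ne_zero) (by rw [QuadraticMap.polar_comm]; exact (hpo a ha).2)
    rw [hv, pow_two]
    simp only [act_mul, h1, h2]
  have hiso : v ∈ isometryGroup F Q := pow_mem (mul_mem hrq hrp) _
  have hcube : v ^ 3 = 1 := by
    have e1 : refl Q p * refl Q q * refl Q p = refl Q (q - p) := by
      have := conj_refl Q hrp q
      rwa [refl_inv, act_refl Q (by rw [hp]; exact one_ne_zero), hp, hpq, inv_one, one_mul, one_smul] at this
    have e2 : refl Q q * refl Q p * refl Q q = refl Q (p - q) := by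
      have := conj_refl Q hrq p
      rwa [refl_inv, act_refl Q (by rw [hq]; exact one_ne_zero), hq, QuadraticMap.polar_comm _ q p, hpq, inv_one,
        one_mul, one_smul] at this
    have e3 : q - p = p - q := by
      exact sub_eq_zero.1 (by rw [show q - p - (p - q) = (2 : F) • (q - p) by module, h2, zero_smul])
    have e4 : (refl Q q * refl Q p) ^ 3 = 1 := by
      rw [show (refl Q q * refl Q p) ^ 3 =
        (refl Q q * refl Q p * refl Q q) * (refl Q p * refl Q q * refl Q p) by simp [pow_succ, mul_assoc],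
        e1, e2, e3, refl_mul_self]
    rw [hv, ← pow_mul, mul_comm, pow_mul, e4, one_pow]
  have hvo : v ∈ Cfsg.Geo.omegaGL ⇑Q := by
    have := commutator_mem_omega (Q := Q) hrq hrp
    rwa [refl_inv, refl_inv, show refl Q q * refl Q p * refl Q q * refl Q p =
      (refl Q q * refl Q p) ^ 2 by simp [pow_two, mul_assoc]] at this
  have h01 : lv (Sum.inl ⟨0, by omega⟩ : SIdx m) ≠ lv (Sum.inl ⟨1, by omega⟩) := fun e => by
    have := congrArg Fin.val e; simp [lv] at this
  have v0 : act v (φ.ev (.inl ⟨0, by omega⟩)) = (1 : F) • φ.ev (.inl ⟨0, by omega⟩) := by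
    rw [one_smul]; exact fix _ (Nat.zero_le _)
  have v1 : act v (φ.ev (.inr ⟨1, by omega⟩)) = (1 : F) • φ.ev (.inr ⟨1, by omega⟩) := by
    rw [one_smul]; exact fix _ le_rfl
  have hcomm : Commute (φ.E (.inl ⟨0, by omega⟩) (.inl ⟨1, by omega⟩) 1) v := by
    have e := φ.conj_E hiso h01 v0 (b := .inl ⟨1, by omega⟩) v1 1
    rw [one_mul, one_mul] at e
    exact (mul_inv_eq_iff_eq_mul.1 e).symm
  obtain ⟨hNm, hNp⟩ := φ.cyN_spec (show 0 < m by omega) hb hb0
  refine ⟨φ.E (.inl ⟨0, by omega⟩) (.inl ⟨1, by omega⟩) 1 * v, φ.cyN (show 0 < m by omega) b,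
    mul_mem (φ.E_mem_omega hQ hn _ _ _) hvo, φ.cyN_mem_omega hQ hn _, ?_⟩
  refine omega_le_of_cycle hQ hn hm (φ.cyN_mem_iso _ _) hiso hNm hcomm (k := 3) ?_ hcube
    (s := ⟨1, by omega⟩) (Or.inl rfl) v0 v1 (fun T _ h1 => ?_)
    (i := ⟨2, by omega⟩) (j := ⟨0, by omega⟩) (by simp) one_ne_zero v0 ?_
  · rw [show ((3 : ℕ) : F) = 2 + 1 by norm_num, h2, zero_add]
    exact one_ne_zero
  · refine eq_top_iff.2 fun x _ => ?_
    rcases htwo x with rfl | rfl
    · exact T.zero_mem
    · exact h1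
  · intro w hw
    have hzp : φ.Perp z := hz ▸ φ.perp_proj _
    rw [hz, hNp z hzp]
    exact hW w hw

end OFrame

/-- Transfer to the projective group. -/
theorem pOmega_two_gen {ι : Type} [Fintype ι] [DecidableEq ι] {F : Type*} [Field F] {f : (ι → F) → F}
    {a b : GL ι F} (ha : a ∈ Cfsg.Geo.omegaGL f) (hb : b ∈ Cfsg.Geo.omegaGL f)
    (h : Cfsg.Geo.omegaGL f ≤ Subgroup.closure {a, b}) :
    ∃ x y : Cfsg.POmega F f, Subgroup.closure ({x, y} : Set (Cfsg.POmega F f)) = ⊤ := by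
  obtain ⟨a', ha', rfl⟩ := ha
  obtain ⟨b', hb', rfl⟩ := hb
  let i : ↥(Cfsg.Omega F f) →* GL ι F :=
    (Cfsg.isometryGroup F f).subtype.comp (Cfsg.Omega F f).subtype
  have hi : Function.Injective i := Subtype.val_injective.comp Subtype.val_injective
  let π := QuotientGroup.mk' (Subgroup.center ↥(Cfsg.Omega F f))
  refine ⟨π ⟨a', ha'⟩, π ⟨b', hb'⟩, ?_⟩
  have htop : Subgroup.closure ({⟨a', ha'⟩, ⟨b', hb'⟩} : Set ↥(Cfsg.Omega F f)) = ⊤ := by
    refine eq_top_iff.2 fun x _ => ?_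
    have hx : i x ∈ Subgroup.closure {((Cfsg.isometryGroup F f).subtype a'), ((Cfsg.isometryGroup F f).subtype b')} :=
      h ⟨x.1, x.2, rfl⟩
    have e : (Subgroup.closure ({⟨a', ha'⟩, ⟨b', hb'⟩} : Set ↥(Cfsg.Omega F f))).map i =
        Subgroup.closure {((Cfsg.isometryGroup F f).subtype a'), ((Cfsg.isometryGroup F f).subtype b')} := by
      rw [MonoidHom.map_closure, Set.image_pair]; rfl
    rw [← e] at hx
    obtain ⟨y, hy, hxy⟩ := hx
    rwa [hi hxy] at hy
  have := congrArg (Subgroup.map π) htop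
  rwa [MonoidHom.map_closure, Set.image_pair,
    Subgroup.map_top_of_surjective π (QuotientGroup.mk'_surjective _)] at this

end Cfsg.Agent.TwoGen
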