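import Cfsg.Agent.Lib.TwoGen.Symp

/-!
The two generators of `Sp_{2m}(q)`.
-/

set_option autoImplicit false

open scoped Matrix
open Cfsg.Agent.ClassicalSimple

namespace Cfsg.Agent.TwoGen

variable {F : Type*} [Field F] {m : ℕ}

/-- Preservation of the form for maps touching two planes. -/
theorem pres_two (f : (Fin m ⊕ Fin m → F) → (Fin m ⊕ Fin m → F)) {p s : Fin m} (hps : p ≠ s)
    (hoff : ∀ x i, i ≠ p → i ≠ s → f x (Sum.inl i) = x (Sum.inl i) ∧ f x (Sum.inr i) = x (Sum.inr i))
    (h : ∀ x y, f x (Sum.inr p) * f y (Sum.inl p) - f x (Sum.inl p) * f y (Sum.inr p) +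
        (f x (Sum.inr s) * f y (Sum.inl s) - f x (Sum.inl s) * f y (Sum.inr s)) =
      x (Sum.inr p) * y (Sum.inl p) - x (Sum.inl p) * y (Sum.inr p) +
        (x (Sum.inr s) * y (Sum.inl s) - x (Sum.inl s) * y (Sum.inr s))) (x y : Fin m ⊕ Fin m → F) :
    sympBilin m F (f x) (f y) = sympBilin m F x y := by
  classical
  rw [sympBilin_eq_sum, sympBilin_eq_sum, ← Finset.add_sum_erase _ _ (Finset.mem_univ p),
    ← Finset.add_sum_erase _ _ (Finset.mem_erase.2 ⟨hps.symm, Finset.mem_univ s⟩),
    ← Finset.add_sum_erase _ _ (Finset.mem_univ p),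
    ← Finset.add_sum_erase _ _ (Finset.mem_erase.2 ⟨hps.symm, Finset.mem_univ s⟩),
    ← add_assoc, ← add_assoc, h]
  congr 1
  refine Finset.sum_congr rfl fun i hi => ?_
  rw [Finset.mem_erase, Finset.mem_erase] at hi
  rw [(hoff x i hi.2.1 hi.1).1, (hoff x i hi.2.1 hi.1).2, (hoff y i hi.2.1 hi.1).1, (hoff y i hi.2.1 hi.1).2]

theorem smul_single_eq (v : Fin m ⊕ Fin m → F) :
    v = ∑ i, (v (Sum.inl i) • ev i + v (Sum.inr i) • fv i) := by
  refine funext fun s => ?_
  rcases s with i | i <;> simp [Finset.sum_apply, Pi.single_apply]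

variable [NeZero m]

/-- The semisimple element for at least three field elements. -/
noncomputable def torMap (p s : Fin m) (μ σ : F) : (Fin m ⊕ Fin m → F) →ₗ[F] (Fin m ⊕ Fin m → F) where
  toFun x := Sum.elim (fun i => if i = p then x (Sum.inl p) + σ * x (Sum.inl s)
      else if i = s then μ * x (Sum.inl s) else x (Sum.inl i))
    (fun i => if i = s then μ⁻¹ * (x (Sum.inr s) - σ * x (Sum.inr p)) else x (Sum.inr i))
  map_add' x y := by
    refine funext fun t => ?_
    rcases t with i | i <;> simp only [Sum.elim_inl, Sum.elim_inr, Pi.add_apply] <;> split_ifs <;> ring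
  map_smul' a x := by
    refine funext fun t => ?_
    rcases t with i | i <;> simp only [Sum.elim_inl, Sum.elim_inr, Pi.smul_apply, smul_eq_mul, RingHom.id_apply] <;>
      split_ifs <;> ring

omit [NeZero m] in
theorem torMap_pres {p s : Fin m} (hps : p ≠ s) {μ : F} (hμ : μ ≠ 0) (σ : F) (x y : Fin m ⊕ Fin m → F) :
    sympBilin m F (torMap p s μ σ x) (torMap p s μ σ y) = sympBilin m F x y := by
  refine pres_two _ hps (fun x i h1 h2 => by simp [torMap, h1, h2]) (fun x y => ?_) x y
  simp [torMap, hps, hps.symm]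
  field_simp
  ring

omit [NeZero m] in
theorem torMap_ev_fst {p s : Fin m} (hps : p ≠ s) (μ σ : F) : torMap p s μ σ (ev p) = ev p := by
  refine funext fun t => ?_
  rcases t with i | i <;> simp [torMap, Pi.single_apply, hps.symm]
  split_ifs <;> simp_all

omit [NeZero m] in
theorem torMap_ev_snd {p s : Fin m} (hps : p ≠ s) (μ σ : F) :
    torMap p s μ σ (ev s) = σ • ev p + μ • ev s := by
  refine funext fun t => ?_
  rcases t with i | i <;> simp [torMap, Pi.single_apply, hps]
  split_ifs <;> simp_all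

omit [NeZero m] in
theorem torMap_fv_snd {p s : Fin m} (hps : p ≠ s) (μ σ : F) : torMap p s μ σ (fv s) = μ⁻¹ • fv s := by
  refine funext fun t => ?_
  rcases t with i | i <;> simp [torMap, Pi.single_apply, hps]
  split_ifs <;> simp_all

omit [NeZero m] in
theorem torMap_one_zero (p s : Fin m) (x : Fin m ⊕ Fin m → F) : torMap p s (1 : F) 0 x = x := by
  refine funext fun t => ?_
  rcases t with i | i <;> simp [torMap]
  all_goals (try intro h; try (rw [h]))
  all_goals (try (split_ifs <;> simp_all))

/-- The semisimple element as an element of the group. -/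
noncomputable def tor {p s : Fin m} (hps : p ≠ s) {μ : F} (hμ : μ ≠ 0) (σ : F) :
    Matrix.symplecticGroup (Fin m) F :=
  ofMap (torMap p s μ σ) (torMap_pres hps hμ σ)

omit [NeZero m] in
theorem tor_pow {p s : Fin m} (hps : p ≠ s) {μ : F} (hμ : μ ≠ 0) : ∀ k : ℕ, ∀ x,
    (tor hps hμ 1 ^ k).1 *ᵥ x = torMap p s (μ ^ k) (∑ i ∈ Finset.range k, μ ^ i) x
  | 0, x => by
    refine funext fun t => ?_
    rcases t with i | i
    · simp [torMap, tor]
      split_ifs with h1 h2 <;> simp_all
    · simp [torMap, tor]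
      intro h; rw [h]
  | k + 1, x => by
    rw [pow_succ', mul_mulVec, tor_pow hps hμ k x, tor, ofMap_mulVec]
    refine funext fun t => ?_
    rcases t with i | i
    · simp [torMap, hps, hps.symm, pow_succ', Finset.sum_range_succ]
      split_ifs <;> ring
    · simp [torMap, hps, hps.symm, pow_succ', Finset.sum_range_succ]
      split_ifs
      · field_simp
        ring
      · rfl

/-- The element of order three over two elements. -/
noncomputable def triMap (p s : Fin m) : (Fin m ⊕ Fin m → F) →ₗ[F] (Fin m ⊕ Fin m → F) where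
  toFun x := Sum.elim (fun i => if i = p then x (Sum.inl s)
      else if i = s then x (Sum.inl p) + x (Sum.inl s) else x (Sum.inl i))
    (fun i => if i = p then x (Sum.inr p) + x (Sum.inr s)
      else if i = s then x (Sum.inr p) else x (Sum.inr i))
  map_add' x y := by
    refine funext fun t => ?_
    rcases t with i | i <;> simp only [Sum.elim_inl, Sum.elim_inr, Pi.add_apply] <;> split_ifs <;> ring
  map_smul' a x := by
    refine funext fun t => ?_
    rcases t with i | i <;> simp only [Sum.elim_inl, Sum.elim_inr, Pi.smul_apply, smul_eq_mul, RingHom.id_apply] <;>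
      split_ifs <;> ring

omit [NeZero m] in
theorem triMap_pres {p s : Fin m} (hps : p ≠ s) (h2 : (2 : F) = 0) (x y : Fin m ⊕ Fin m → F) :
    sympBilin m F (triMap p s x) (triMap p s y) = sympBilin m F x y := by
  refine pres_two _ hps (fun x i h1 h2 => by simp [triMap, h1, h2]) (fun x y => ?_) x y
  simp [triMap, hps, hps.symm]
  linear_combination (x (Sum.inr p) * y (Sum.inl s) - x (Sum.inl s) * y (Sum.inr p)) * h2

omit [NeZero m] in
theorem triMap_ev_other {p s i : Fin m} (hp : i ≠ p) (hs : i ≠ s) : triMap (F := F) p s (ev i) = ev i := by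
  refine funext fun t => ?_
  rcases t with l | l <;> simp [triMap, Pi.single_apply, hp.symm, hs.symm]
  split_ifs <;> simp_all

omit [NeZero m] in
theorem triMap_ev_snd {p s : Fin m} (hps : p ≠ s) : triMap (F := F) p s (ev s) = ev p + ev s := by
  refine funext fun t => ?_
  rcases t with l | l <;> simp [triMap, Pi.single_apply, hps]
  split_ifs <;> simp_all

omit [NeZero m] in
theorem triMap_three {p s : Fin m} (hps : p ≠ s) (h2 : (2 : F) = 0) (x : Fin m ⊕ Fin m → F) :
    triMap p s (triMap p s (triMap p s x)) = x := by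
  refine funext fun t => ?_
  rcases t with i | i <;> simp [triMap, hps, hps.symm] <;> split_ifs with a b
  · rw [a]; linear_combination x (Sum.inl s) * h2
  · rw [b]; linear_combination (x (Sum.inl p) + x (Sum.inl s)) * h2
  · rfl
  · rw [a]; linear_combination (x (Sum.inr p) + x (Sum.inr s)) * h2
  · rw [b]; linear_combination x (Sum.inr p) * h2
  · rfl

/-- The signed cycle. -/
noncomputable def cycMap (k : ℕ) :
    (Fin (k + 1) ⊕ Fin (k + 1) → F) →ₗ[F] (Fin (k + 1) ⊕ Fin (k + 1) → F) where
  toFun x := Sum.elim (Fin.cons (-x (Sum.inr (Fin.last k))) (fun i => x (Sum.inl i.castSucc)))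
    (Fin.cons (x (Sum.inl (Fin.last k))) (fun i => x (Sum.inr i.castSucc)))
  map_add' x y := by
    refine funext fun t => ?_
    rcases t with i | i <;> refine Fin.cases ?_ (fun j => ?_) i <;> simp <;> ring
  map_smul' a x := by
    refine funext fun t => ?_
    rcases t with i | i <;> refine Fin.cases ?_ (fun j => ?_) i <;> simp

theorem cycMap_pres (k : ℕ) (x y : Fin (k + 1) ⊕ Fin (k + 1) → F) :
    sympBilin (k + 1) F (cycMap k x) (cycMap k y) = sympBilin (k + 1) F x y := by
  rw [sympBilin_eq_sum, sympBilin_eq_sum, Fin.sum_univ_succ, Fin.sum_univ_castSucc]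
  simp [cycMap]
  ring

/-- The signed cycle in the group. -/
noncomputable def cyc (k : ℕ) : Matrix.symplecticGroup (Fin (k + 1)) F := ofMap (cycMap k) (cycMap_pres k)

theorem cyc_ev {k : ℕ} (i : Fin k) : (cyc (F := F) k).1 *ᵥ ev i.castSucc = ev i.succ := by
  rw [cyc, ofMap_mulVec]
  refine funext fun t => ?_
  rcases t with l | l <;> refine Fin.cases ?_ (fun j => ?_) l <;>
    simp [cycMap, Pi.single_apply, Fin.succ_ne_zero, Ne.symm (Fin.succ_ne_zero i)]

theorem cyc_fv {k : ℕ} (i : Fin k) : (cyc (F := F) k).1 *ᵥ fv i.castSucc = fv i.succ := by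
  rw [cyc, ofMap_mulVec]
  refine funext fun t => ?_
  rcases t with l | l <;> refine Fin.cases ?_ (fun j => ?_) l <;>
    simp [cycMap, Pi.single_apply, Fin.succ_ne_zero, Ne.symm (Fin.succ_ne_zero i),
      show i.castSucc ≠ Fin.last k from (Fin.castSucc_lt_last i).ne, (Fin.castSucc_lt_last i).ne']

theorem cyc_ev_last {k : ℕ} : (cyc (F := F) k).1 *ᵥ ev (Fin.last k) = fv 0 := by
  rw [cyc, ofMap_mulVec]
  refine funext fun t => ?_
  rcases t with l | l <;> refine Fin.cases ?_ (fun j => ?_) l <;>
    simp [cycMap, Pi.single_apply, Fin.succ_ne_zero, (Fin.castSucc_lt_last _).ne]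

theorem cyc_fv_last {k : ℕ} : (cyc (F := F) k).1 *ᵥ fv (Fin.last k) = (-1 : F) • ev 0 := by
  rw [cyc, ofMap_mulVec]
  refine funext fun t => ?_
  rcases t with l | l <;> refine Fin.cases ?_ (fun j => ?_) l <;>
    simp [cycMap, Pi.single_apply, Fin.succ_ne_zero, (Fin.castSucc_lt_last _).ne]

/-- Everything follows from one full transvection group on a plane, the cycle and one bridge. -/
theorem eq_top_of_cyc {k : ℕ} {H : Subgroup (Matrix.symplecticGroup (Fin (k + 1)) F)}
    (hw : cyc k ∈ H) {i0 : Fin (k + 1)} (h0 : Tv H (fv i0)) {j0 : ℕ} (hj0 : j0 + 1 < k + 1) {α β : F}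
    (hα : α ≠ 0) (hβ : β ≠ 0) (hu : Tv H (α • ev ⟨j0, by omega⟩ + β • ev ⟨j0 + 1, hj0⟩)) : H = ⊤ := by
  have hwi := H.inv_mem hw
  have back : ∀ u : Fin (k + 1) ⊕ Fin (k + 1) → F, Tv H ((cyc (F := F) k).1 *ᵥ u) → Tv H u := fun u h => by
    have := h.conj hwi
    rwa [← mul_mulVec, inv_mul_cancel, Submonoid.coe_one, Matrix.one_mulVec] at this
  have hf0 : Tv H (fv (0 : Fin (k + 1))) := by
    revert h0
    refine Fin.induction (motive := fun i : Fin (k + 1) => Tv H (fv i) → Tv H (fv 0)) (fun h => h) ?_ i0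
    intro i ih h
    refine ih (back _ ?_)
    rwa [cyc_fv]
  have hf : ∀ i : Fin (k + 1), Tv H (fv i) := by
    intro i
    induction i using Fin.induction with
    | zero => exact hf0
    | succ i ih => rw [← cyc_fv]; exact ih.conj hw
  have he0 : Tv H (ev (0 : Fin (k + 1))) := by
    have := ((hf (Fin.last k)).conj hw).smul (-1 : F)
    rwa [cyc_fv_last, smul_smul, neg_one_mul, neg_neg, one_smul] at this
  have he : ∀ i : Fin (k + 1), Tv H (ev i) := by
    intro i
    induction i using Fin.induction with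
    | zero => exact he0
    | succ i ih => rw [← cyc_ev]; exact ih.conj hw
  have step : ∀ j : ℕ, ∀ h : j + 1 < k, (cyc (F := F) k).1 *ᵥ (α • ev ⟨j, by omega⟩ + β • ev ⟨j + 1, by omega⟩) =
      α • ev ⟨j + 1, by omega⟩ + β • ev ⟨j + 2, by omega⟩ := by
    intro j h
    rw [Matrix.mulVec_add, Matrix.mulVec_smul, Matrix.mulVec_smul]
    exact congrArg₂ (fun a b => α • a + β • b) (cyc_ev (⟨j, by omega⟩ : Fin k)) (cyc_ev (⟨j + 1, h⟩ : Fin k))
  have hzero : Tv H (α • ev ⟨0, by omega⟩ + β • ev ⟨1, by omega⟩) := by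
    have : ∀ j, ∀ h : j + 1 < k + 1, Tv H (α • ev ⟨j, by omega⟩ + β • ev ⟨j + 1, h⟩) →
        Tv H (α • ev ⟨0, by omega⟩ + β • ev ⟨1, by omega⟩) := by
      intro j
      induction j with
      | zero => exact fun h hh => hh
      | succ j ih => exact fun h hh => ih (by omega) (back _ (by rw [step j (by omega)]; exact hh))
    exact this j0 hj0 hu
  refine eq_top_of_tv he hf fun j h => ⟨α, β, hα, hβ, ?_⟩
  induction j with
  | zero => exact hzero
  | succ j ih => rw [← step j (by omega)]; exact (ih (by omega)).conj hw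

variable [Fintype F]

omit [NeZero m] in
/-- A subgroup with a scaled family of transvections. -/
theorem tv_of_scaled {H : Subgroup (Matrix.symplecticGroup (Fin m) F)} {u : Fin m ⊕ Fin m → F} (g : Fˣ)
    (hg : ∀ x : Fˣ, x ∈ Subgroup.zpowers g) (h : ∀ j : ℕ, T u (((g : F) ^ j) ^ 2) ∈ H) : Tv H u := by
  have hsq : ∀ a : F, T u (a ^ 2) ∈ H := fun a => by
    rcases eq_or_ne a 0 with rfl | ha
    · rw [zero_pow two_ne_zero, T_zero]; exact H.one_mem
    · obtain ⟨j, hj⟩ := (mem_powers_iff_mem_zpowers (x := g)).2 (hg (Units.mk0 a ha))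
      have := h j
      simp only at hj
      rwa [← Units.val_pow_eq_pow_val, hj, Units.val_mk0] at this
  intro c
  by_cases h2 : (2 : F) = 0
  · haveI : CharP F 2 := CharTwo.of_one_ne_zero_of_two_eq_zero one_ne_zero h2
    obtain ⟨a, ha⟩ := FiniteField.isSquare_of_char_two (ringChar.eq F 2 ▸ rfl) c
    rw [ha, ← sq]
    exact hsq a
  · have : c = ((c + 1) / 2) ^ 2 + -(((c - 1) / 2) ^ 2) := by field_simp; ring
    rw [this, ← T_add, ← T_inv]
    exact H.mul_mem (hsq _) (H.inv_mem (hsq _))

/-- `Sp_{2m}(q)` is two-generated. -/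
theorem exists_two_gen (m : ℕ) (hm : 2 ≤ m) (hF : m = 2 → 2 < Fintype.card F) :
    ∃ a b : Matrix.symplecticGroup (Fin m) F, Subgroup.closure {a, b} = ⊤ := by
  classical
  obtain ⟨k, rfl⟩ : ∃ k, m = k + 1 := ⟨m - 1, by omega⟩
  have hcast : ((Fintype.card F - 1 : ℕ) : F) = -1 := by
    rw [Nat.cast_sub Fintype.card_pos, FiniteField.cast_card_eq_zero, Nat.cast_one, zero_sub]
  let p : Fin (k + 1) := ⟨0, by omega⟩
  let s : Fin (k + 1) := ⟨1, by omega⟩
  have hps : p ≠ s := fun h => by simpa [p, s] using congrArg Fin.val h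
  have shift : ∀ (H : Subgroup (Matrix.symplecticGroup (Fin (k + 1)) F)), cyc k ∈ H → T (ev p) 1 ∈ H →
      ∀ i : Fin (k + 1), T (ev i) 1 ∈ H := by
    intro H hw hτ i
    induction i using Fin.induction with
    | zero => exact hτ
    | succ i ih =>
      rw [← cyc_ev, ← conj_T]
      exact H.mul_mem (H.mul_mem hw ih) (H.inv_mem hw)
  by_cases hq : 2 < Fintype.card F
  · obtain ⟨g, hg⟩ := IsCyclic.exists_generator (α := Fˣ)
    have hg1 : (g : F) ≠ 1 := fun h => by
      have : Fintype.card Fˣ ≤ 1 := Fintype.card_le_one_iff.2 fun a b => by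
        have e : g = 1 := Units.ext h
        obtain ⟨i, rfl⟩ := hg a
        obtain ⟨l, rfl⟩ := hg b
        simp [e]
      rw [Fintype.card_units] at this
      omega
    let v := tor hps g.ne_zero 1
    have hve : v.1 *ᵥ ev p = ev p := by
      simp only [v, tor, ofMap_mulVec, torMap_ev_fst hps]
    let τ := T (ev p) (1 : F)
    have hcomm : Commute τ v := by
      have := conj_T v (ev p) (1 : F)
      rw [hve, mul_inv_eq_iff_eq_mul] at this
      exact this.symm
    have hvq : v ^ (Fintype.card F - 1) = 1 := ext_mulVec fun x => by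
      have h1 : (g : F) ^ (Fintype.card F - 1) = 1 := FiniteField.pow_card_sub_one_eq_one _ g.ne_zero
      have h2 : ∑ i ∈ Finset.range (Fintype.card F - 1), (g : F) ^ i = 0 := by
        rw [geom_sum_eq hg1, h1, sub_self, zero_div]
      rw [tor_pow hps g.ne_zero, h1, h2, Submonoid.coe_one, Matrix.one_mulVec, torMap_one_zero]
    refine ⟨cyc k, τ * v, ?_⟩
    set H := Subgroup.closure {cyc k, τ * v}
    have hw : cyc k ∈ H := Subgroup.subset_closure (Or.inl rfl)
    have hb : τ * v ∈ H := Subgroup.subset_closure (Or.inr rfl)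
    have hτ : τ ∈ H := by
      have := H.inv_mem (H.pow_mem hb (Fintype.card F - 1))
      rwa [hcomm.mul_pow, hvq, mul_one, T_pow, hcast, mul_one, T_inv, neg_neg] at this
    have hv : v ∈ H := by simpa using H.mul_mem (H.inv_mem hτ) hb
    have hei := shift H hw hτ
    have hfs : T (fv s) (1 : F) ∈ H := by
      have h0 : T (fv p) (1 : F) ∈ H := by
        rw [show p = 0 from rfl, ← cyc_ev_last, ← conj_T]
        exact H.mul_mem (H.mul_mem hw (hei _)) (H.inv_mem hw)
      have := H.mul_mem (H.mul_mem hw h0) (H.inv_mem hw)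
      rwa [conj_T, show p = (⟨0, by omega⟩ : Fin k).castSucc from rfl, cyc_fv] at this
    have hvf : ∀ j : ℕ, (v ^ j).1 *ᵥ fv s = ((g : F) ^ j)⁻¹ • fv s := fun j => by
      rw [tor_pow hps g.ne_zero, torMap_fv_snd hps]
    have hfs' : Tv H (fv s) := by
      refine tv_of_scaled g⁻¹ (fun x => by rw [Subgroup.zpowers_inv]; exact hg x) fun j => ?_
      have := H.mul_mem (H.mul_mem (H.pow_mem hv j) hfs) (H.inv_mem (H.pow_mem hv j))
      rwa [conj_T, hvf, T_smul, mul_one, ← inv_pow, ← Units.val_inv_eq_inv_val] at this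
    -- the bridge
    have hes : Tv H (ev s) := by
      have h1 : ∀ i : Fin (k + 1), Tv H (fv i) → Tv H (fv (0 : Fin (k + 1))) := by
        intro i
        refine Fin.induction (motive := fun i : Fin (k + 1) => Tv H (fv i) → Tv H (fv 0)) (fun h => h) ?_ i
        intro i ih h
        refine ih ?_
        have := h.conj (H.inv_mem hw)
        rwa [← cyc_fv, ← mul_mulVec, inv_mul_cancel, Submonoid.coe_one, Matrix.one_mulVec] at this
      have hfl : Tv H (fv (Fin.last k)) := by
        refine Fin.induction (motive := fun i : Fin (k + 1) => Tv H (fv i)) (h1 s hfs') ?_ (Fin.last k)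
        intro i ih
        rw [← cyc_fv]; exact ih.conj hw
      have he0 := (hfl.conj hw).smul (-1 : F)
      rw [cyc_fv_last, smul_smul, neg_one_mul, neg_neg, one_smul] at he0
      have := he0.conj hw
      rwa [show (0 : Fin (k + 1)) = (⟨0, by omega⟩ : Fin k).castSucc from rfl, cyc_ev] at this
    have hu : Tv H ((1 : F) • ev p + (g : F) • ev s) := by
      have := hes.conj hv
      convert this using 1
      rw [show v.1 *ᵥ ev s = torMap p s (g : F) 1 (ev s) from ofMap_mulVec _ _ _, torMap_ev_snd hps]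
    exact eq_top_of_cyc hw hfs' (j0 := 0) (by omega) one_ne_zero g.ne_zero hu
  · have hq2 : Fintype.card F = 2 := by
      have := Fintype.one_lt_card (α := F); omega
    have hm3 : 2 ≤ k := by
      by_contra h
      exact hq (hF (by omega))
    have h2 : (2 : F) = 0 := by
      have := FiniteField.cast_card_eq_zero F
      rwa [hq2] at this
    let r : Fin (k + 1) := ⟨2, by omega⟩
    have hsr : s ≠ r := fun h => by simpa [s, r] using congrArg Fin.val h
    have hpr : p ≠ r := fun h => by simpa [p, r] using congrArg Fin.val h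
    let v : Matrix.symplecticGroup (Fin (k + 1)) F := ofMap (triMap s r) (triMap_pres hsr h2)
    have hve : v.1 *ᵥ ev p = ev p := by
      simp only [v, ofMap_mulVec, triMap_ev_other hps hpr]
    let τ := T (ev p) (1 : F)
    have hcomm : Commute τ v := by
      have := conj_T v (ev p) (1 : F)
      rw [hve, mul_inv_eq_iff_eq_mul] at this
      exact this.symm
    have hv3 : v ^ 3 = 1 := ext_mulVec fun x => by
      rw [pow_succ, pow_two, mul_mulVec, mul_mulVec, Submonoid.coe_one, Matrix.one_mulVec]
      simp only [v, ofMap_mulVec, triMap_three hsr h2]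
    refine ⟨cyc k, τ * v, ?_⟩
    set H := Subgroup.closure {cyc k, τ * v}
    have hw : cyc k ∈ H := Subgroup.subset_closure (Or.inl rfl)
    have hb : τ * v ∈ H := Subgroup.subset_closure (Or.inr rfl)
    have hτ : τ ∈ H := by
      have := H.pow_mem hb 3
      rwa [hcomm.mul_pow, hv3, mul_one, T_pow, show ((3 : ℕ) : F) = 1 by push_cast; linear_combination h2,
        mul_one] at this
    have hv : v ∈ H := by simpa using H.mul_mem (H.inv_mem hτ) hb
    have full : ∀ u, T u (1 : F) ∈ H → Tv H u := fun u hu c => by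
      rcases eq_or_ne c 0 with rfl | hc
      · rw [T_zero]; exact H.one_mem
      · rwa [show c = 1 by
          by_contra hc1
          have : ({0, 1, c} : Finset F).card = 3 := by
            rw [Finset.card_insert_of_notMem (by simp [Ne.symm hc]), Finset.card_pair (Ne.symm hc1)]
          have := this ▸ Finset.card_le_univ ({0, 1, c} : Finset F)
          omega]
    have hei := shift H hw hτ
    have hf0 : T (fv (0 : Fin (k + 1))) (1 : F) ∈ H := by
      rw [← cyc_ev_last, ← conj_T]
      exact H.mul_mem (H.mul_mem hw (hei _)) (H.inv_mem hw)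
    have hu : Tv H ((1 : F) • ev s + (1 : F) • ev r) := by
      have := (full _ (hei r)).conj hv
      convert this using 1
      simp only [v, ofMap_mulVec, triMap_ev_snd hsr, one_smul]
    exact eq_top_of_cyc hw (full _ hf0) (j0 := 1) (by omega) one_ne_zero one_ne_zero hu

end Cfsg.Agent.TwoGen
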