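/-
Generators of the multiplicative group used for two-generation of twisted groups.
-/
import Cfsg.Agent.Lib.TwoGen.Twist

set_option autoImplicit false

namespace Cfsg.Agent.TwoGen

variable {F : Type*} [Field F] [Fintype F]

theorem pow_of_zpowers {x : Fˣ} {t : F} (ht : t ≠ 0) (h : Units.mk0 t ht ∈ Subgroup.zpowers x) :
    ∃ m : ℕ, t = (x : F) ^ m := by
  classical
  obtain ⟨m, hm⟩ := (mem_powers_iff_mem_zpowers (x := x)).2 h
  simp only at hm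
  exact ⟨m, by rw [← Units.val_pow_eq_pow_val, hm, Units.val_mk0]⟩

theorem orderOf_unit_gen {g : Fˣ} (hg : ∀ x : Fˣ, x ∈ Subgroup.zpowers g) : orderOf g = Fintype.card F - 1 := by
  classical
  rw [orderOf_eq_card_of_forall_mem_zpowers hg, Nat.card_eq_fintype_card, Fintype.card_units]

theorem pow_of_coprime {g : Fˣ} (hg : ∀ x : Fˣ, x ∈ Subgroup.zpowers g) {e : ℤ}
    (he : IsCoprime e ((Fintype.card F - 1 : ℕ) : ℤ)) {t : F} (ht : t ≠ 0) :
    ∃ m : ℕ, t = ((g ^ e : Fˣ) : F) ^ m := by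
  refine pow_of_zpowers ht ?_
  obtain ⟨a, b, hab⟩ := he
  obtain ⟨i, hi⟩ := hg (Units.mk0 t ht)
  refine ⟨a * i, ?_⟩
  simp only at hi ⊢
  rw [← hi, ← zpow_mul, ← orderOf_unit_gen hg] at *
  rw [show e * (a * i) = i + (orderOf g : ℤ) * (-b * i) by linear_combination i * hab, zpow_add, zpow_mul _ (orderOf g : ℤ),
    zpow_natCast, pow_orderOf_eq_one, one_zpow, mul_one]

theorem pow_of_fixed {g : Fˣ} (hg : ∀ x : Fˣ, x ∈ Subgroup.zpowers g) {q S : ℕ} (hq : 2 ≤ q)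
    (hS : S * (q - 1) = Fintype.card F - 1) {t : F} (ht : t ≠ 0) (hfix : t ^ q = t) {e : ℤ}
    (he : e = 1 ∨ e = -1) : ∃ m : ℕ, t = ((g ^ ((S : ℤ) * e) : Fˣ) : F) ^ m := by
  refine pow_of_zpowers ht ?_
  obtain ⟨i, hi⟩ := hg (Units.mk0 t ht)
  simp only at hi
  have h1 : (Units.mk0 t ht) ^ (q - 1) = 1 := by
    refine Units.ext (mul_right_cancel₀ ht ?_)
    rw [Units.val_pow_eq_pow_val, Units.val_mk0, Units.val_one, one_mul, ← pow_succ, show q - 1 + 1 = q by omega, hfix]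
  rw [← hi, ← zpow_natCast, ← zpow_mul, ← orderOf_dvd_iff_zpow_eq_one, orderOf_unit_gen hg, ← hS] at h1
  push_cast at h1
  obtain ⟨c, hc⟩ := Int.dvd_of_mul_dvd_mul_right (by omega : ((q - 1 : ℕ) : ℤ) ≠ 0) h1
  refine ⟨c * e, ?_⟩
  simp only
  rw [← hi, ← zpow_mul]
  congr 1
  rcases he with rfl | rfl <;> rw [hc] <;> ring

theorem unit_sq_ne_one {g : Fˣ} (hg : ∀ x : Fˣ, x ∈ Subgroup.zpowers g) (hF : 4 ≤ Fintype.card F) :
    (g : F) ^ 2 ≠ 1 := by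
  intro h
  have h2 : g ^ 2 = 1 := Units.ext (by simpa using h)
  have := Nat.le_of_dvd two_pos (orderOf_dvd_of_pow_eq_one h2)
  rw [orderOf_unit_gen hg] at this
  omega

theorem ne_one_of_powers {g : Fˣ} (hg : ∀ x : Fˣ, x ∈ Subgroup.zpowers g) (hF : 4 ≤ Fintype.card F) {μ : F}
    (h : ∀ t : F, t ≠ 0 → ∃ m : ℕ, t = μ ^ m) : μ ≠ 1 := by
  intro hμ
  obtain ⟨m, hm⟩ := h (g : F) g.ne_zero
  apply unit_sq_ne_one hg hF
  rw [hm, hμ, one_pow, one_pow]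

end Cfsg.Agent.TwoGen
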