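import Cfsg.Agent.Lib.ClassicalSimple.UnitarySimple
import Cfsg.Agent.Lib.CurtisTits.Signed

/-!
Root, monomial and torus elements for hyperbolic pairs in a unitary space.
-/

set_option autoImplicit false

namespace Cfsg.Agent.TwoGen

open Cfsg.Agent.CurtisTits Cfsg.Agent.CurtisTits.DType
open Cfsg.Agent.ClassicalSimple

variable {F V : Type*} [Field F] [AddCommGroup V] [Module F V] [FiniteDimensional F V]
  {σ : F →+* F} {h : V →ₛₗ[σ] V →ₗ[F] F}

open scoped Classical in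
/-- The root element, totalised. -/
noncomputable def uR (hh : IsUnitaryForm σ h) (u w : V) (s : F) : UH h :=
  if e : h u u = 0 ∧ h u w = 0 ∧ s + σ s + h w w = 0 then uRootElt hh u w s e.1 e.2.1 e.2.2 else 1

variable (hh : IsUnitaryForm σ h)

theorem uR_smul {u w : V} {s : F} (hu : h u u = 0) (hw : h u w = 0) (hs : s + σ s + h w w = 0) (x : V) :
    uR hh u w s • x = x + h u x • w + (s * h u x - h w x) • u := by
  rw [uR, dif_pos ⟨hu, hw, hs⟩, uRootElt_smul]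

theorem uR_of_not {u w : V} {s : F} (e : ¬ (h u u = 0 ∧ h u w = 0 ∧ s + σ s + h w w = 0)) :
    uR hh u w s = 1 := by rw [uR, dif_neg e]

theorem uR_mem_root (u w : V) (s : F) : uR hh u w s ∈ uRootGroup hh := by
  rw [uR]
  split_ifs
  · exact uRootElt_mem hh _ _ _
  · exact one_mem _

theorem uR_mul {u w w' : V} {s s' : F} (hu : h u u = 0) (hw : h u w = 0) (hs : s + σ s + h w w = 0)
    (hw' : h u w' = 0) (hs' : s' + σ s' + h w' w' = 0) :
    uR hh u w s * uR hh u w' s' = uR hh u (w + w') (s + s' - h w w') := by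
  rw [uR, dif_pos ⟨hu, hw, hs⟩, uR, dif_pos ⟨hu, hw', hs'⟩, uRootElt_mul, uR,
    dif_pos ⟨hu, by rw [map_add, hw, hw', add_zero], by simp [← hh.swap]; linear_combination hs + hs'⟩]

theorem uR_zero (u : V) : uR hh u 0 0 = 1 := by
  refine UH.ext' fun x => ?_
  by_cases e : h u u = 0
  · rw [uR_smul hh e (map_zero _) (by simp)]; simp
  · rw [uR_of_not hh fun e' => e e'.1]

theorem uR_inv {u w : V} {s : F} (hu : h u u = 0) (hw : h u w = 0) (hs : s + σ s + h w w = 0) :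
    (uR hh u w s)⁻¹ = uR hh u (-w) (σ s) := by
  rw [uR, dif_pos ⟨hu, hw, hs⟩, uRootElt_inv, uR,
    dif_pos ⟨hu, by rw [map_neg, hw, neg_zero], by simp [hh.invol]; linear_combination hs⟩]

theorem uR_conj (g : UH h) (u w : V) (s : F) : g * uR hh u w s * g⁻¹ = uR hh (g • u) (g • w) s := by
  by_cases e : h u u = 0 ∧ h u w = 0 ∧ s + σ s + h w w = 0
  · rw [uR, dif_pos e, uRootElt_conj, uR, dif_pos (by simpa only [uh_smul_smul] using e)]
  · rw [uR_of_not hh e, uR_of_not hh (by simpa only [uh_smul_smul] using e), mul_one, mul_inv_cancel]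

theorem uR_scale {u w : V} {s c : F} (hu : h u u = 0) (hw : h u w = 0) (hs : s + σ s + h w w = 0) :
    uR hh (c • u) w s = uR hh u (σ c • w) (σ c * c * s) := by
  refine UH.ext' fun x => ?_
  rw [uR_smul hh (by simp [hu]) (by simp [hw]) hs, uR_smul hh hu (by simp [hw]) (by
    simp [map_mul, hh.invol]; linear_combination (σ c * c) * hs)]
  simp only [map_smulₛₗ, LinearMap.smul_apply, smul_eq_mul, hh.invol]
  module

/-- Hyperbolic pairs. -/
structure UFrame (σ : F →+* F) (h : V →ₛₗ[σ] V →ₗ[F] F) (m : ℕ) where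
  /-- The vectors. -/
  ev : SIdx m → V
  pair : ∀ a b, h (ev a) (ev b) = if b = ng a then 1 else 0

namespace UFrame

variable {m : ℕ} (φ : UFrame σ h m)

/-- Orthogonality to all pairs. -/
def Perp (w : V) : Prop := ∀ a, h (φ.ev a) w = 0

/-- The projection to the orthogonal of the pairs. -/
noncomputable def proj (x : V) : V := x - ∑ a, h (φ.ev (ng a)) x • φ.ev a

theorem pair_ng (a : SIdx m) : h (φ.ev a) (φ.ev (ng a)) = 1 := by rw [φ.pair, if_pos rfl]

theorem pair_ng' (a : SIdx m) : h (φ.ev (ng a)) (φ.ev a) = 1 := by rw [φ.pair, if_pos (ng_ng a).symm]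

theorem pair_zero {a b : SIdx m} (e : b ≠ ng a) : h (φ.ev a) (φ.ev b) = 0 := by rw [φ.pair, if_neg e]

theorem pair_self (a : SIdx m) : h (φ.ev a) (φ.ev a) = 0 := φ.pair_zero (ng_ne a).symm

theorem pair_lv {a b : SIdx m} (e : lv a ≠ lv b) : h (φ.ev a) (φ.ev b) = 0 :=
  φ.pair_zero fun e' => e (by rw [e', lv_ng])

theorem perp_proj (x : V) : φ.Perp (φ.proj x) := fun b => by
  rw [proj, map_sub, map_sum, Finset.sum_eq_single (ng b) (fun a _ ha => by simp [φ.pair, show a ≠ ng b from ha])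
    (by simp)]
  simp [φ.pair, ng_ng]

theorem decomp (x : V) : ∑ a, h (φ.ev (ng a)) x • φ.ev a + φ.proj x = x := by rw [proj]; abel

/-- The short root element. -/
noncomputable def E (a b : SIdx m) (t : F) : UH h := uR hh (φ.ev a) (-σ t • φ.ev (ng b)) 0

variable {hh}

theorem E_side {a b : SIdx m} (e : lv a ≠ lv b) (r : F) :
    h (φ.ev a) (r • φ.ev (ng b)) = 0 ∧ (0 : F) + σ 0 + h (r • φ.ev (ng b)) (r • φ.ev (ng b)) = 0 :=
  ⟨by rw [map_smul, φ.pair_lv (by rwa [lv_ng]), smul_zero], by simp [φ.pair_self]⟩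

theorem E_add {a b : SIdx m} (e : lv a ≠ lv b) (t u : F) : φ.E hh a b t * φ.E hh a b u = φ.E hh a b (t + u) := by
  rw [E, E, E, uR_mul hh (φ.pair_self a) (φ.E_side e _).1 (φ.E_side e _).2 (φ.E_side e _).1 (φ.E_side e _).2,
    ← add_smul, map_add, neg_add]
  congr 1
  simp [φ.pair_self]

theorem E_zero (a b : SIdx m) : φ.E hh a b 0 = 1 := by rw [E, map_zero, neg_zero, zero_smul, uR_zero]

theorem E_inv {a b : SIdx m} (e : lv a ≠ lv b) (t : F) : (φ.E hh a b t)⁻¹ = φ.E hh a b (-t) :=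
  inv_eq_of_mul_eq_one_right (by rw [φ.E_add e, add_neg_cancel, φ.E_zero])

theorem smul_E {a b : SIdx m} (e : lv a ≠ lv b) (t : F) (x : V) :
    φ.E hh a b t • x = x + (-σ t * h (φ.ev a) x) • φ.ev (ng b) + (t * h (φ.ev (ng b)) x) • φ.ev a := by
  rw [E, uR_smul hh (φ.pair_self a) (φ.E_side e _).1 (φ.E_side e _).2]
  simp only [map_smulₛₗ, LinearMap.smul_apply, smul_eq_mul, map_neg, hh.invol]
  module

theorem smul_E_perp {a b : SIdx m} (e : lv a ≠ lv b) (t : F) {w : V} (hw : φ.Perp w) :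
    φ.E hh a b t • w = w := by
  rw [φ.smul_E e, hw a, hw (ng b)]; simp

theorem smul_E_ev {a b c : SIdx m} (e : lv a ≠ lv b) (t : F) (h1 : c ≠ b) (h2 : c ≠ ng a) :
    φ.E hh a b t • φ.ev c = φ.ev c := by
  rw [φ.smul_E e, φ.pair_zero h2, φ.pair_zero (show c ≠ ng (ng b) by rwa [ng_ng])]; simp

theorem smul_E_right {a b : SIdx m} (e : lv a ≠ lv b) (t : F) :
    φ.E hh a b t • φ.ev b = φ.ev b + t • φ.ev a := by
  rw [φ.smul_E e, φ.pair_zero (fun e' => e (by rw [e', lv_ng])), φ.pair_ng']; simp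

theorem conj_E {g : UH h} {a b a' b' : SIdx m} (e' : lv a' ≠ lv b') {α β : F}
    (ha : g • φ.ev a = α • φ.ev a') (hb : g • φ.ev (ng b) = β • φ.ev (ng b')) (t : F) :
    g * φ.E hh a b t * g⁻¹ = φ.E hh a' b' (α * σ β * t) := by
  rw [E, E, uR_conj, smul_comm g, ha, hb, smul_smul,
    uR_scale hh (φ.pair_self a') (φ.E_side e' _).1 (φ.E_side e' _).2, mul_zero, smul_smul]
  congr 2
  simp only [map_mul, hh.invol]
  ring

theorem E_symm {a b : SIdx m} (e : lv a ≠ lv b) (t : F) : φ.E hh (ng b) (ng a) t = φ.E hh a b (-σ t) := by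
  refine UH.ext' fun x => ?_
  rw [φ.smul_E (by rw [lv_ng, lv_ng]; exact e.symm), φ.smul_E e, ng_ng, map_neg, hh.invol, neg_neg]
  module

theorem E_chain {a b c : SIdx m} (h1 : lv a ≠ lv b) (h2 : lv b ≠ lv c) (h3 : lv a ≠ lv c) (t u : F) :
    φ.E hh a b t * φ.E hh b c u * (φ.E hh a b t)⁻¹ = φ.E hh b c u * φ.E hh a c (t * u) := by
  have n1 := lv_ne.1 h1
  have n2 := lv_ne.1 h2
  have n3 := lv_ne.1 h3
  have hc : φ.E hh a b t • φ.ev (ng c) = φ.ev (ng c) :=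
    φ.smul_E_ev h1 t (fun e => h2 (by rw [← e, lv_ng])) (fun e => h3 (by rw [← lv_ng a, ← e, lv_ng]))
  rw [E, E, uR_conj, ← E, ← E, smul_comm (φ.E hh a b t), φ.smul_E_right h1, hc]
  refine UH.ext' fun x => ?_
  have hv : h (φ.ev b + t • φ.ev a) (φ.ev b + t • φ.ev a) = 0 := by
    simp [φ.pair_self, φ.pair_lv h1, φ.pair_lv h1.symm]
  rw [uR_smul hh hv (by simp [φ.pair_lv (show lv b ≠ lv (ng c) by rwa [lv_ng]),
    φ.pair_lv (show lv a ≠ lv (ng c) by rwa [lv_ng])]) (by simp [φ.pair_self]), mul_smul, φ.smul_E h3,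
    φ.smul_E h2]
  simp only [map_add, map_smul, map_smulₛₗ, LinearMap.add_apply, LinearMap.smul_apply, smul_eq_mul,
    map_neg, map_mul, hh.invol, φ.pair_self, φ.pair_lv h1.symm, φ.pair_lv (show lv b ≠ lv (ng c) by rwa [lv_ng]),
    φ.pair_lv (show lv (ng c) ≠ lv a by rw [lv_ng]; exact h3.symm)]
  module

/-- The short monomial element. -/
noncomputable def nW (hh : IsUnitaryForm σ h) (a b : SIdx m) (t : F) : UH h :=
  φ.E hh a b t * φ.E hh b a (-t⁻¹) * φ.E hh a b t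

theorem smul_nW_right {a b : SIdx m} (e : lv a ≠ lv b) {t : F} (ht : t ≠ 0) :
    φ.nW hh a b t • φ.ev b = t • φ.ev a := by
  have hab : a ≠ b := fun e' => e (by rw [e'])
  have hb : b ≠ ng b := (ng_ne b).symm
  have ha : a ≠ ng a := (ng_ne a).symm
  simp only [nW, mul_smul, φ.smul_E_right e, smul_add, smul_comm (_ : UH h) (_ : F) (_ : V),
    φ.smul_E_right e.symm, φ.smul_E_ev e.symm _ hab.symm hb, φ.smul_E_ev e _ hab ha]
  match_scalars <;> field_simp <;> ring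

theorem smul_nW_left {a b : SIdx m} (e : lv a ≠ lv b) {t : F} (ht : t ≠ 0) :
    φ.nW hh a b t • φ.ev a = (-t⁻¹) • φ.ev b := by
  have hab : a ≠ b := fun e' => e (by rw [e'])
  have hb : b ≠ ng b := (ng_ne b).symm
  have ha : a ≠ ng a := (ng_ne a).symm
  simp only [nW, mul_smul, φ.smul_E_right e, smul_add, smul_comm (_ : UH h) (_ : F) (_ : V),
    φ.smul_E_right e.symm, φ.smul_E_ev e _ hab ha]
  match_scalars <;> field_simp <;> ring

theorem nW_symm {a b : SIdx m} (e : lv a ≠ lv b) (t : F) : φ.nW hh (ng b) (ng a) (-σ t) = φ.nW hh a b t := by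
  rw [nW, nW, φ.E_symm e, φ.E_symm e.symm]
  simp only [map_neg, map_inv₀, hh.invol, inv_neg, neg_neg]

theorem smul_nW_ng_left {a b : SIdx m} (e : lv a ≠ lv b) {t : F} (ht : t ≠ 0) :
    φ.nW hh a b t • φ.ev (ng a) = (-σ t) • φ.ev (ng b) := by
  rw [← φ.nW_symm e, φ.smul_nW_right (by rw [lv_ng, lv_ng]; exact e.symm) (by simpa using ht)]

theorem smul_nW_ng_right {a b : SIdx m} (e : lv a ≠ lv b) {t : F} (ht : t ≠ 0) :
    φ.nW hh a b t • φ.ev (ng b) = (σ t)⁻¹ • φ.ev (ng a) := by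
  rw [← φ.nW_symm e, φ.smul_nW_left (by rw [lv_ng, lv_ng]; exact e.symm) (by simpa using ht), inv_neg, neg_neg]

theorem smul_nW_ev {a b c : SIdx m} (e : lv a ≠ lv b) (t : F) (h1 : lv c ≠ lv a) (h2 : lv c ≠ lv b) :
    φ.nW hh a b t • φ.ev c = φ.ev c := by
  have ha := lv_ne.1 h1
  have hb := lv_ne.1 h2
  simp only [nW, mul_smul, φ.smul_E_ev e _ hb.1 ha.2, φ.smul_E_ev e.symm _ ha.1 hb.2]

theorem smul_nW_perp {a b : SIdx m} (e : lv a ≠ lv b) (t : F) {w : V} (hw : φ.Perp w) :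
    φ.nW hh a b t • w = w := by
  simp only [nW, mul_smul, φ.smul_E_perp e _ hw, φ.smul_E_perp e.symm _ hw]

theorem nW_mem_root (a b : SIdx m) (t : F) : φ.nW hh a b t ∈ uRootGroup hh :=
  mul_mem (mul_mem (uR_mem_root hh _ _ _) (uR_mem_root hh _ _ _)) (uR_mem_root hh _ _ _)

/-- The short torus element. -/
noncomputable def hW (hh : IsUnitaryForm σ h) (a b : SIdx m) (c : F) : UH h :=
  φ.nW hh a b c * φ.nW hh a b (-1)

theorem smul_hW {a b : SIdx m} (e : lv a ≠ lv b) {c : F} (hc : c ≠ 0) :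
    φ.hW hh a b c • φ.ev a = c • φ.ev a ∧ φ.hW hh a b c • φ.ev (ng a) = (σ c)⁻¹ • φ.ev (ng a) ∧
      φ.hW hh a b c • φ.ev b = c⁻¹ • φ.ev b ∧ φ.hW hh a b c • φ.ev (ng b) = σ c • φ.ev (ng b) := by
  have h1 : (-1 : F) ≠ 0 := by simp
  refine ⟨?_, ?_, ?_, ?_⟩
  · rw [hW, mul_smul, φ.smul_nW_left e h1, smul_comm (φ.nW hh a b c), φ.smul_nW_right e hc, smul_smul]; simp
  · rw [hW, mul_smul, φ.smul_nW_ng_left e h1, smul_comm (φ.nW hh a b c), φ.smul_nW_ng_right e hc, smul_smul]; simp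
  · rw [hW, mul_smul, φ.smul_nW_right e h1, smul_comm (φ.nW hh a b c), φ.smul_nW_left e hc, smul_smul]; simp
  · rw [hW, mul_smul, φ.smul_nW_ng_right e h1, smul_comm (φ.nW hh a b c), φ.smul_nW_ng_left e hc, smul_smul]; simp

theorem smul_hW_ev {a b d : SIdx m} (e : lv a ≠ lv b) (c : F) (h1 : lv d ≠ lv a) (h2 : lv d ≠ lv b) :
    φ.hW hh a b c • φ.ev d = φ.ev d := by
  rw [hW, mul_smul, φ.smul_nW_ev e _ h1 h2, φ.smul_nW_ev e _ h1 h2]

theorem smul_hW_perp {a b : SIdx m} (e : lv a ≠ lv b) (c : F) {w : V} (hw : φ.Perp w) :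
    φ.hW hh a b c • w = w := by
  rw [hW, mul_smul, φ.smul_nW_perp e _ hw, φ.smul_nW_perp e _ hw]

/-- The long monomial element. -/
noncomputable def lW (hh : IsUnitaryForm σ h) (a : SIdx m) (s : F) : UH h :=
  uR hh (φ.ev a) 0 s * uR hh (φ.ev (ng a)) 0 (-s⁻¹) * uR hh (φ.ev a) 0 s

theorem smul_T (a : SIdx m) {s : F} (hs : s + σ s = 0) (x : V) :
    uR hh (φ.ev a) 0 s • x = x + (s * h (φ.ev a) x) • φ.ev a := by
  rw [uR_smul hh (φ.pair_self a) (map_zero _) (by simpa using hs)]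
  simp

theorem skew_inv {s : F} (hs : s + σ s = 0) : -s⁻¹ + σ (-s⁻¹) = 0 := by
  rw [map_neg, map_inv₀, eq_neg_of_add_eq_zero_right hs, inv_neg, neg_neg, neg_add_cancel]

theorem smul_lW {a : SIdx m} {s : F} (hs : s + σ s = 0) (hs0 : s ≠ 0) :
    φ.lW hh a s • φ.ev a = (-s⁻¹) • φ.ev (ng a) ∧ φ.lW hh a s • φ.ev (ng a) = s • φ.ev a := by
  constructor <;>
  · simp only [lW, mul_smul, φ.smul_T _ hs, φ.smul_T _ (skew_inv hs), smul_add, smul_comm (_ : UH h) (_ : F) (_ : V),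
      φ.pair_self, φ.pair_ng, φ.pair_ng', mul_zero, mul_one, zero_smul, add_zero, map_add, map_smul, smul_eq_mul]
    match_scalars <;> field_simp <;> ring

theorem smul_lW_ev {a c : SIdx m} {s : F} (hs : s + σ s = 0) (e : lv c ≠ lv a) :
    φ.lW hh a s • φ.ev c = φ.ev c := by
  simp [lW, mul_smul, φ.smul_T _ hs, φ.smul_T _ (skew_inv hs), φ.pair_lv e.symm,
    φ.pair_lv (show lv (ng a) ≠ lv c by rw [lv_ng]; exact e.symm)]

theorem smul_lW_perp {a : SIdx m} {s : F} (hs : s + σ s = 0) {w : V} (hw : φ.Perp w) :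
    φ.lW hh a s • w = w := by
  simp [lW, mul_smul, φ.smul_T _ hs, φ.smul_T _ (skew_inv hs), hw a, hw (ng a)]

theorem lW_mem_root (a : SIdx m) (s : F) : φ.lW hh a s ∈ uRootGroup hh :=
  mul_mem (mul_mem (uR_mem_root hh _ _ _) (uR_mem_root hh _ _ _)) (uR_mem_root hh _ _ _)

end UFrame

end Cfsg.Agent.TwoGen
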