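import Cfsg.Agent.Lib.TwoGen.UnitFrame
import Cfsg.Agent.Lib.TwoGen.OrthGen

/-!
A subgroup of a unitary group containing one root group and a signed cycle contains the special unitary group.
-/

set_option autoImplicit false

namespace Cfsg.Agent.TwoGen

open Cfsg.Agent.CurtisTits Cfsg.Agent.CurtisTits.DType
open Cfsg.Agent.ClassicalSimple

variable {F V : Type*} [Field F] [AddCommGroup V] [Module F V] [FiniteDimensional F V]
  {σ : F →+* F} {h : V →ₛₗ[σ] V →ₗ[F] F} (hh : IsUnitaryForm σ h) {H : Subgroup (UH h)}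

/-- All root elements at `u` lie in `H`. -/
def UFull (H : Subgroup (UH h)) (u : V) : Prop := ∀ w s, uR hh u w s ∈ H

theorem UFull.act {u : V} (f : UFull hh H u) {g : UH h} (hg : g ∈ H) : UFull hh H (g • u) := fun w s => by
  have := H.mul_mem (H.mul_mem hg (f (g⁻¹ • w) s)) (H.inv_mem hg)
  rwa [uR_conj, smul_inv_smul] at this

theorem UFull.smul {u : V} (f : UFull hh H u) (hu : h u u = 0) (c : F) : UFull hh H (c • u) := by
  intro w s
  by_cases e : h (c • u) (c • u) = 0 ∧ h (c • u) w = 0 ∧ s + σ s + h w w = 0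
  swap
  · rw [uR_of_not hh e]; exact one_mem _
  by_cases hc : c = 0
  · rw [show uR hh (c • u) w s = 1 from UH.ext' fun x => by
      rw [uR_smul hh e.1 e.2.1 e.2.2, one_smul]; simp [hc]]
    exact one_mem _
  · have hw : h u w = 0 := by simpa [hc] using e.2.1
    rw [uR_scale hh hu hw e.2.2]
    exact f _ _

theorem uRootGroup_le_of_full {x y : V} (hx : h x x = 0) (hy : h y y = 0) (hxy : h x y ≠ 0)
    (fx : UFull hh H x) (fy : UFull hh H y) : uRootGroup hh ≤ H := by
  have star : ∀ u v : V, h u u = 0 → h v v = 0 → h v u ≠ 0 → UFull hh H u → UFull hh H v →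
      ∀ z, h z z = 0 → h v z ≠ 0 → UFull hh H z := by
    intro u v hu hv hvu fu fv z hz hvz
    set z' := (h v u / h v z) • z with hz'
    have e1 : h v z' = h v u := by rw [hz', map_smul, smul_eq_mul, div_mul_cancel₀ _ hvz]
    have hz'z : h z' z' = 0 := by simp [hz', hz]
    set k := (h v u)⁻¹ with hk
    have hw : h v (k • (z' - u)) = 0 := by rw [map_smul, map_sub, e1, sub_self, smul_zero]
    set w := k • (z' - u) with hwdef
    have hs : k * h w u + σ (k * h w u) + h w w = 0 := by
      rw [hwdef]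
      simp only [map_smulₛₗ, map_sub, LinearMap.smul_apply, LinearMap.sub_apply, map_mul, smul_eq_mul,
        RingHom.id_apply, hu, hz'z, hh.swap u z', hh.invol, map_zero]
      ring
    have e : uR hh v w (k * h w u) • u = z' := by
      rw [uR_smul hh hv hw hs, show k * h w u * h v u = h w u by
        rw [mul_right_comm, hk, inv_mul_cancel₀ hvu, one_mul], sub_self, zero_smul, add_zero, hwdef, smul_smul,
        hk, mul_inv_cancel₀ hvu, one_smul, add_sub_cancel]
    have fz' := fu.act hh (fv w (k * h w u))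
    rw [e] at fz'
    have : z = (h v u / h v z)⁻¹ • z' := by
      rw [hz', smul_smul, inv_mul_cancel₀ (div_ne_zero hvu hvz), one_smul]
    rw [this]
    exact fz'.smul hh hz'z _
  have hx0 : x ≠ 0 := fun e => hxy (by simp [e])
  have all : ∀ z, h z z = 0 → UFull hh H z := by
    intro z hz
    by_cases hz0 : z = 0
    · intro w s
      rw [show uR hh z w s = 1 from UH.ext' fun t => by
        by_cases e : h z z = 0 ∧ h z w = 0 ∧ s + σ s + h w w = 0
        · rw [uR_smul hh e.1 e.2.1 e.2.2, one_smul]; simp [hz0]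
        · rw [uR_of_not hh e]]
      exact one_mem _
    obtain ⟨w, hw, hxw, hzw⟩ := unitary_exists_nonorth hh hx0 hz0 hx hz
    have fw := star y x hy hx hxy fy fx w hw hxw
    exact star x w hx hw (fun e => hxw (hh.comm_zero e)) fx fw z hz (fun e => hzw (hh.comm_zero e))
  rw [uRootGroup, Subgroup.closure_le]
  rintro _ ⟨u, w, a, hu, hw, ha, rfl⟩
  have := all u hu w a
  rwa [uR, dif_pos ⟨hu, hw, ha⟩] at this

namespace UFrame

variable {m : ℕ} (φ : UFrame σ h m)

/-- `H` contains the short root group. -/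
def Whole (H : Subgroup (UH h)) (a b : SIdx m) : Prop := ∀ t : F, φ.E hh a b t ∈ H

/-- `H` contains the transvection group. -/
def WholeT (H : Subgroup (UH h)) (a : SIdx m) : Prop := ∀ s : F, s + σ s = 0 → uR hh (φ.ev a) 0 s ∈ H

/-- The vectors occurring in root elements of `H` at a basis vector, with all multiples. -/
noncomputable def ySub (H : Subgroup (UH h)) (a : SIdx m) : Submodule F V where
  carrier := {w | h (φ.ev a) w = 0 ∧
    ∀ c : F, ∃ s, s + σ s + h (c • w) (c • w) = 0 ∧ uR hh (φ.ev a) (c • w) s ∈ H}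
  zero_mem' := ⟨map_zero _, fun c => ⟨0, by simp, by rw [smul_zero, uR_zero]; exact one_mem _⟩⟩
  add_mem' {w w'} e e' := ⟨by rw [map_add, e.1, e'.1, add_zero], fun c => by
    obtain ⟨s, hs, hm⟩ := e.2 c
    obtain ⟨s', hs', hm'⟩ := e'.2 c
    have hw : h (φ.ev a) (c • w) = 0 := by rw [map_smul, e.1, smul_zero]
    have hw' : h (φ.ev a) (c • w') = 0 := by rw [map_smul, e'.1, smul_zero]
    refine ⟨s + s' - h (c • w) (c • w'), ?_, ?_⟩
    · rw [smul_add, map_sub, map_add, ← hh.swap]
      simp only [map_add, LinearMap.add_apply]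
      linear_combination hs + hs'
    · rw [smul_add, ← uR_mul hh (φ.pair_self a) hw hs hw' hs']
      exact mul_mem hm hm'⟩
  smul_mem' r w e := ⟨by rw [map_smul, e.1, smul_zero], fun c => by rw [smul_smul]; exact e.2 _⟩

variable {hh} {φ}

theorem Whole.symm_ng {a b : SIdx m} (e : lv a ≠ lv b) (w : φ.Whole hh H a b) : φ.Whole hh H (ng b) (ng a) :=
  fun t => by rw [φ.E_symm e]; exact w _

theorem Whole.chain {a b c : SIdx m} (h1 : lv a ≠ lv b) (h2 : lv b ≠ lv c) (h3 : lv a ≠ lv c)
    (ha : φ.Whole hh H a b) (hb : φ.Whole hh H b c) : φ.Whole hh H a c := by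
  intro t
  have := H.mul_mem (H.inv_mem (hb 1)) (H.mul_mem (H.mul_mem (ha t) (hb 1)) (H.inv_mem (ha t)))
  rwa [φ.E_chain h1 h2 h3, inv_mul_cancel_left, mul_one] at this

theorem wholeT_of_ySub {a : SIdx m} {w w' : V} (e : w ∈ φ.ySub hh H a) (e' : w' ∈ φ.ySub hh H a)
    (hne : h w' w ≠ 0) : φ.WholeT hh H a := by
  intro r hr
  obtain ⟨d, hd⟩ := hh.exists_trace_one
  set x := d * r / h w' w with hx
  obtain ⟨s, hs, hm⟩ := e.2 x
  obtain ⟨s', hs', hm'⟩ := e'.2 1
  rw [one_smul] at hs' hm'
  have hw : h (φ.ev a) (x • w) = 0 := by rw [map_smul, e.1, smul_zero]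
  have hu := φ.pair_self a
  have key : uR hh (φ.ev a) (x • w) s * uR hh (φ.ev a) w' s' *
      (uR hh (φ.ev a) w' s' * uR hh (φ.ev a) (x • w) s)⁻¹ = uR hh (φ.ev a) 0 r := by
    have hsum : h (φ.ev a) (w' + x • w) = 0 := by rw [map_add, hw, e'.1, add_zero]
    have hsum' : s' + s - h w' (x • w) + σ (s' + s - h w' (x • w)) + h (w' + x • w) (w' + x • w) = 0 := by
      rw [map_sub, map_add, ← hh.swap]
      simp only [map_add, LinearMap.add_apply]
      linear_combination hs + hs'
    have hσ : σ (h w' w) = h w w' := (hh.swap w' w).symm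
    have hd' : σ d = 1 - d := by linear_combination hd
    have hr' : σ r = -r := eq_neg_of_add_eq_zero_right hr
    rw [uR_mul hh hu hw hs e'.1 hs', uR_mul hh hu e'.1 hs' hw hs, mul_inv_eq_iff_eq_mul,
      uR_mul hh hu (map_zero _) (by simpa using hr) hsum hsum', zero_add, map_zero, LinearMap.zero_apply, sub_zero,
      add_comm (x • w) w']
    congr 1
    simp only [map_smulₛₗ, LinearMap.smul_apply, smul_eq_mul, RingHom.id_apply]
    rw [hx, map_div₀, map_mul, hσ, hd', hr']
    have : h w w' ≠ 0 := fun e0 => hne (hh.comm_zero e0)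
    field_simp
    ring
  rw [← key]
  exact H.mul_mem (H.mul_mem hm hm') (H.inv_mem (H.mul_mem hm' hm))

theorem exists_sigC_iterate (hm : 0 < m) (a : SIdx m) : ∃ k : ℕ, sigC^[k] (Sum.inl ⟨0, hm⟩) = a := by
  rcases a with i | i
  · refine ⟨i.val, ?_⟩
    rw [sigC_iterate_inl _ _ (show 0 + i.val < m by have := i.isLt; omega)]
    simp
  · refine ⟨m + i.val, ?_⟩
    rw [Function.iterate_add_apply, sigC_iterate_inl _ _ (show 0 + i.val < m by have := i.isLt; omega), sigC_pow_m]
    simp [ng]

theorem full_of_ySub {a : SIdx m} (hT : φ.WholeT hh H a) (hY : ∀ w, h (φ.ev a) w = 0 → w ∈ φ.ySub hh H a) :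
    UFull hh H (φ.ev a) := by
  intro w s
  by_cases e : h (φ.ev a) (φ.ev a) = 0 ∧ h (φ.ev a) w = 0 ∧ s + σ s + h w w = 0
  swap
  · rw [uR_of_not hh e]; exact one_mem _
  obtain ⟨s0, hs0, hm0⟩ := (hY w e.2.1).2 1
  rw [one_smul] at hs0 hm0
  have := H.mul_mem (hT (s - s0) (by rw [map_sub]; linear_combination e.2.2 - hs0)) hm0
  rw [uR_mul hh e.1 (map_zero _) (by simp; linear_combination e.2.2 - hs0) e.2.1 hs0, zero_add, map_zero,
    LinearMap.zero_apply, sub_zero, sub_add_cancel] at this
  exact this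

/-- The generation criterion. -/
theorem root_le_of_cycle (hm : 0 < m) {N : UH h} (hNH : N ∈ H)
    (hNm : ∀ a, ∃ α : F, α ≠ 0 ∧ N • φ.ev a = α • φ.ev (sigC a)) (hNp : ∀ w, φ.Perp w → N • w = w)
    (hcase : (∃ h1 : 1 < m, φ.Whole hh H (.inl ⟨0, hm⟩) (.inl ⟨1, h1⟩) ∧ ∀ w, φ.Perp w → w = 0) ∨
      ∃ w0, φ.Perp w0 ∧ h w0 w0 ≠ 0 ∧ w0 ∈ φ.ySub hh H (.inl ⟨0, hm⟩) ∧ ∀ w, φ.Perp w → ∃ r : F, w = r • w0) :
    uRootGroup hh ≤ H := by
  set i0 : Fin m := ⟨0, hm⟩
  have lvne : ∀ {x y : Fin m}, x.val ≠ y.val → lv (Sum.inl x : SIdx m) ≠ lv (Sum.inl y) :=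
    fun ne e => ne (congrArg Fin.val e)
  have cW : ∀ {a b : SIdx m}, lv a ≠ lv b → φ.Whole hh H a b → φ.Whole hh H (sigC a) (sigC b) := by
    intro a b e w t
    obtain ⟨α, hα, ea⟩ := hNm a
    obtain ⟨β, hβ, eb⟩ := hNm (ng b)
    rw [sigC_ng] at eb
    have hβ' : σ β ≠ 0 := (map_ne_zero σ).2 hβ
    rw [show t = α * σ β * (t / (α * σ β)) by field_simp, ← φ.conj_E (sigC_lv_ne e) ea eb]
    exact mul_mem (mul_mem hNH (w _)) (inv_mem hNH)
  have cWn : ∀ (n : ℕ) {a b : SIdx m}, lv a ≠ lv b →
      φ.Whole hh H a b → lv (sigC^[n] a) ≠ lv (sigC^[n] b) ∧ φ.Whole hh H (sigC^[n] a) (sigC^[n] b) := by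
    intro n
    induction n with
    | zero => intro a b e w; exact ⟨e, w⟩
    | succ n ih =>
      intro a b e w
      obtain ⟨e', w'⟩ := ih e w
      rw [Function.iterate_succ', Function.comp_apply, Function.comp_apply]
      exact ⟨sigC_lv_ne e', cW e' w'⟩
  -- all short root groups
  have allW : ∀ {a b : SIdx m}, lv a ≠ lv b → φ.Whole hh H a b := by
    rcases hcase with ⟨h1, w01, -⟩ | ⟨w0, hw0, hne, hy0, -⟩
    · set i1 : Fin m := ⟨1, h1⟩
      set il : Fin m := ⟨m - 1, by omega⟩
      have h01 : lv (Sum.inl i0 : SIdx m) ≠ lv (Sum.inl i1) := lvne (by simp [i0, i1])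
      have negW : ∀ {a b : SIdx m}, lv a ≠ lv b → φ.Whole hh H a b → φ.Whole hh H (ng a) (ng b) :=
        fun {a b} e w => by have := (cWn m e w).2; rwa [sigC_pow_m, sigC_pow_m] at this
      have flip : ∀ {a b : SIdx m}, lv a ≠ lv b → φ.Whole hh H a b → φ.Whole hh H b a := fun {a b} e w => by
        have := (negW e w).symm_ng (by rwa [lv_ng, lv_ng])
        rwa [ng_ng, ng_ng] at this
      have adj : ∀ n : ℕ, ∀ hn : n + 1 < m, φ.Whole hh H (.inl ⟨n, by omega⟩) (.inl ⟨n + 1, hn⟩) := by
        intro n hn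
        have := (cWn n h01 w01).2
        rwa [sigC_iterate_inl i0 n (show 0 + n < m by omega), sigC_iterate_inl i1 n (show 1 + n < m by omega),
          show (⟨i0.val + n, _⟩ : Fin m) = ⟨n, by omega⟩ from Fin.ext (show 0 + n = n by omega),
          show (⟨i1.val + n, _⟩ : Fin m) = ⟨n + 1, hn⟩ from Fin.ext (show 1 + n = n + 1 by omega)] at this
      have up : ∀ d n : ℕ, ∀ hn : n + d + 1 < m, φ.Whole hh H (.inl ⟨n, by omega⟩) (.inl ⟨n + d + 1, hn⟩) := by
        intro d
        induction d with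
        | zero => intro n hn; exact adj n hn
        | succ d ih =>
          intro n hn
          exact (ih n (by omega)).chain (lvne (by simp; omega)) (lvne (by simp)) (lvne (by simp; omega))
            (adj (n + d + 1) (by omega))
      have pp : ∀ {x y : Fin m}, x.val ≠ y.val → φ.Whole hh H (.inl x) (.inl y) := by
        intro x y hxy
        rcases lt_or_gt_of_ne hxy with e | e
        · obtain ⟨d, hd⟩ := Nat.exists_eq_add_of_lt e
          rw [show y = ⟨x.val + d + 1, by omega⟩ from Fin.ext hd]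
          exact up d x.val _
        · obtain ⟨d, hd⟩ := Nat.exists_eq_add_of_lt e
          refine flip (lvne (Ne.symm hxy)) ?_
          rw [show x = ⟨y.val + d + 1, by omega⟩ from Fin.ext hd]
          exact up d y.val _
      have hl0 : lv (Sum.inl il : SIdx m) ≠ lv (Sum.inr i0) := fun e => by
        have := congrArg Fin.val e; simp [il, i0, lv] at this; omega
      have wl0 : φ.Whole hh H (.inl il) (.inr i0) := by
        have := cW (lvne (show m - 2 ≠ m - 1 by omega)) (pp (x := ⟨m - 2, by omega⟩) (y := il) (by simp [il]; omega))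
        rwa [show sigC (Sum.inl ⟨m - 2, by omega⟩ : SIdx m) = Sum.inl il from
            (dif_pos (show m - 2 + 1 < m by omega)).trans
              (congrArg Sum.inl (Fin.ext (show m - 2 + 1 = m - 1 by omega))),
          show sigC (Sum.inl il : SIdx m) = Sum.inr i0 from dif_neg (show ¬ m - 1 + 1 < m by omega)] at this
      have pn0 : ∀ {x : Fin m}, x.val ≠ 0 → φ.Whole hh H (.inl x) (.inr i0) := by
        intro x hx0
        by_cases hxl : x = il
        · rw [hxl]; exact wl0
        · exact (pp fun e => hxl (Fin.ext e)).chain (lvne fun e => hxl (Fin.ext e)) hl0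
            (fun e => hx0 (congrArg Fin.val e)) wl0
      have pn : ∀ {x y : Fin m}, x.val ≠ y.val → φ.Whole hh H (.inl x) (.inr y) := by
        intro x y hxy
        by_cases hx0 : x.val = 0
        · rw [show x = i0 from Fin.ext hx0]
          have := (pn0 (x := y) (by omega)).symm_ng (fun e => by
            have e' : y.val = i0.val := congrArg Fin.val e; simp [i0] at e'; omega)
          simpa [ng] using this
        by_cases hy0 : y.val = 0
        · rw [show y = i0 from Fin.ext hy0]; exact pn0 hx0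
        · have hx' : lv (Sum.inl x : SIdx m) ≠ lv (Sum.inr i0) := fun e => hx0 (congrArg Fin.val e :)
          have hy' : lv (Sum.inr i0 : SIdx m) ≠ lv (Sum.inr y) := fun e => hy0 (congrArg Fin.val e :).symm
          exact (pn0 hx0).chain hx' hy' (fun e => hxy (congrArg Fin.val e :))
            (negW (lvne (x := i0) (y := y) (by simp [i0]; omega)) (pp (by simp [i0]; omega)))
      intro a b e
      have hv' : (lv a).val ≠ (lv b).val := fun e' => e (Fin.ext e')
      rcases a with x | x <;> rcases b with y | y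
      · exact pp hv'
      · exact pn hv'
      · have := negW (a := .inl x) (b := .inr y) e (pn hv'); simpa [ng] using this
      · have := negW (a := .inl x) (b := .inl y) e (pp hv'); simpa [ng] using this
    · have hY : ∀ a, w0 ∈ φ.ySub hh H a := by
        intro a
        obtain ⟨k, rfl⟩ := exists_sigC_iterate hm a
        induction k with
        | zero => exact hy0
        | succ k ih =>
          rw [Function.iterate_succ', Function.comp_apply]
          obtain ⟨α, hα, ea⟩ := hNm (sigC^[k] (Sum.inl i0))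
          refine ⟨hw0 _, fun c => ?_⟩
          have hα' : σ α ≠ 0 := (map_ne_zero σ).2 hα
          obtain ⟨s, hs, hms⟩ := ih.2 (c / σ α)
          have := H.mul_mem (H.mul_mem hNH hms) (H.inv_mem hNH)
          rw [uR_conj, ea, smul_comm N, hNp w0 hw0, uR_scale hh (φ.pair_self _) (by rw [map_smul, hw0, smul_zero])
            hs, smul_smul, mul_div_cancel₀ _ hα'] at this
          refine ⟨_, ?_, this⟩
          have e : c • w0 = σ α • ((c / σ α) • w0) := by rw [smul_smul, mul_div_cancel₀ _ hα']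
          rw [e]
          simp only [map_mul, hh.invol, map_smulₛₗ, LinearMap.smul_apply, smul_eq_mul, RingHom.id_apply] at hs ⊢
          linear_combination (σ α * α) * hs
      intro a b e t
      -- commutator of the root elements at `ng b` and at `a`
      set r := -σ t with hr
      set x := σ (-r / h w0 w0) with hx
      obtain ⟨s1, hs1, hm1⟩ := (hY (ng b)).2 x
      obtain ⟨s2, hs2, hm2⟩ := (hY a).2 1
      rw [one_smul] at hs2 hm2
      have hab : h (φ.ev (ng b)) (φ.ev a) = 0 := φ.pair_lv (by rw [lv_ng]; exact e.symm)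
      have hxw : h (φ.ev (ng b)) (x • w0) = 0 := by rw [map_smul, hw0, smul_zero]
      have g1 : uR hh (φ.ev (ng b)) (x • w0) s1 • φ.ev a = φ.ev a := by
        rw [uR_smul hh (φ.pair_self _) hxw hs1, hab, map_smulₛₗ, LinearMap.smul_apply,
          show h w0 (φ.ev a) = 0 from hh.comm_zero (hw0 a)]
        simp
      have g2 : uR hh (φ.ev (ng b)) (x • w0) s1 • w0 = w0 + r • φ.ev (ng b) := by
        rw [uR_smul hh (φ.pair_self _) hxw hs1, hw0, map_smulₛₗ, LinearMap.smul_apply, smul_eq_mul, mul_zero,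
          zero_sub, zero_smul, add_zero, hx, hh.invol]
        congr 2
        field_simp
      have key := H.mul_mem (H.inv_mem hm2) (H.mul_mem (H.mul_mem hm1 hm2) (H.inv_mem hm1))
      have hrb : h (φ.ev a) (r • φ.ev (ng b)) = 0 := (φ.E_side e r).1
      rw [uR_conj, g1, g2, show uR hh (φ.ev a) (w0 + r • φ.ev (ng b)) s2 =
          uR hh (φ.ev a) w0 s2 * uR hh (φ.ev a) (r • φ.ev (ng b)) 0 by
        rw [uR_mul hh (φ.pair_self a) (hw0 a) hs2 hrb (φ.E_side e r).2, map_smul,
          show h w0 (φ.ev (ng b)) = 0 from hh.comm_zero (hw0 _), smul_zero, sub_zero, add_zero],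
        inv_mul_cancel_left] at key
      exact key
  have hperp : ∀ w, φ.Perp w → ∀ a, w ∈ φ.ySub hh H a := by
    rcases hcase with ⟨-, -, h0⟩ | ⟨w0, hw0, -, hy0, hspan⟩
    · intro w hw a
      rw [h0 w hw]; exact zero_mem _
    · intro w hw a
      obtain ⟨r, rfl⟩ := hspan w hw
      refine Submodule.smul_mem _ _ ?_
      obtain ⟨k, rfl⟩ := exists_sigC_iterate hm a
      induction k with
      | zero => exact hy0
      | succ k ih =>
        rw [Function.iterate_succ', Function.comp_apply]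
        obtain ⟨α, hα, ea⟩ := hNm (sigC^[k] (Sum.inl i0))
        refine ⟨hw0 _, fun c => ?_⟩
        have hα' : σ α ≠ 0 := (map_ne_zero σ).2 hα
        obtain ⟨s, hs, hms⟩ := ih.2 (c / σ α)
        have := H.mul_mem (H.mul_mem hNH hms) (H.inv_mem hNH)
        rw [uR_conj, ea, smul_comm N, hNp w0 hw0, uR_scale hh (φ.pair_self _) (by rw [map_smul, hw0, smul_zero])
          hs, smul_smul, mul_div_cancel₀ _ hα'] at this
        refine ⟨_, ?_, this⟩
        have e : c • w0 = σ α • ((c / σ α) • w0) := by rw [smul_smul, mul_div_cancel₀ _ hα']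
        rw [e]
        simp only [map_mul, hh.invol, map_smulₛₗ, LinearMap.smul_apply, smul_eq_mul, RingHom.id_apply] at hs ⊢
        linear_combination (σ α * α) * hs
  have evY : ∀ {a c : SIdx m}, lv a ≠ lv c → φ.ev c ∈ φ.ySub hh H a := by
    intro a c e
    refine ⟨φ.pair_lv e, fun r => ⟨0, by simp [φ.pair_self], ?_⟩⟩
    have := allW (a := a) (b := ng c) (by rwa [lv_ng]) (-σ r)
    rwa [E, map_neg, hh.invol, neg_neg, ng_ng] at this
  have hT : ∀ a, φ.WholeT hh H a := by
    intro a
    rcases hcase with ⟨h1, -, -⟩ | ⟨w0, hw0, hne, -, -⟩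
    · obtain ⟨c, hc⟩ : ∃ c : Fin m, c ≠ lv a := by
        by_cases h0 : lv a = i0
        · exact ⟨⟨1, h1⟩, fun e => by simp [h0, i0] at e⟩
        · exact ⟨i0, fun e => h0 e.symm⟩
      exact wholeT_of_ySub (evY (a := a) (c := .inl c) hc.symm) (evY (a := a) (c := .inr c) hc.symm)
        (by rw [show φ.ev (Sum.inr c) = φ.ev (ng (Sum.inl c)) from rfl, φ.pair_ng']; exact one_ne_zero)
    · exact wholeT_of_ySub (hperp w0 hw0 a) (hperp w0 hw0 a) hne
  have selfY : ∀ a, φ.ev a ∈ φ.ySub hh H a := by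
    intro a
    refine ⟨φ.pair_self a, fun r => ⟨0, by simp [φ.pair_self], ?_⟩⟩
    have hs : (r - σ r) + σ (r - σ r) = 0 := by rw [map_sub, hh.invol]; ring
    have := hT a _ hs
    rwa [show uR hh (φ.ev a) 0 (r - σ r) = uR hh (φ.ev a) (r • φ.ev a) 0 from UH.ext' fun x => by
      rw [φ.smul_T a hs, uR_smul hh (φ.pair_self a) (by simp [φ.pair_self]) (by simp [φ.pair_self]),
        map_smulₛₗ, LinearMap.smul_apply, smul_eq_mul]
      module] at this
  have full : ∀ a, UFull hh H (φ.ev a) := fun a => full_of_ySub (hT a) fun w hw => by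
    rw [← φ.decomp w]
    refine Submodule.add_mem _ (Submodule.sum_mem _ fun c _ => ?_) (hperp _ (φ.perp_proj w) a)
    by_cases hc : lv a = lv c
    · rcases lv_eq.1 hc.symm with rfl | rfl
      · exact Submodule.smul_mem _ _ (selfY c)
      · rw [ng_ng, hw, zero_smul]; exact zero_mem _
    · exact Submodule.smul_mem _ _ (evY hc)
  exact uRootGroup_le_of_full hh (φ.pair_self (.inl i0)) (φ.pair_self (ng (.inl i0)))
    (by rw [φ.pair_ng]; exact one_ne_zero) (full _) (full _)

end UFrame

end Cfsg.Agent.TwoGen
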