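import Cfsg.Agent.Lib.TwoGen.UnitGen
import Cfsg.Agent.Lib.TwoGen.OrthPair

/-!
The two generators of a special unitary group: a torus element and a root element times a signed cycle.
-/

set_option autoImplicit false

namespace Cfsg.Agent.TwoGen

open Cfsg.Agent.CurtisTits Cfsg.Agent.CurtisTits.DType
open Cfsg.Agent.ClassicalSimple

section Field

variable {F : Type*} [Field F] [Finite F]

/-- An element of large order generates the field additively together with its powers. -/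
theorem addSubgroup_eq_top_of_order {q : ℕ} (hF : Nat.card F = q ^ 2) {χ : F} (hχ0 : χ ≠ 0)
    (hord : ∀ k : ℕ, 0 < k → χ ^ k = 1 → q ≤ k) (T : AddSubgroup F) (hT : ∀ t ∈ T, χ * t ∈ T)
    (h1 : (1 : F) ∈ T) : T = ⊤ := by
  let M : Subring F :=
    { carrier := {x | ∀ t ∈ T, x * t ∈ T}
      one_mem' := fun t ht => by rwa [one_mul]
      mul_mem' := fun {x y} hx hy t ht => by rw [mul_assoc]; exact hx _ (hy t ht)
      zero_mem' := fun t _ => by rw [zero_mul]; exact T.zero_mem
      add_mem' := fun {x y} hx hy t ht => by rw [add_mul]; exact T.add_mem (hx t ht) (hy t ht)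
      neg_mem' := fun {x} hx t ht => by rw [neg_mul]; exact T.neg_mem (hx t ht) }
  let K : Subfield F :=
    { M with
      inv_mem' := fun x hx => by
        have := Fintype.ofFinite F
        by_cases h0 : x = 0
        · rw [h0, inv_zero]; exact M.zero_mem
        · rw [inv_eq_of_mul_eq_one_right (show x * x ^ (Fintype.card F - 2) = 1 by
            rw [← pow_succ', show Fintype.card F - 2 + 1 = Fintype.card F - 1 by
              have := Fintype.one_lt_card (α := F); omega]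
            exact FiniteField.pow_card_sub_one_eq_one x h0)]
          exact M.pow_mem hx _ }
  have hK : ∀ x : F, x ∈ K → x ∈ T := fun x hx => by simpa using hx 1 h1
  suffices h : ∀ x : F, x ∈ K from eq_top_iff.2 fun x _ => hK x (h x)
  by_contra hne
  push Not at hne
  obtain ⟨y, hy⟩ := hne
  have hcard := Module.natCard_eq_pow_finrank (K := K) (V := F)
  have hfin : 1 < Module.finrank K F := by
    by_contra hle
    have h1' : Module.finrank K F = 1 := by
      have : 0 < Module.finrank K F := Module.finrank_pos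
      omega
    obtain ⟨a, ha⟩ := exists_smul_eq_of_finrank_eq_one h1' (one_ne_zero (α := F)) y
    exact hy (by rw [← ha, Subfield.smul_def, smul_eq_mul, mul_one]; exact a.2)
  have hle : Nat.card K ≤ q := by
    have h2 : Nat.card K ^ 2 ≤ q ^ 2 := by
      rw [← hF, hcard]; exact Nat.pow_le_pow_right Nat.card_pos hfin
    exact Nat.pow_le_pow_iff_left two_ne_zero |>.1 h2
  have : Fintype K := Fintype.ofFinite K
  have hone : 1 < Nat.card K := Finite.one_lt_card
  have hpow : (⟨χ, fun t ht => hT t ht⟩ : K) ^ (Fintype.card K - 1) = 1 :=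
    FiniteField.pow_card_sub_one_eq_one _ (fun h => hχ0 (congrArg Subtype.val h))
  have := hord (Fintype.card K - 1) (by rw [Nat.card_eq_fintype_card] at hone; omega)
    (by simpa using congrArg Subtype.val hpow)
  rw [Nat.card_eq_fintype_card] at hle hone
  omega

end Field

variable {F V : Type*} [Field F] [AddCommGroup V] [Module F V] [FiniteDimensional F V]
  {σ : F →+* F} {h : V →ₛₗ[σ] V →ₗ[F] F} {hh : IsUnitaryForm σ h}

/-- Recovering a root subgroup from a torus element and a root element times another element. -/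
theorem root_subgroup_of_pair {H : Subgroup (UH h)} {u w : V} {s : F} (hu : h u u = 0) (hw : h u w = 0)
    (hs : s + σ s + h w w = 0) {g N : UH h} {α β α' β' : F} (e1 : g • u = α • u) (e2 : g • w = β • w)
    (e1' : (N * g * N⁻¹) • u = α' • u) (e2' : (N * g * N⁻¹) • w = β' • w) (hcomm : Commute g (N * g * N⁻¹))
    (hχ : σ α * β ≠ 1) (hχ' : σ α' * β' ≠ 1)
    (hgen : ∀ T : AddSubgroup F, (∀ t ∈ T, σ α * β * t ∈ T) → (1 : F) ∈ T → T = ⊤)
    (hg : g ∈ H) (hb : uR hh u w s * N ∈ H) (t : F) :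
    ∃ s', s' + σ s' + h (t • w) (t • w) = 0 ∧ uR hh u (t • w) s' ∈ H ∧ (h w w = 0 → s = 0 → s' = 0) := by
  set M : F → UH h → Prop := fun t k =>
    ∃ s', s' + σ s' + h (t • w) (t • w) = 0 ∧ k = uR hh u (t • w) s' ∧ (h w w = 0 → s = 0 → s' = 0) with hM
  have hwt : ∀ t : F, h u (t • w) = 0 := fun t => by rw [map_smul, hw, smul_zero]
  have M1 : M 1 (uR hh u w s) := ⟨s, by rw [one_smul]; exact hs, by rw [one_smul], fun _ e => e⟩
  have Mmul : ∀ {t t' k k'}, M t k → M t' k' → M (t + t') (k * k') := by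
    rintro t t' k k' ⟨r, hr, rfl, f⟩ ⟨r', hr', rfl, f'⟩
    refine ⟨r + r' - h (t • w) (t' • w), ?_, ?_, fun a b => ?_⟩
    · rw [add_smul, map_sub, map_add, ← hh.swap]
      simp only [map_add, LinearMap.add_apply]
      linear_combination hr + hr'
    · rw [uR_mul hh hu (hwt t) hr (hwt t') hr', add_smul]
    · simp [f a b, f' a b, a]
  have Minv : ∀ {t k}, M t k → M (-t) k⁻¹ := by
    rintro t k ⟨r, hr, rfl, f⟩
    refine ⟨σ r, ?_, by rw [uR_inv hh hu (hwt t) hr, neg_smul], fun a b => by rw [f a b, map_zero]⟩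
    simp only [neg_smul, map_neg, LinearMap.neg_apply, neg_neg, hh.invol]
    linear_combination hr
  have Mconj : ∀ {t k} {p : UH h} {x y : F}, p • u = x • u → p • w = y • w → M t k →
      M (σ x * y * t) (p * k * p⁻¹) := by
    rintro t k p x y ex ey ⟨r, hr, rfl, f⟩
    have hpw : h u (p • t • w) = 0 := by rw [smul_comm p, ey, map_smul, map_smul, hw, smul_zero, smul_zero]
    have hr' : r + σ r + h (p • t • w) (p • t • w) = 0 := by rw [uh_smul_smul]; exact hr
    have e : σ x • p • t • w = (σ x * y * t) • w := by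
      rw [smul_comm p, ey, smul_smul, smul_smul]
      congr 1
      ring
    refine ⟨σ x * x * r, ?_, by rw [uR_conj, ex, uR_scale hh hu hpw hr', e], fun a b => by rw [f a b, mul_zero]⟩
    rw [← e]
    simp only [map_mul, hh.invol, map_smulₛₗ, LinearMap.smul_apply, smul_eq_mul, RingHom.id_apply] at hr' ⊢
    linear_combination (σ x * x) * hr'
  set h' := N * g * N⁻¹ with hh'
  set x := uR hh u w s
  set x1 := g * x * g⁻¹ with hx1
  have Mc : M (σ α * β + -(σ α' * β' * (σ α * β)) + σ α' * β' + -1)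
      (x1 * (h' * x1⁻¹ * h'⁻¹) * (h' * x * h'⁻¹) * x⁻¹) := by
    have Mx1 : M (σ α * β) x1 := by simpa [hx1] using Mconj e1 e2 M1
    have M2 : M (-(σ α' * β' * (σ α * β))) (h' * x1⁻¹ * h'⁻¹) := by
      have := Mconj e1' e2' (Minv Mx1); rwa [mul_neg] at this
    have M3 : M (σ α' * β') (h' * x * h'⁻¹) := by simpa using Mconj e1' e2' M1
    exact Mmul (Mmul (Mmul Mx1 M2) M3) (Minv M1)
  have hcH : x1 * (h' * x1⁻¹ * h'⁻¹) * (h' * x * h'⁻¹) * x⁻¹ ∈ H := by
    have hbg : (x * N) * g * (x * N)⁻¹ ∈ H := H.mul_mem (H.mul_mem hb hg) (H.inv_mem hb)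
    have := H.mul_mem (H.mul_mem (H.mul_mem hg hbg) (H.inv_mem hg)) (H.inv_mem hbg)
    convert this using 1
    have e : g * h' * g⁻¹ = h' := by rw [hcomm.eq, mul_inv_cancel_right]
    rw [show g * ((x * N) * g * (x * N)⁻¹) * g⁻¹ = x1 * (g * h' * g⁻¹) * x1⁻¹ by rw [hx1, hh']; group, e,
      show (x * N) * g * (x * N)⁻¹ = x * h' * x⁻¹ by rw [hh']; group]
    group
  set k0 := σ α * β + -(σ α' * β' * (σ α * β)) + σ α' * β' + -1 with hk0
  have hk : k0 ≠ 0 := by
    intro e
    have : (σ α * β - 1) * (σ α' * β' - 1) = 0 := by linear_combination -e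
    rcases mul_eq_zero.1 this with e' | e'
    · exact hχ (sub_eq_zero.1 e')
    · exact hχ' (sub_eq_zero.1 e')
  let T : AddSubgroup F :=
    { carrier := {t | ∃ k, M (k0 * t) k ∧ k ∈ H}
      zero_mem' := ⟨1, ⟨0, by simp, by rw [mul_zero, zero_smul, uR_zero], fun _ _ => rfl⟩, H.one_mem⟩
      add_mem' := by
        rintro a b ⟨k, hk, hkH⟩ ⟨k', hk', hkH'⟩
        exact ⟨k * k', by rw [mul_add]; exact Mmul hk hk', H.mul_mem hkH hkH'⟩
      neg_mem' := by
        rintro a ⟨k, hk, hkH⟩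
        exact ⟨k⁻¹, by rw [mul_neg]; exact Minv hk, H.inv_mem hkH⟩ }
  have hT : T = ⊤ := hgen T (fun t ⟨k, hk', hkH⟩ => ⟨g * k * g⁻¹, by
      rw [show k0 * (σ α * β * t) = σ α * β * (k0 * t) by ring]; exact Mconj e1 e2 hk',
      H.mul_mem (H.mul_mem hg hkH) (H.inv_mem hg)⟩) ⟨_, by rw [mul_one]; exact Mc, hcH⟩
  obtain ⟨k, ⟨r, hr, rfl, f⟩, hkH⟩ : t / k0 ∈ T := hT ▸ AddSubgroup.mem_top _
  rw [mul_div_cancel₀ _ hk] at hr hkH
  exact ⟨r, hr, hkH, f⟩

namespace UFrame

variable {m : ℕ} (φ : UFrame σ h m)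

/-- Product of the first monomial elements. -/
noncomputable def cyP (hh : IsUnitaryForm σ h) : ℕ → UH h
  | 0 => 1
  | k + 1 => if e : k + 1 < m then cyP hh k * φ.nW hh (.inl ⟨k, by omega⟩) (.inl ⟨k + 1, e⟩) 1 else cyP hh k

theorem cyP_mem_root : ∀ k, φ.cyP hh k ∈ uRootGroup hh
  | 0 => one_mem _
  | k + 1 => by
    rw [cyP]
    split_ifs
    · exact mul_mem (cyP_mem_root k) (φ.nW_mem_root _ _ _)
    · exact cyP_mem_root k

theorem smul_cyP_perp {w : V} (hw : φ.Perp w) : ∀ k, φ.cyP hh k • w = w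
  | 0 => one_smul _ w
  | k + 1 => by
    rw [cyP]
    split_ifs with e
    · rw [mul_smul, φ.smul_nW_perp (fun e' => by have := congrArg Fin.val e'; simp [lv] at this) _ hw,
        smul_cyP_perp hw k]
    · exact smul_cyP_perp hw k

theorem smul_cyP : ∀ k, k + 1 ≤ m → ∀ c : SIdx m, ∃ α : F, α ≠ 0 ∧
    φ.cyP hh k • φ.ev c = α • φ.ev (Sum.map (OFrame.tau m k) (OFrame.tau m k) c)
  | 0, _, c => by
    refine ⟨1, one_ne_zero, ?_⟩
    have : ∀ i, OFrame.tau m 0 i = i := fun i => by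
      rw [OFrame.tau, dif_neg (fun e => Nat.not_lt_zero _ e.1)]
      split_ifs with e
      · exact Fin.ext e.symm
      · rfl
    rw [cyP, one_smul, one_smul]
    rcases c with i | i <;> simp [this]
  | k + 1, hk, c => by
    rw [cyP, dif_pos (by omega)]
    set p : Fin m := ⟨k, by omega⟩
    set p' : Fin m := ⟨k + 1, by omega⟩
    have hpq : lv (Sum.inl p : SIdx m) ≠ lv (Sum.inl p') := fun e => by
      have := congrArg Fin.val e; simp [p, p', lv] at this
    have ih := smul_cyP k (by omega)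
    have tp : OFrame.tau m k p = ⟨0, by omega⟩ := by
      rw [OFrame.tau, dif_neg (fun e => lt_irrefl k e.1), if_pos rfl]
    have tq : OFrame.tau m k p' = p' := by
      rw [OFrame.tau, dif_neg (fun e => by have := e.1; simp [p'] at this), if_neg (by simp [p'])]
    have tp' : OFrame.tau m (k + 1) p = p' := by
      rw [OFrame.tau, dif_pos ⟨show k < k + 1 by omega, show k + 1 < m by omega⟩]
    have tq' : OFrame.tau m (k + 1) p' = ⟨0, by omega⟩ := by
      rw [OFrame.tau, dif_neg (fun e => lt_irrefl (k + 1) e.1), if_pos rfl]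
    have other : ∀ i : Fin m, i ≠ p → i ≠ p' → OFrame.tau m (k + 1) i = OFrame.tau m k i := by
      intro i h1 h2
      have h1' : i.val ≠ k := fun e => h1 (Fin.ext e)
      have h2' : i.val ≠ k + 1 := fun e => h2 (Fin.ext e)
      unfold OFrame.tau
      split_ifs <;> first | rfl | omega
    rcases c with i | i
    · by_cases h1 : i = p
      · subst h1
        obtain ⟨α, hα, e⟩ := ih (.inl p')
        refine ⟨-α, neg_ne_zero.2 hα, ?_⟩
        rw [mul_smul, φ.smul_nW_left hpq one_ne_zero, smul_comm (φ.cyP hh k), e, Sum.map_inl, Sum.map_inl, tp', tq,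
          smul_smul]
        simp
      by_cases h2 : i = p'
      · subst h2
        obtain ⟨α, hα, e⟩ := ih (.inl p)
        refine ⟨α, hα, ?_⟩
        rw [mul_smul, φ.smul_nW_right hpq one_ne_zero, one_smul, e, Sum.map_inl, Sum.map_inl, tq', tp]
      · obtain ⟨α, hα, e⟩ := ih (.inl i)
        refine ⟨α, hα, ?_⟩
        rw [mul_smul, φ.smul_nW_ev hpq _ (by exact h1) (by exact h2), e, Sum.map_inl, Sum.map_inl, other i h1 h2]
    · by_cases h1 : i = p
      · subst h1
        obtain ⟨α, hα, e⟩ := ih (.inr p')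
        refine ⟨-α, neg_ne_zero.2 hα, ?_⟩
        rw [mul_smul, show φ.ev (.inr p) = φ.ev (ng (Sum.inl p)) from rfl, φ.smul_nW_ng_left hpq one_ne_zero,
          smul_comm (φ.cyP hh k), show φ.ev (ng (Sum.inl p')) = φ.ev (.inr p') from rfl, e, Sum.map_inr, Sum.map_inr,
          tp', tq, smul_smul]
        simp
      by_cases h2 : i = p'
      · subst h2
        obtain ⟨α, hα, e⟩ := ih (.inr p)
        refine ⟨α, hα, ?_⟩
        rw [mul_smul, show φ.ev (.inr p') = φ.ev (ng (Sum.inl p')) from rfl, φ.smul_nW_ng_right hpq one_ne_zero,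
          map_one, inv_one, one_smul, show φ.ev (ng (Sum.inl p)) = φ.ev (.inr p) from rfl, e, Sum.map_inr, Sum.map_inr,
          tq', tp]
      · obtain ⟨α, hα, e⟩ := ih (.inr i)
        refine ⟨α, hα, ?_⟩
        rw [mul_smul, φ.smul_nW_ev hpq _ (by exact h1) (by exact h2), e, Sum.map_inr, Sum.map_inr, other i h1 h2]

/-- The signed cycle. -/
noncomputable def cyN (hh : IsUnitaryForm σ h) (hm : 0 < m) (θ : F) : UH h :=
  φ.lW hh (.inl ⟨0, hm⟩) θ * φ.cyP hh (m - 1)

theorem cyN_spec (hm : 0 < m) {θ : F} (hθ : θ + σ θ = 0) (hθ0 : θ ≠ 0) :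
    (∀ a, ∃ α : F, α ≠ 0 ∧ φ.cyN hh hm θ • φ.ev a = α • φ.ev (sigC a)) ∧
      ∀ w, φ.Perp w → φ.cyN hh hm θ • w = w := by
  set o : Fin m := ⟨0, hm⟩ with ho
  refine ⟨fun c => ?_, fun w hw => by rw [cyN, mul_smul, φ.smul_cyP_perp hw, φ.smul_lW_perp hθ hw]⟩
  obtain ⟨α, hα, e⟩ := φ.smul_cyP (hh := hh) (m - 1) (by omega) c
  rw [cyN, mul_smul, e, smul_comm (φ.lW hh _ θ)]
  obtain ⟨l1, l2⟩ := φ.smul_lW (hh := hh) (a := .inl o) hθ hθ0
  rcases c with i | i
  · by_cases hi : i.val + 1 < m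
    · refine ⟨α, hα, ?_⟩
      rw [Sum.map_inl, OFrame.tau, dif_pos ⟨by omega, hi⟩, show sigC (Sum.inl i : SIdx m) = _ from dif_pos hi,
        φ.smul_lW_ev hθ (fun e' => by have := congrArg Fin.val e'; simp [lv] at this)]
    · refine ⟨α * -θ⁻¹, mul_ne_zero hα (neg_ne_zero.2 (inv_ne_zero hθ0)), ?_⟩
      rw [Sum.map_inl, OFrame.tau, dif_neg (fun e' => hi e'.2), if_pos (by have := i.isLt; omega),
        show sigC (Sum.inl i : SIdx m) = _ from dif_neg hi, ← ho, l1, smul_smul]
      rfl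
  · by_cases hi : i.val + 1 < m
    · refine ⟨α, hα, ?_⟩
      rw [Sum.map_inr, OFrame.tau, dif_pos ⟨by omega, hi⟩, show sigC (Sum.inr i : SIdx m) = _ from dif_pos hi,
        φ.smul_lW_ev hθ (fun e' => by have := congrArg Fin.val e'; simp [lv] at this)]
    · refine ⟨α * θ, mul_ne_zero hα hθ0, ?_⟩
      rw [Sum.map_inr, OFrame.tau, dif_neg (fun e' => hi e'.2), if_pos (by have := i.isLt; omega),
        show sigC (Sum.inr i : SIdx m) = _ from dif_neg hi, ← ho,
        show φ.ev (Sum.inr o) = φ.ev (ng (Sum.inl o)) from rfl, l2, smul_smul]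

theorem conj_eigen {N g : UH h} {v u : V} {κ r : F} (hκ : κ ≠ 0) (hN : N • v = κ • u) (hv : g • v = r • v) :
    (N * g * N⁻¹) • u = r • u := by
  have e : N⁻¹ • u = κ⁻¹ • v := by
    rw [inv_smul_eq_iff, smul_comm N, hN, inv_smul_smul₀ hκ]
  rw [mul_smul, mul_smul, e, smul_comm g, hv, smul_comm N, smul_comm N, hN, smul_comm r κ, inv_smul_smul₀ hκ]

theorem commute_conj {N g : UH h} (hm : 0 < m) (hNm : ∀ a, ∃ α : F, α ≠ 0 ∧ N • φ.ev a = α • φ.ev (sigC a))
    (hNp : ∀ w, φ.Perp w → N • w = w) (r : SIdx m → F) (κ : F) (hg : ∀ a, g • φ.ev a = r a • φ.ev a)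
    (hgp : ∀ w, φ.Perp w → g • w = κ • w) : Commute g (N * g * N⁻¹) := by
  have hev : ∀ a, ∃ r' : F, (N * g * N⁻¹) • φ.ev a = r' • φ.ev a := by
    intro a
    have hb : a = sigC (sigC^[2 * m - 1] a) := by
      rw [← Function.comp_apply (f := sigC), ← Function.iterate_succ' sigC (2 * m - 1),
        show (2 * m - 1).succ = m + m by omega, Function.iterate_add_apply, sigC_pow_m, sigC_pow_m, ng_ng]
    obtain ⟨α, hα, e⟩ := hNm (sigC^[2 * m - 1] a)
    rw [← hb] at e
    exact ⟨_, conj_eigen hα e (hg _)⟩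
  have hperp : ∀ w, φ.Perp w → (N * g * N⁻¹) • w = κ • w := fun w hw =>
    conj_eigen one_ne_zero (by rw [one_smul, hNp w hw]) (hgp w hw)
  refine UH.ext' fun x => ?_
  rw [← φ.decomp x, smul_add, smul_add, Finset.smul_sum, Finset.smul_sum]
  congr 1
  · refine Finset.sum_congr rfl fun a _ => ?_
    obtain ⟨r', hr'⟩ := hev a
    rw [smul_comm (g * _), smul_comm ((N * g * N⁻¹) * g), mul_smul g, mul_smul (N * g * N⁻¹), hr', hg,
      smul_comm g r', smul_comm (N * g * N⁻¹) (r a), hg, hr', smul_comm r' (r a)]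
  · have hp := φ.perp_proj x
    rw [mul_smul g, mul_smul (N * g * N⁻¹), hperp _ hp, hgp _ hp, smul_comm g κ, smul_comm (N * g * N⁻¹) κ,
      hgp _ hp, hperp _ hp]

/-- The torus element in dimension three. -/
theorem exists_torus_three (hh : IsUnitaryForm σ h) (hm1 : m = 1) (i : Fin m) {w0 : V} (hw0 : φ.Perp w0) (hne : h w0 w0 ≠ 0) {c : F}
    (hc : c ≠ 0) :
    ∃ g : UH h, g ∈ SUH h ∧ g • φ.ev (.inl i) = c • φ.ev (.inl i) ∧ g • φ.ev (.inr i) = (σ c)⁻¹ • φ.ev (.inr i) ∧
      g • w0 = (σ c * c⁻¹) • w0 := by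
  set e := φ.ev (.inl i)
  set f := φ.ev (.inr i)
  set η := h w0 w0 with hη
  have hef : h e f = 1 := φ.pair_ng (.inl i)
  have hfe : h f e = 1 := φ.pair_ng' (.inl i)
  have hee : h e e = 0 := φ.pair_self _
  have hff : h f f = 0 := φ.pair_self _
  have hew : h e w0 = 0 := hw0 _
  have hfw : h f w0 = 0 := hw0 _
  have hwe : h w0 e = 0 := hh.comm_zero hew
  have hwf : h w0 f = 0 := hh.comm_zero hfw
  have hσc : σ c ≠ 0 := (map_ne_zero σ).2 hc
  have hση : σ η = η := hh.σ_self w0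
  set C := (σ c * c⁻¹ - 1) / η with hC
  have hC' : C + σ C + C * σ C * h w0 w0 = 0 := by
    rw [← hη, hC]
    simp only [map_div₀, map_sub, map_mul, map_inv₀, map_one, hh.invol, hση]
    field_simp
    ring
  set T : V →ₗ[F] V := (LinearMap.transvection ((c - 1) • h f) e).comp
    (LinearMap.transvection (((σ c)⁻¹ - 1) • h e) f) with hTdef
  have hTx : ∀ x, T x = x + ((c - 1) * h f x) • e + (((σ c)⁻¹ - 1) * h e x) • f := fun x => by
    simp only [hTdef, LinearMap.comp_apply, LinearMap.transvection.apply, LinearMap.smul_apply, map_add, map_smul,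
      smul_eq_mul, hff, mul_zero, add_zero]
    module
  have hT : ∀ x y, h (T x) (T y) = h x y := by
    intro x y
    simp only [hTx, map_add, map_smulₛₗ, LinearMap.add_apply, LinearMap.smul_apply, smul_eq_mul, RingHom.id_apply,
      hee, hff, hef, hfe, hh.swap e x, hh.swap f x, map_mul, map_sub, map_inv₀, map_one, hh.invol]
    field_simp
    ring
  refine ⟨uMk hh T hT * uDil hh w0 C hC', ?_, ?_, ?_, ?_⟩
  · rw [mem_SUH]
    change LinearMap.det (T.comp ((uDil hh w0 C hC' : V ≃ₗ[F] V) : V →ₗ[F] V)) = 1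
    rw [LinearMap.det_comp, uDil_det, hTdef, LinearMap.det_comp, LinearMap.transvection.det,
      LinearMap.transvection.det, ← hη, hC]
    simp only [LinearMap.smul_apply, smul_eq_mul, hfe, hef]
    field_simp
    ring
  · rw [mul_smul, uDil_smul, hwe, uMk_smul, mul_zero, zero_smul, add_zero, hTx, hfe, hee]
    match_scalars <;> ring
  · rw [mul_smul, uDil_smul, hwf, uMk_smul, mul_zero, zero_smul, add_zero, hTx, hef, hff]
    match_scalars <;> ring
  · rw [mul_smul, uDil_smul, uMk_smul, hTx, ← hη, map_add, map_add, map_smul, map_smul, hew, hfw, hC]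
    match_scalars <;> field_simp <;> ring

variable [Finite F]

/-- The two generators. -/
theorem exists_pair (hh : IsUnitaryForm σ h) (h3 : 3 ≤ Module.finrank F V) {q : ℕ} (hF : Nat.card F = q ^ 2) (hσ : ∀ x, σ x = x ^ q)
    (hm : 0 < m)
    (hcase : (2 ≤ m ∧ ∀ w, φ.Perp w → w = 0) ∨
      ∃ w0, φ.Perp w0 ∧ h w0 w0 ≠ 0 ∧ (∀ w, φ.Perp w → ∃ r : F, w = r • w0) ∧ (m = 1 → q ≠ 2)) :
    ∃ a b : UH h, a ∈ SUH h ∧ b ∈ SUH h ∧ SUH h ≤ Subgroup.closure {a, b} := by
  have := Fintype.ofFinite F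
  have hq : 2 ≤ q := by
    have : 1 < Nat.card F := Finite.one_lt_card
    rw [hF] at this
    by_contra hlt
    interval_cases q <;> simp at this
  obtain ⟨u, hu⟩ := IsCyclic.exists_generator (α := Fˣ)
  set c : F := (u : F) with hc'
  have hc : c ≠ 0 := u.ne_zero
  have hcard : Fintype.card F = q ^ 2 := by rw [← hF, Nat.card_eq_fintype_card]
  have hord : ∀ k : ℕ, c ^ k = 1 → q * q - 1 ∣ k := by
    intro k hk
    have := orderOf_dvd_of_pow_eq_one (show u ^ k = 1 from Units.ext (by rw [Units.val_pow_eq_pow_val]; exact hk))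
    rw [orderOf_eq_card_of_forall_mem_zpowers hu, Nat.card_units, hF, sq] at this
    exact this
  have hqq : q + 1 ≤ q * q - 1 := by have : 2 * q ≤ q * q := Nat.mul_le_mul_right q hq; omega
  have hσc0 : σ c ≠ 0 := (map_ne_zero σ).2 hc
  have hσne : σ c ≠ c := by
    intro e
    rw [hσ] at e
    have : c ^ (q - 1) = 1 := by
      have e' : c ^ (q - 1) * c = 1 * c := by
        rw [← pow_succ, show q - 1 + 1 = q by omega, e, one_mul]
      exact mul_right_cancel₀ hc e'
    have := Nat.le_of_dvd (by omega) (hord _ this)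
    omega
  have hc1 : c ≠ 1 := fun e => hσne (by rw [e, map_one])
  have gen : ∀ χ : F, χ ≠ 0 → (∀ k, 0 < k → χ ^ k = 1 → q ≤ k) →
      χ ≠ 1 ∧ ∀ T : AddSubgroup F, (∀ t ∈ T, χ * t ∈ T) → (1 : F) ∈ T → T = ⊤ := fun χ h0 hχ =>
    ⟨fun e => by have := hχ 1 one_pos (by rw [e, one_pow]); omega, addSubgroup_eq_top_of_order hF h0 hχ⟩
  have gσ : ∀ x : F, (∀ k, 0 < k → x ^ k = 1 → q ≤ k) → ∀ k, 0 < k → (σ x) ^ k = 1 → q ≤ k :=
    fun x hx k hk e => hx k hk (σ.injective (by rw [map_pow, e, map_one]))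
  have hcord : ∀ k, 0 < k → c ^ k = 1 → q ≤ k := fun k hk e => by
    have := Nat.le_of_dvd hk (hord k e); omega
  have hc2ord : ∀ k, 0 < k → (c * c) ^ k = 1 → q ≤ k := fun k hk e => by
    have h2 : c ^ (2 * k) = 1 := by rw [two_mul, pow_add, ← mul_pow, e]
    have := Nat.le_of_dvd (by omega) (hord _ h2)
    have : 2 * q ≤ q * q := Nat.mul_le_mul_right q hq
    omega
  obtain ⟨θ, hθ0, hθ⟩ := hh.exists_skew
  obtain ⟨hNm, hNp⟩ := φ.cyN_spec (hh := hh) hm hθ hθ0
  set N := φ.cyN hh hm θ with hN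
  have hNroot : N ∈ uRootGroup hh := mul_mem (φ.lW_mem_root _ _) (φ.cyP_mem_root _)
  have hroot : SUH h = uRootGroup hh := SUH_eq_uRootGroup hh h3
  set i0 : Fin m := ⟨0, hm⟩
  set il : Fin m := ⟨m - 1, by omega⟩
  obtain ⟨α0, hα0, p0⟩ := hNm (.inr il)
  rw [show sigC (Sum.inr il : SIdx m) = Sum.inl i0 from dif_neg (show ¬ m - 1 + 1 < m by omega)] at p0
  -- finishing
  have done : ∀ (g : UH h) (w : V) (s : F), g ∈ SUH h →
      (∀ H : Subgroup (UH h), g ∈ H → uR hh (φ.ev (.inl i0)) w s * N ∈ H →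
        uR hh (φ.ev (.inl i0)) w s ∈ H ∧
        ((∃ h1 : 1 < m, φ.Whole hh H (.inl i0) (.inl ⟨1, h1⟩) ∧ ∀ w, φ.Perp w → w = 0) ∨
          ∃ w0, φ.Perp w0 ∧ h w0 w0 ≠ 0 ∧ w0 ∈ φ.ySub hh H (.inl i0) ∧ ∀ w, φ.Perp w → ∃ r : F, w = r • w0)) →
      ∃ a b : UH h, a ∈ SUH h ∧ b ∈ SUH h ∧ SUH h ≤ Subgroup.closure {a, b} := by
    intro g w s hg key
    refine ⟨g, uR hh (φ.ev (.inl i0)) w s * N, hg, hroot ▸ mul_mem (uR_mem_root hh _ _ _) hNroot, ?_⟩
    obtain ⟨hxH, hY⟩ := key (Subgroup.closure {g, uR hh (φ.ev (.inl i0)) w s * N})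
      (Subgroup.subset_closure (by simp)) (Subgroup.subset_closure (by simp))
    have hNH : N ∈ Subgroup.closure {g, uR hh (φ.ev (.inl i0)) w s * N} := by
      have hmem : uR hh (φ.ev (.inl i0)) w s * N ∈ Subgroup.closure {g, uR hh (φ.ev (.inl i0)) w s * N} :=
        Subgroup.subset_closure (by simp)
      simpa using mul_mem (inv_mem hxH) hmem
    rw [hroot]
    exact root_le_of_cycle hm hNH hNm hNp hY
  rcases hcase with ⟨hm2, h0⟩ | ⟨w0, hw0, hne, hspan, hq2⟩
  · set i1 : Fin m := ⟨1, by omega⟩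
    have h01 : lv (Sum.inl i0 : SIdx m) ≠ lv (Sum.inl i1) := fun e => by
      have := congrArg Fin.val e; simp [i0, i1, lv] at this
    have h0l : lv (Sum.inl i0 : SIdx m) ≠ lv (Sum.inl il) := fun e => by
      have := congrArg Fin.val e; simp [i0, il, lv] at this; omega
    set g := φ.hW hh (.inl i0) (.inl il) c
    obtain ⟨ge0, gf0, gel, gfl⟩ := φ.smul_hW (hh := hh) h0l hc
    obtain ⟨α1, hα1, p1⟩ := hNm (.inr i0)
    rw [show sigC (Sum.inr i0 : SIdx m) = Sum.inr i1 from dif_pos (show 0 + 1 < m by omega)] at p1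
    have hgev : ∀ a, ∃ r : F, g • φ.ev a = r • φ.ev a := by
      intro a
      by_cases ha : lv a = lv (Sum.inl i0 : SIdx m)
      · rcases lv_eq.1 ha with rfl | rfl
        · exact ⟨_, ge0⟩
        · exact ⟨_, gf0⟩
      by_cases hb : lv a = lv (Sum.inl il : SIdx m)
      · rcases lv_eq.1 hb with rfl | rfl
        · exact ⟨_, gel⟩
        · exact ⟨_, gfl⟩
      exact ⟨1, by rw [one_smul]; exact φ.smul_hW_ev h0l c ha hb⟩
    choose r hr using hgev
    have hcomm : Commute g (N * g * N⁻¹) := φ.commute_conj hm hNm hNp r 1 hr fun w hw => by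
      rw [one_smul]; exact φ.smul_hW_perp h0l c hw
    set w : V := -σ (1 : F) • φ.ev (ng (Sum.inl i1)) with hwdef
    have hgroot : g ∈ SUH h := hroot ▸ mul_mem (φ.nW_mem_root _ _ _) (φ.nW_mem_root _ _ _)
    refine done g w 0 hgroot fun H hgH hbH => ?_
    obtain ⟨β, hβ, hβ0, hβord⟩ : ∃ β, g • φ.ev (ng (Sum.inl i1)) = β • φ.ev (ng (Sum.inl i1)) ∧ β ≠ 0 ∧
        ∀ k, 0 < k → (σ c * β) ^ k = 1 → q ≤ k := by
      by_cases h1l : i1 = il
      · refine ⟨σ c, by rw [h1l]; exact gfl, hσc0, ?_⟩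
        rw [← map_mul]; exact gσ _ hc2ord
      · have e0 : lv (ng (Sum.inl i1) : SIdx m) ≠ lv (Sum.inl i0) := by rw [lv_ng]; exact h01.symm
        have el : lv (ng (Sum.inl i1) : SIdx m) ≠ lv (Sum.inl il) := by rw [lv_ng]; exact fun e => h1l e
        refine ⟨1, by rw [one_smul]; exact φ.smul_hW_ev h0l c e0 el, one_ne_zero, ?_⟩
        rw [mul_one]; exact gσ _ hcord
    have e2 : g • w = β • w := by rw [hwdef, smul_comm g, hβ, smul_comm β]
    have p0' : (N * g * N⁻¹) • φ.ev (.inl i0) = σ c • φ.ev (.inl i0) :=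
      conj_eigen hα0 p0 (show g • φ.ev (ng (Sum.inl il)) = _ from gfl)
    have p1' : (N * g * N⁻¹) • w = (σ c)⁻¹ • w := by
      rw [hwdef, smul_comm (N * g * N⁻¹), conj_eigen hα1 (show N • φ.ev (Sum.inr i0) = α1 • φ.ev (ng (Sum.inl i1)) from p1)
        (show g • φ.ev (Sum.inr i0) = _ from gf0), smul_comm (σ c)⁻¹]
    obtain ⟨hne1, hgen⟩ := gen _ (mul_ne_zero hσc0 hβ0) hβord
    have hwz : h (φ.ev (.inl i0)) w = 0 := (φ.E_side h01 _).1
    have hww : h w w = 0 := by simp [hwdef, φ.pair_self]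
    have hχ' : σ (σ c) * (σ c)⁻¹ ≠ 1 := by
      rw [hh.invol]
      intro e
      exact hσne (mul_inv_eq_one₀ hσc0 |>.1 e).symm
    have key := root_subgroup_of_pair (H := H) (φ.pair_self (.inl i0)) hwz (by simp [hww]) ge0 e2 p0' p1' hcomm
      hne1 hχ' hgen hgH hbH
    have hW : φ.Whole hh H (.inl i0) (.inl i1) := by
      intro t
      obtain ⟨s', -, hm', hs'⟩ := key (σ t)
      rw [hs' hww rfl, hwdef, smul_smul, map_one, mul_neg, mul_one] at hm'
      exact hm'
    exact ⟨hW 1, Or.inl ⟨by omega, hW, h0⟩⟩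
  · obtain ⟨d, hd⟩ := hh.exists_trace_one
    have hσd : σ d = 1 - d := by linear_combination hd
    have hση : σ (h w0 w0) = h w0 w0 := hh.σ_self w0
    set s := -(d * h w0 w0) with hsdef
    have hs : s + σ s + h w0 w0 = 0 := by rw [hsdef, map_neg, map_mul, hσd, hση]; ring
    obtain ⟨g, hgS, r, κ, hr, hgp, hχ0, hχord, hχ'⟩ : ∃ g, g ∈ SUH h ∧ ∃ (r : SIdx m → F) (κ : F),
        (∀ a, g • φ.ev a = r a • φ.ev a) ∧ g • w0 = κ • w0 ∧
        σ (r (.inl i0)) * κ ≠ 0 ∧
        (∀ k, 0 < k → (σ (r (.inl i0)) * κ) ^ k = 1 → q ≤ k) ∧ σ (r (.inr il)) * κ ≠ 1 := by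
      by_cases hm1 : m = 1
      · subst hm1
        have hq3 : 3 ≤ q := by have := hq2 rfl; omega
        obtain ⟨g, hgS, e1, e2, e3⟩ := φ.exists_torus_three hh rfl i0 hw0 hne hc
        refine ⟨g, hgS, Sum.elim (fun _ => c) (fun _ => (σ c)⁻¹), σ c * c⁻¹, fun a => ?_, e3, by simp [hc], fun k hk e => ?_, ?_⟩
        · rcases a with j | j <;> obtain rfl : j = i0 := Subsingleton.elim _ _
          · exact e1
          · exact e2
        · simp only [Sum.elim_inl, hσ, ← mul_assoc] at e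
          have e' : c ^ ((2 * q - 1) * k) = 1 := by
            rw [pow_mul, ← e]
            congr 1
            rw [← pow_add, show q + q = (2 * q - 1) + 1 by omega, pow_succ, mul_inv_cancel_right₀ hc]
          have hd1 := hord _ e'
          have hd3 : q * q - 1 ∣ 3 * k := by
            have hA := hd1.mul_left (2 * q + 1)
            have hB : q * q - 1 ∣ 4 * k * (q * q - 1) := Dvd.intro_left _ rfl
            have hqq1 : 1 ≤ q * q := by omega
            have e4 : (2 * q + 1) * ((2 * q - 1) * k) = 4 * k * (q * q - 1) + 3 * k := by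
              zify [hqq1, show 1 ≤ 2 * q by omega]
              ring
            rw [e4] at hA
            exact (Nat.dvd_add_right hB).1 hA
          have := Nat.le_of_dvd (by omega) hd3
          have : 3 * q ≤ q * q := Nat.mul_le_mul_right q hq3
          by_contra hlt
          omega
        · simp only [Sum.elim_inr, map_inv₀, hh.invol]
          intro e
          rw [hσ] at e
          have e' : c ^ (q - 2) = 1 := by
            rw [← e, show q = q - 2 + 1 + 1 by omega, pow_succ, pow_succ, show q - 2 + 1 + 1 - 2 = q - 2 by omega]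
            field_simp
          have := Nat.le_of_dvd (by omega) (hord _ e')
          omega
      · have h0l : lv (Sum.inl i0 : SIdx m) ≠ lv (Sum.inl il) := fun e => by
          have := congrArg Fin.val e; simp [i0, il, lv] at this; omega
        obtain ⟨ge0, gf0, gel, gfl⟩ := φ.smul_hW (hh := hh) h0l hc
        have hgev : ∀ a, ∃ r : F, φ.hW hh (.inl i0) (.inl il) c • φ.ev a = r • φ.ev a ∧
            (a = .inl i0 → r = c) ∧ (a = .inr il → r = σ c) := by
          intro a
          by_cases ha : lv a = lv (Sum.inl i0 : SIdx m)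
          · rcases lv_eq.1 ha with rfl | rfl
            · exact ⟨_, ge0, fun _ => rfl, fun e => by simp at e⟩
            · exact ⟨_, gf0, fun e => by simp [ng] at e, fun e => absurd
                (show lv (Sum.inl i0 : SIdx m) = lv (Sum.inl il) by simpa [ng, lv] using e) h0l⟩
          by_cases hb : lv a = lv (Sum.inl il : SIdx m)
          · rcases lv_eq.1 hb with rfl | rfl
            · exact ⟨_, gel, fun e => absurd (congrArg lv e) ha, fun e => by simp at e⟩
            · exact ⟨_, gfl, fun e => absurd (congrArg lv e) ha, fun _ => rfl⟩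
          exact ⟨1, by rw [one_smul]; exact φ.smul_hW_ev h0l c ha hb, fun e => absurd (congrArg lv e) ha,
            fun e => absurd (congrArg lv e) hb⟩
        choose r hr h1 h2 using hgev
        refine ⟨φ.hW hh (.inl i0) (.inl il) c, hroot ▸ mul_mem (φ.nW_mem_root _ _ _) (φ.nW_mem_root _ _ _), r, 1,
          hr, by rw [one_smul]; exact φ.smul_hW_perp h0l c hw0, by rw [h1 _ rfl, mul_one]; exact hσc0, ?_, ?_⟩
        · rw [h1 _ rfl, mul_one]; exact gσ _ hcord
        · rw [h2 _ rfl, hh.invol, mul_one]; exact hc1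
    have hgp' : ∀ w, φ.Perp w → g • w = κ • w := fun w hw => by
      obtain ⟨x, rfl⟩ := hspan w hw
      rw [smul_comm g, hgp, smul_comm x κ]
    have hcomm : Commute g (N * g * N⁻¹) := φ.commute_conj hm hNm hNp r κ hr hgp'
    refine done g w0 s hgS fun H hgH hbH => ?_
    obtain ⟨hne1, hgen⟩ := gen _ hχ0 hχord
    have key := root_subgroup_of_pair (H := H) (φ.pair_self (.inl i0)) (hw0 _) hs (hr (.inl i0)) hgp
      (conj_eigen hα0 p0 (hr (.inr il))) (conj_eigen one_ne_zero (by rw [one_smul, hNp w0 hw0]) hgp) hcomm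
      hne1 hχ' hgen hgH hbH
    have hy : w0 ∈ φ.ySub hh H (.inl i0) := ⟨hw0 _, fun t => by
      obtain ⟨s', h1, h2, -⟩ := key t; exact ⟨s', h1, h2⟩⟩
    have hT := wholeT_of_ySub hy hy hne
    obtain ⟨s', h1, h2, -⟩ := key 1
    rw [one_smul] at h1 h2
    have hsk : s - s' + σ (s - s') = 0 := by rw [map_sub]; linear_combination hs - h1
    have := H.mul_mem (hT (s - s') hsk) h2
    rw [uR_mul hh (φ.pair_self _) (map_zero _) (by simpa using hsk) (hw0 _) h1, zero_add, map_zero,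
      LinearMap.zero_apply, sub_zero, sub_add_cancel] at this
    exact ⟨this, Or.inr ⟨w0, hw0, hne, hy, hspan⟩⟩

end UFrame

end Cfsg.Agent.TwoGen
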